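import Cfsg.Agent.TwoF.XE.Wt_m3
import Cfsg.Agent.OddHalf.D9.EEight.Id.InnerCore_m3
import Cfsg.Agent.H134.Sq.Base_m3
import Cfsg.Agent.H866.InvolType
import Cfsg.Agent.SporadicA.M24Trans
import Cfsg.Agent.Omega.TwoF.RowM12_m3
import Cfsg.Agent.H399.Gen.PairsM24
import Cfsg.Agent.H334.Ore.M23
import Cfsg.Agent.H733.EP.MCent
import Cfsg.Agent.S2037
import Cfsg.Agent.S2038
import Cfsg.Agent.S2060
import Cfsg.Agent.S2063
import Cfsg.Agent.S2064
import Cfsg.Agent.TwoF.SpO.Prod
import Cfsg.Agent.TwoF.Gen.BLay_m3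
import Cfsg.Agent.TAB.Co2.Main
import Cfsg.Agent.TAB.J4.RkD_m3
import Cfsg.Agent.H220.S4096.RowCo2
import Cfsg.Agent.H49.CoStab
import Cfsg.Agent.S2044
import Cfsg.Agent.S2045
import Cfsg.Agent.S2070
import Cfsg.Agent.S2071
import Cfsg.Agent.SporadicA.Co1Simple
import Cfsg.Agent.S5549
import Cfsg.Agent.TAB.Co1.Tab
import Cfsg.Agent.S0398
import Cfsg.Agent.S0399
import Cfsg.Agent.S2043
import Cfsg.Agent.S2069
import Cfsg.Agent.Lib.PackMat
import Cfsg.Agent.Involutions.NormalFour
import Cfsg.Agent.H334.Ore.M22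
import Cfsg.Agent.H452.RG.ReeOuter_m3
import Cfsg.Agent.H994.TwoGen.M22
import Cfsg.Agent.H333.QS6.Lift
import Cfsg.Agent.S2036
import Cfsg.Agent.S2062
import Cfsg.Agent.H831.FF.Trace
import Cfsg.Agent.H950.FF.CoTr_m3
import Cfsg.Agent.TwoF.SpE.SuzCov
import Cfsg.Agent.LThreeCo1.FourCo1
import Cfsg.Agent.H388.CoMat.Base
import Cfsg.Agent.H861.Gen.CoOne
import Cfsg.Agent.TwoF.SpB.C1Small
import Cfsg.Agent.H966.Gen.CoTwo
import Cfsg.Agent.CoFive.Dims
import Cfsg.Agent.Co2Type.FactsClass
import Cfsg.Agent.S0400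
import Cfsg.Agent.SevenLow.MTwelve
import Cfsg.Agent.BMx.Base
import Cfsg.Agent.Lib.ListFast
import Cfsg.Agent.H419.Spor.M12
import Cfsg.Agent.H994.TwoGen.M12
import Cfsg.Agent.S2035
import Cfsg.Agent.S2061
import Cfsg.Agent.H729.TransFast
import Cfsg.Agent.TwoF.XS.P2.Gen_m3
import Cfsg.Agent.H839.Rad.HNFive
import Cfsg.Agent.KFacts.HN.Sheet
import Cfsg.Agent.H979.OddB
import Cfsg.Agent.H285.Gen.HNChain
import Cfsg.Agent.H285.Gen.HNFive
import Cfsg.Agent.SB.SporD.HNF5a
import Cfsg.Agent.H277.U33.Psu_m3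
import Cfsg.Agent.S2056
import Cfsg.Agent.S2082
import Cfsg.Agent.TwoF.XS.S62.Main_mg_m3
import Cfsg.Agent.H912.CrossList_m3
import Cfsg.Agent.S2089
import Cfsg.Agent.H597.HT6.UGrp
import Cfsg.Agent.Mrg.Omega.TwoF.RkPSU
import Cfsg.Agent.LieClassical.HermPerfect
import Cfsg.Agent.S0279
import Cfsg.Agent.Lib.Refl
import Cfsg.Agent.FastGrp
import Cfsg.Agent.Prune
set_option linter.all false

section
prune_inst 0x7ff4fcf9abb8bddfdfff7e3faed8dffc21805fffe6dff94bffe06bff2bdf23020bc5fbaf8de010fe1ed6621410b87843f97e8e7ee829dc7ffffd5ff41ffbee0ff5f7b508519498340fbc0fff03e0778e7f3fffffffffffffffffffffffffffaeffbfffffffff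

-- part: TwoF/SpA/M24_mg
section
prune_inst 0x90300140440002000000051240000100680000900000000049400440000a50000000000004800c02080a800000000008120800000000000000000000000400208002520492480104260009010000000000000000000000000000000000051004000000000
set_option linter.all false
open scoped Cfsg.Agent.FastGrp
private noncomputable def lq26b50ef2b3 {T : Sort _} (f :
    type_of% (@_root_.List.cons.{0} (Int)) →
    type_of% (@_root_.List.cons.{0}) →
    type_of% (@_root_.List.nil.{0}) →
    type_of% (@_root_.List.cons.{0} (Nat)) →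
    type_of% (@_root_.Prod.mk.{0, 0}) →
    type_of% (@_root_.Matrix.vecCons.{0}) →
    type_of% (@_root_.Option.some.{0}) →
    type_of% (@_root_.Nat.add) →
    type_of% (@_root_.Nat.mul) →
    type_of% (@_root_.Nat.succ) →
    type_of% (@_root_.Int.mul) →
    type_of% (@_root_.Cfsg.Agent.TwoF.SpO.okSplit) →
    type_of% (@_root_.Cfsg.Agent.TAB.Co3.D) →
    type_of% (@_root_.Cfsg.Agent.TAB.Sm2.mkRows) →
    type_of% (@_root_.Cfsg.Agent.TAB.Co3.A) →
    type_of% (@_root_.Cfsg.Agent.TAB.Co3.B) →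
    type_of% (@_root_.Option.none.{0}) →
    type_of% (@_root_.Matrix.vecEmpty.{0}) → T) : T :=
  f (@_root_.List.cons.{0} (Int)) (@_root_.List.cons.{0}) (@_root_.List.nil.{0}) (@_root_.List.cons.{0} (Nat)) (@_root_.Prod.mk.{0, 0}) (@_root_.Matrix.vecCons.{0}) (@_root_.Option.some.{0}) (@_root_.Nat.add) (@_root_.Nat.mul) (@_root_.Nat.succ) (@_root_.Int.mul) (@_root_.Cfsg.Agent.TwoF.SpO.okSplit) (@_root_.Cfsg.Agent.TAB.Co3.D) (@_root_.Cfsg.Agent.TAB.Sm2.mkRows) (@_root_.Cfsg.Agent.TAB.Co3.A) (@_root_.Cfsg.Agent.TAB.Co3.B) (@_root_.Option.none.{0}) (@_root_.Matrix.vecEmpty.{0})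

-- part: TwoF/SpA/Pt
section
/-!
# TwoF SP-A: computing in groups embedded in `M24` (helper86)

* `Emb G g`, `Wd` : relations between packed permutations hold in `G`;
* `pure_le`, `rank_six`, `rank_twelve`, `row_odd24` : elementary abelian subgroups.
-/

set_option autoImplicit false

namespace Cfsg.Agent.TwoF.SpA

open Cfsg Module Gen Subgroup
open SporadicA.GolayBase SporadicA.GolayPerm SporadicStructure.M24El H729.Trans H729.MData H729.Count
open J4.M24InvolData (P1 P2)

/-- expressions in packed permutations -/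
inductive Wd
  | c (n : ℕ)
  | mul (a b : Wd)
  | pw (a : Wd) (n : ℕ)

/-- the packed value -/
def Wd.val : Wd → ℕ
  | .c n => n
  | .mul a b => pcomp a.val b.val
  | .pw a n => ppow a.val n

/-- all the letters are admissible -/
def Wd.chk (g : ℕ → Bool) : Wd → Bool
  | .c n => ok n && g n
  | .mul a b => a.chk g && b.chk g
  | .pw a _ => a.chk g

/-- the value in a group -/
def Wd.ev {G : Type*} [Group G] (l : ℕ → G) : Wd → G
  | .c n => l n
  | .mul a b => a.ev l * b.ev l
  | .pw a n => a.ev l ^ n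

/-- strictly increasing -/
def incB : List ℕ → Bool
  | a :: b :: l => Nat.blt a b && incB (b :: l)
  | _ => true

theorem nodup_of_incB : ∀ {l : List ℕ}, incB l = true → l.Pairwise (· < ·)
  | [], _ => List.Pairwise.nil
  | [_], _ => List.pairwise_singleton _ _
  | a :: b :: l, h => by
    rw [incB, Bool.and_eq_true, Nat.blt_eq] at h
    have h1 := nodup_of_incB h.2
    refine List.pairwise_cons.2 ⟨fun x hx => ?_, h1⟩
    rcases List.mem_cons.1 hx with rfl | hx
    · exact h.1
    · exact h.1.trans ((List.pairwise_cons.1 h1).1 x hx)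

theorem card_le_of_list {G : Type*} [Group G] {H : Subgroup G} (l : ℕ → G) (L : List ℕ)
    (h : ∀ x ∈ H, ∃ c ∈ L, x = l c) : Nat.card H ≤ L.length := by
  classical
  have h1 : (H : Set G) ⊆ ((L.map l).toFinset : Set G) := fun x hx => by
    obtain ⟨c, h2, rfl⟩ := h x hx
    exact List.mem_toFinset.2 (List.mem_map_of_mem h2)
  have h2 := Set.ncard_le_ncard h1
  rw [Set.ncard_coe_finset] at h2
  exact h2.trans ((List.toFinset_card_le _).trans (List.length_map _).le)

/-- an embedding in `M24`; the tables with `g c` are in the image -/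
structure Emb (G : Type*) [Group G] (g : ℕ → Bool) where
  ψ : G →* M24
  inj : Function.Injective ψ
  ex : ∀ c, ok c = true → g c = true → ∃ x, ψ x = el c

namespace Emb

variable {G : Type*} [Group G] {g : ℕ → Bool} (E : Emb G g)

open Classical in
/-- the element with the table `c` -/
noncomputable def l (c : ℕ) : G := if h : ∃ x, E.ψ x = el c then h.choose else 1

theorem ψ_l {c : ℕ} (h : ∃ x, E.ψ x = el c) : E.ψ (E.l c) = el c := by
  rw [l, dif_pos h]; exact h.choose_spec

theorem l_eq {c : ℕ} {x : G} (h : E.ψ x = el c) : x = E.l c := E.inj (h.trans (E.ψ_l ⟨x, h⟩).symm)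

theorem l_idP : E.l idP = 1 := (E.l_eq (by rw [map_one, el_idP])).symm

theorem spec : ∀ w : Wd, w.chk g = true → ok w.val = true ∧ E.ψ (w.ev E.l) = el w.val
  | .c n, h => by
    rw [Wd.chk, Bool.and_eq_true] at h
    exact ⟨h.1, E.ψ_l (E.ex n h.1 h.2)⟩
  | .mul a b, h => by
    rw [Wd.chk, Bool.and_eq_true] at h
    obtain ⟨h1, h2⟩ := spec a h.1
    obtain ⟨h3, h4⟩ := spec b h.2
    exact ⟨ok_pcomp h1 h3, by rw [Wd.ev, Wd.val, map_mul, h2, h4, el_pcomp h1 h3]⟩
  | .pw a n, h => by
    obtain ⟨h1, h2⟩ := spec a h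
    exact ⟨ok_ppow h1 n, by rw [Wd.ev, Wd.val, map_pow, h2, el_ppow h1]⟩

theorem eq (u w : Wd) (h : (u.chk g && (w.chk g && Nat.beq u.val w.val)) = true) : u.ev E.l = w.ev E.l := by
  rw [Bool.and_eq_true, Bool.and_eq_true, Nat.beq_eq] at h
  exact E.inj (by rw [(E.spec u h.1).2, (E.spec w h.2.1).2, h.2.2])

theorem one (u : Wd) (h : (u.chk g && Nat.beq u.val idP) = true) : u.ev E.l = 1 := by
  rw [Bool.and_eq_true, Nat.beq_eq] at h
  exact E.inj (by rw [(E.spec u h.1).2, h.2, el_idP, map_one])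

theorem can {u w : Wd} (hu : u.chk g = true) (hw : w.chk g = true) (h : u.ev E.l = w.ev E.l) :
    pcomp u.val idP = pcomp w.val idP := by
  obtain ⟨h1, h2⟩ := E.spec u hu
  obtain ⟨h3, h4⟩ := E.spec w hw
  refine pcomp_idP_congr fun i hi => ?_
  rw [← H334.Ore.Mat.im_el h1 hi, ← H334.Ore.Mat.im_el h3 hi, ← h2, ← h4, h]

theorem ne (u w : Wd) (h : (u.chk g && (w.chk g && !Nat.beq (pcomp u.val idP) (pcomp w.val idP))) = true) :
    u.ev E.l ≠ w.ev E.l := fun e => by
  rw [Bool.and_eq_true, Bool.and_eq_true] at h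
  rw [E.can h.1 h.2.1 e, Nat.beq_refl] at h
  exact Bool.noConfusion h.2.2

theorem ne_one (u : Wd) (h : (u.chk g && !Nat.beq (pcomp u.val idP) idP) = true) : u.ev E.l ≠ 1 := fun e => by
  rw [Bool.and_eq_true] at h
  obtain ⟨h1, h2⟩ := E.spec u h.1
  have h3 : pcomp u.val idP = pcomp idP idP := pcomp_idP_congr fun i hi => by
    rw [← H334.Ore.Mat.im_el h1 hi, ← H334.Ore.Mat.im_el ok_idP hi, ← h2, e, map_one, el_idP]
  rw [h3] at h
  exact absurd h.2 (by decide +kernel)

theorem conj (a x y : Wd) (h : ((a.mul x).chk g && ((y.mul a).chk g && Nat.beq (a.mul x).val (y.mul a).val)) = true) :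
    a.ev E.l * x.ev E.l * (a.ev E.l)⁻¹ = y.ev E.l := mul_inv_eq_of_eq_mul (E.eq _ _ h)

theorem inv (t y : Wd)
    (h : ((y.mul (t.mul y)).chk g && (t.chk g && Nat.beq (y.mul (t.mul y)).val t.val)) = true) :
    t.ev E.l * y.ev E.l * (t.ev E.l)⁻¹ = (y.ev E.l)⁻¹ :=
  mul_inv_eq_of_eq_mul (eq_inv_mul_of_mul_eq (E.eq _ _ h))

theorem pow (a n : ℕ) (h : ((Wd.pw (.c a) n).chk g && Nat.beq (Wd.pw (.c a) n).val idP) = true) : E.l a ^ n = 1 :=
  E.one (.pw (.c a) n) h

theorem prod_mem {gl : List ℕ} (hg : (gl.all fun c => ok c && g c) = true) {H : Subgroup G}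
    (hH : ∀ c ∈ gl, E.l c ∈ H) : ∀ w : List ℕ, ∃ x ∈ H, E.ψ x = el (prodW gl w)
  | [] => ⟨1, one_mem _, by rw [map_one, prodW, el_idP]⟩
  | i :: w => by
    have h0 : ∀ P ∈ gl, ok P = true := fun P hP => (Bool.and_eq_true_iff.1 (List.all_eq_true.1 hg P hP)).1
    obtain ⟨x, h1, h2⟩ := prod_mem hg hH w
    rw [prodW, el_pcomp (ok_getD h0 i) (ok_prodW h0 w), ← h2]
    rcases Nat.lt_or_ge i gl.length with h | h
    · rw [List.getD_eq_getElem _ _ h]
      exact ⟨_, mul_mem (hH _ (List.getElem_mem h)) h1, by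
        rw [map_mul]
        exact congrArg (· * _) (E.spec (.c _) (List.all_eq_true.1 hg _ (List.getElem_mem h))).2⟩
    · rw [List.getD_eq_default _ _ h, el_idP, one_mul]
      exact ⟨x, h1, rfl⟩

/-- membership by a word in elements of the subgroup -/
theorem mem (gl : List ℕ) {H : Subgroup G} (hH : ∀ c ∈ gl, E.l c ∈ H) (w : List ℕ) (u : Wd)
    (h : ((gl.all fun c => ok c && g c) && (u.chk g && Nat.beq (prodW gl w) u.val)) = true) : u.ev E.l ∈ H := by
  rw [Bool.and_eq_true, Bool.and_eq_true, Nat.beq_eq] at h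
  obtain ⟨x, h1, h2⟩ := E.prod_mem h.1 hH w
  rwa [E.inj (h2.trans (h.2.2 ▸ (E.spec u h.2.1).2.symm))] at h1

/-- generation : words for two known generators -/
theorem gen {X Y : ℕ} (h0 : closure {E.l X, E.l Y} = ⊤) (gl : List ℕ) {H : Subgroup G} (hH : ∀ c ∈ gl, E.l c ∈ H)
    (u w : List ℕ) (h : ((gl.all fun c => ok c && g c) && (((Wd.c X).chk g && Nat.beq (prodW gl u) X) &&
      ((Wd.c Y).chk g && Nat.beq (prodW gl w) Y))) = true) : H = ⊤ := by
  rw [Bool.and_eq_true, Bool.and_eq_true] at h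
  refine top_le_iff.1 (h0 ▸ (closure_le _).2 ?_)
  rintro _ (rfl | rfl)
  · exact E.mem gl hH u (.c X) (Bool.and_eq_true_iff.2 ⟨h.1, h.2.1⟩)
  · exact E.mem gl hH w (.c Y) (Bool.and_eq_true_iff.2 ⟨h.1, h.2.2⟩)

theorem gen₂ {X Y : ℕ} (h0 : closure {E.l X, E.l Y} = ⊤) (a b : ℕ) (u w : List ℕ)
    (h : (([a, b].all fun c => ok c && g c) && (((Wd.c X).chk g && Nat.beq (prodW [a, b] u) X) &&
      ((Wd.c Y).chk g && Nat.beq (prodW [a, b] w) Y))) = true) : closure {E.l a, E.l b} = ⊤ :=
  E.gen h0 [a, b] (fun c hc => Subgroup.subset_closure (by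
    rcases List.mem_pair.1 hc with rfl | rfl <;> simp)) u w h

/-- a list of different elements -/
def lst (g : ℕ → Bool) (L : List ℕ) : Bool := incB L && L.all fun c => (ok c && g c) && Nat.beq (pcomp c idP) c

theorem lst_chk {L : List ℕ} (h : lst g L = true) {c : ℕ} (hc : c ∈ L) : (Wd.c c).chk g = true :=
  (Bool.and_eq_true_iff.1 (List.all_eq_true.1 (Bool.and_eq_true_iff.1 h).2 c hc)).1

theorem card_lst [DecidableEq G] {L : List ℕ} (h : lst g L = true) : (L.map E.l).toFinset.card = L.length := by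
  have h1 := fun c hc => Nat.eq_of_beq_eq_true
    (Bool.and_eq_true_iff.1 (List.all_eq_true.1 (Bool.and_eq_true_iff.1 h).2 c hc)).2
  rw [List.toFinset_card_of_nodup, List.length_map]
  refine List.Nodup.map_on (fun a ha b hb e => ?_) ((nodup_of_incB (Bool.and_eq_true_iff.1 h).1).imp ne_of_lt)
  exact (h1 a ha).symm.trans ((E.can (lst_chk h ha) (lst_chk h hb) e).trans (h1 b hb))

theorem length_le [Finite G] {L : List ℕ} (h : lst g L = true) {H : Subgroup G} (hH : ∀ c ∈ L, E.l c ∈ H) :
    L.length ≤ Nat.card H := by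
  classical
  rw [← E.card_lst h, ← Set.ncard_coe_finset]
  refine Set.ncard_le_ncard (t := (H : Set G)) fun x hx => ?_
  obtain ⟨c, hc, rfl⟩ := List.mem_map.1 (List.mem_toFinset.1 hx)
  exact hH c hc

theorem surj [Finite G] {L : List ℕ} (h : lst g L = true) {H : Subgroup G} (hH : ∀ c ∈ L, E.l c ∈ H)
    (hc : Nat.card H ≤ L.length) {x : G} (hx : x ∈ H) : ∃ c ∈ L, x = E.l c := by
  classical
  have h1 : ((L.map E.l).toFinset : Set G) = (H : Set G) := Set.eq_of_subset_of_ncard_le (fun y hy => by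
    obtain ⟨c, hc, rfl⟩ := List.mem_map.1 (List.mem_toFinset.1 hy)
    exact hH c hc) (by rw [Set.ncard_coe_finset, E.card_lst h]; exact hc)
  have h2 : x ∈ ((L.map E.l).toFinset : Set G) := h1 ▸ hx
  obtain ⟨c, hc, rfl⟩ := List.mem_map.1 (List.mem_toFinset.1 h2)
  exact ⟨c, hc, rfl⟩

/-- the elements of the subgroup generated by `gl` are in a list which is closed under multiplication -/
theorem enum [Finite G] {gl L : List ℕ} (h : lst g L = true)
    (hc : (L.elem idP && gl.all fun a => (ok a && g a) && L.all fun c => L.elem (pcomp a c)) = true) {x : G}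
    (hx : x ∈ closure (E.l '' {c | c ∈ gl})) : ∃ c ∈ L, x = E.l c := by
  rw [Bool.and_eq_true] at hc
  rw [← mem_toSubmonoid, closure_toSubmonoid_of_finite] at hx
  induction hx using Submonoid.closure_induction_left with
  | one => exact ⟨idP, List.mem_of_elem_eq_true hc.1, E.l_idP.symm⟩
  | mul_left a ha x _ ih =>
    obtain ⟨a, ha, rfl⟩ := ha
    obtain ⟨c, h1, rfl⟩ := ih
    obtain ⟨h2, h3⟩ := Bool.and_eq_true_iff.1 (List.all_eq_true.1 hc.2 a ha)
    exact ⟨_, List.mem_of_elem_eq_true (List.all_eq_true.1 h3 c h1),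
      E.l_eq (E.spec (.mul (.c a) (.c c)) (Bool.and_eq_true_iff.2 ⟨h2, lst_chk h h1⟩)).2⟩

/-- the subgroup generated by a list -/
def sub (gl : List ℕ) : Subgroup G := closure (E.l '' {c | c ∈ gl})

theorem mem_sub {gl : List ℕ} {c : ℕ} (h : c ∈ gl) : E.l c ∈ E.sub gl := Subgroup.subset_closure ⟨c, h, rfl⟩

theorem sub_le {gl : List ℕ} {H : Subgroup G} (h : ∀ c ∈ gl, E.l c ∈ H) : E.sub gl ≤ H :=
  (closure_le _).2 (by rintro _ ⟨c, hc, rfl⟩; exact h c hc)

theorem elemAb_sub (p : ℕ) (gl : List ℕ) (h : (gl.all fun a => ((ok a && g a) && Nat.beq (ppow a p) idP) &&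
    gl.all fun b => Nat.beq (pcomp a b) (pcomp b a)) = true) : IsElementaryAbelian p (E.sub gl) := by
  have h1 := fun a ha => Bool.and_eq_true_iff.1 (List.all_eq_true.1 h a ha)
  have h2 := fun a ha => (Bool.and_eq_true_iff.1 (h1 a ha).1).1
  refine elemAb_closure ?_ ?_
  · rintro _ ⟨a, ha, rfl⟩ _ ⟨b, hb, rfl⟩
    exact E.eq (.mul (.c a) (.c b)) (.mul (.c b) (.c a)) (Bool.and_eq_true_iff.2 ⟨Bool.and_eq_true_iff.2
      ⟨h2 a ha, h2 b hb⟩, Bool.and_eq_true_iff.2 ⟨Bool.and_eq_true_iff.2 ⟨h2 b hb, h2 a ha⟩,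
        List.all_eq_true.1 (h1 a ha).2 b hb⟩⟩)
  · rintro _ ⟨a, ha, rfl⟩
    exact E.pow a p (h1 a ha).1

/-- `y` normalises the subgroup generated by `gl`, whose elements `L` are known -/
theorem norm_sub [Finite G] {gl L : List ℕ} (hL : ∀ c ∈ L, E.l c ∈ E.sub gl) (y : ℕ)
    (h : (gl.all fun a => L.any fun c => ((Wd.c y).mul (.c a)).chk g && (((Wd.c c).mul (.c y)).chk g &&
      Nat.beq (pcomp y a) (pcomp c y))) = true) : E.l y ∈ normalizer (E.sub gl : Set G) := by
  refine mem_normalizer_closure ?_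
  rintro _ ⟨a, ha, rfl⟩
  obtain ⟨c, h1, h2⟩ := List.any_eq_true.1 (List.all_eq_true.1 h a ha)
  exact (E.conj (.c y) (.c a) (.c c) h2 : E.l y * E.l a * (E.l y)⁻¹ = E.l c) ▸ hL c h1

/-- all the products of subsets of `gl` -/
def prods : List ℕ → List ℕ
  | [] => [idP]
  | a :: l => prods l ++ (prods l).map (pcomp a)

theorem prods_mem {H : Subgroup G} : ∀ {gl : List ℕ}, (gl.all fun c => ok c && g c) = true → (∀ c ∈ gl, E.l c ∈ H) →
    ∀ c ∈ prods gl, ok c = true ∧ E.ψ (E.l c) = el c ∧ E.l c ∈ H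
  | [], _, _, c, hc => by
    rw [List.mem_singleton.1 hc, E.l_idP, map_one, el_idP]
    exact ⟨ok_idP, rfl, one_mem _⟩
  | a :: l, h, hH, c, hc => by
    rw [List.all_cons, Bool.and_eq_true] at h
    have ih := prods_mem h.2 fun c hc => hH c (List.mem_cons_of_mem _ hc)
    rcases List.mem_append.1 hc with hc | hc
    · exact ih c hc
    · obtain ⟨b, hb, rfl⟩ := List.mem_map.1 hc
      obtain ⟨h1, h2, h3⟩ := ih b hb
      obtain ⟨h4, h5⟩ := E.spec (.c a) h.1
      have h6 : E.ψ (E.l a * E.l b) = el (pcomp a b) := by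
        rw [map_mul, h2, el_pcomp (P := a) h4 h1]; exact congrArg (· * _) h5
      exact ⟨ok_pcomp h4 h1, E.ψ_l ⟨_, h6⟩, E.l_eq h6 ▸ mul_mem (hH a List.mem_cons_self) h3⟩

theorem mem_of_prods {gl L : List ℕ} (h : ((gl.all fun c => ok c && g c) && L.all (prods gl).elem) = true) :
    ∀ c ∈ L, E.l c ∈ E.sub gl := fun c hc =>
  (E.prods_mem (Bool.and_eq_true_iff.1 h).1 (fun _ => E.mem_sub) c
    (List.mem_of_elem_eq_true (List.all_eq_true.1 (Bool.and_eq_true_iff.1 h).2 c hc))).2.2

end Emb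

/-! ### elementary abelian subgroups of `M24` -/

/-- the number of fixed points -/
abbrev nf (g : M24) : ℕ := H866.InvolType.fx (g : Equiv.Perm GolayPt)

theorem card24 : Nat.card M24 = 244823040 := SporadicA.M24Trans.card_M24

instance finite24 : Finite M24 := Nat.finite_of_card_ne_zero (by rw [card24]; norm_num)

theorem kinds {u : M24} (h2 : u ^ 2 = 1) (h1 : u ≠ 1) :
    (IsConj u (el P1) ∧ nf u = 8) ∨ (IsConj u (el P2) ∧ nf u = 0) := by
  obtain ⟨h, hh, ⟨e, e0⟩ | ⟨e, e0⟩⟩ := H866.InvolType.invol_type u.2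
    (orderOf_eq_prime (congrArg Subtype.val h2) fun h => h1 (Subtype.ext h))
  · exact Or.inl ⟨isConj_iff.2 ⟨⟨h, hh⟩, Subtype.ext (e.trans H866.InvolType.coe_el_P1.symm)⟩, e0⟩
  · exact Or.inr ⟨isConj_iff.2 ⟨⟨h, hh⟩, Subtype.ext (e.trans H866.InvolType.coe_el_P2.symm)⟩, e0⟩

theorem ncard_le_nf {u : M24} {T : Set GolayPt} (h : ∀ p ∈ T, u • p = p) : T.ncard ≤ nf u := by
  rw [nf, H866.InvolType.fx_eq_ncard]
  exact Set.ncard_le_ncard fun p hp => ⟨trivial, h p hp⟩

theorem kind_of_fix {u : M24} (h2 : u ^ 2 = 1) (h1 : u ≠ 1) {p : GolayPt} (hp : u • p = p) :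
    IsConj u (el P1) ∧ nf u = 8 := (kinds h2 h1).resolve_right fun h => by
  have := ncard_le_nf (T := {p}) (by rintro _ rfl; exact hp)
  rw [Set.ncard_singleton, h.2] at this
  omega

/-- Burnside's count for a group all of whose elements `≠ 1` have eight fixed points -/
theorem pure_le {B : Subgroup M24} (h : ∀ b ∈ B, b ≠ 1 → nf b = 8) : Nat.card B ≤ 16 := by
  classical
  have : Fintype B := Fintype.ofFinite _
  have : Fintype (Quotient (MulAction.orbitRel B GolayPt)) := Fintype.ofFinite _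
  have h1 := MulAction.sum_card_fixedBy_eq_card_orbits_mul_card_group B GolayPt
  have h2 : ∀ b : B, Fintype.card (MulAction.fixedBy GolayPt b) = 8 + if b = 1 then 16 else 0 := fun b => by
    have h3 : Fintype.card (MulAction.fixedBy GolayPt b) = nf b := by
      rw [Fintype.card_subtype]; rfl
    rw [h3]
    split_ifs with e
    · subst e
      exact (by decide : H866.InvolType.fx 1 = 8 + 16)
    · exact h b b.2 fun e' => e (Subtype.ext e')
  rw [Finset.sum_congr rfl fun b _ => h2 b, Finset.sum_add_distrib, Finset.sum_ite_eq', if_pos (Finset.mem_univ _),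
    Finset.sum_const, Finset.card_univ, smul_eq_mul] at h1
  rw [Nat.card_eq_fintype_card]
  exact Nat.le_of_dvd (by norm_num) ((Nat.dvd_add_right (dvd_mul_right _ _)).1 (h1 ▸ dvd_mul_left _ _))

theorem fix_le {B : Subgroup M24} (hB : IsElementaryAbelian 2 B) {p : GolayPt} (h : ∀ b ∈ B, b • p = p) :
    Nat.card B ≤ 16 := pure_le fun b hb h1 => (kind_of_fix (hB.2 b hb) h1 (h b hb)).2

theorem exists_fix {B : Subgroup M24} {T : Set GolayPt} {q : GolayPt} (hT : ∀ b ∈ B, b • q ∈ T)
    (h : T.ncard < Nat.card B) : ∃ a ∈ B, a ≠ 1 ∧ a • q = q := by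
  by_contra! e
  refine h.not_ge (Nat.card_le_card_of_injective (fun b : B => (⟨_, hT b b.2⟩ : T)) fun a b hab => ?_)
  have h1 : (a : M24) • q = (b : M24) • q := congrArg Subtype.val hab
  by_contra h2
  exact e _ (mul_mem (inv_mem b.2) a.2) (fun h3 => h2 (Subtype.ext (inv_mul_eq_one.1 h3).symm))
    (by rw [mul_smul, h1, inv_smul_smul])

/-- **the 2-rank of `M24` is at most six** -/
theorem rank_six {A : Subgroup M24} (hA : IsElementaryAbelian 2 A) : Nat.card A < 128 := by
  by_contra! h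
  let O : GolayPt → Set GolayPt := fun p => MulAction.orbit A p
  let S : GolayPt → Subgroup M24 := fun p => (MulAction.stabilizer A p).map A.subtype
  have hS : ∀ p, ∀ a ∈ S p, a ∈ A ∧ a • p = p := by
    rintro p _ ⟨a, ha, rfl⟩
    exact ⟨a.2, ha⟩
  have h1 : ∀ p, Nat.card (S p) * (O p).ncard = Nat.card A := fun p => by
    rw [card_map_of_injective A.subtype_injective, ← MulAction.index_stabilizer, card_mul_index]
  have h2 : ∀ p, Nat.card (S p) ≤ 16 := fun p =>
    fix_le (elemAb_of_le hA fun a ha => (hS p a ha).1) fun a ha => (hS p a ha).2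
  have h3 : ∀ a ∈ A, ∀ p, a • p = p → ∀ q ∈ O p, a • q = q := by
    rintro a ha p hp _ ⟨b, rfl⟩
    change a • (b : M24) • p = (b : M24) • p
    rw [← mul_smul, elemAb_comm hA ha b.2, mul_smul, hp]
  have h4 : ∀ p, 8 ≤ (O p).ncard := fun p => by
    have := h1 p; have := h2 p
    by_contra! e
    nlinarith
  have h5 : ∀ p, ∃ a ∈ A, a ≠ 1 ∧ a • p = p := fun p => exists_fix (T := Set.univ) (fun _ _ => trivial) (by
    rw [Set.ncard_univ, Nat.card_eq_fintype_card, show Fintype.card GolayPt = 24 by decide]; omega)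
  have h6 : ∀ p, (O p).ncard ≤ 8 := fun p => by
    obtain ⟨a, ha, h7, h8⟩ := h5 p
    exact (ncard_le_nf (h3 a ha p h8)).trans (kind_of_fix (hA.2 a ha) h7 h8).2.le
  obtain ⟨q, hq⟩ : ∃ q, q ∉ O none := by
    by_contra! e
    have := h6 none
    rw [Set.eq_univ_of_forall e, Set.ncard_univ, Nat.card_eq_fintype_card, show Fintype.card GolayPt = 24 by decide]
      at this
    omega
  obtain ⟨a, ha, h7, h8⟩ := exists_fix (B := S none) (T := O q) (q := q) (fun b hb => ⟨⟨b, (hS _ b hb).1⟩, rfl⟩) (by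
    have := h1 none; have := h6 none; have := h6 q
    by_contra! e
    nlinarith)
  have h9 := ncard_le_nf (u := a) (T := insert q (O none)) (by
    rintro p (rfl | hp)
    · exact h8
    · exact h3 a (hS _ a ha).1 _ (hS _ a ha).2 p hp)
  rw [Set.ncard_insert_of_notMem hq, (kind_of_fix (hA.2 a (hS _ a ha).1) h7 h8).2] at h9
  have := h4 none
  omega

/-- **the 2-rank of `M12` is at most three** -/
theorem rank_twelve {B : Subgroup Spor.M12} (hB : IsElementaryAbelian 2 B) : Nat.card B ≤ 2 ^ 3 := by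
  obtain ⟨P, hP⟩ := (elemAb_isPGroup hB).exists_le_sylow
  obtain ⟨e⟩ := MTwelveType.SylowModel.exists_equiv P
  rw [← Nat.card_congr (subgroupOfEquivOfLe hP).toEquiv, ← card_map_of_injective (f := e.symm.toMonoidHom)
    e.symm.injective]
  refine Omega.TwoF.RowM12.card_le _ ?_
  rintro _ ⟨b, hb, rfl⟩
  rw [← map_mul, ← pow_two b, show b ^ 2 = 1 from Subtype.ext (hB.2 b hb), map_one]

/-- the identity embedding -/
noncomputable def E24 : Emb M24 fun _ => true := ⟨MonoidHom.id _, Function.injective_id, fun c _ _ => ⟨el c, rfl⟩⟩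

theorem E24_l (c : ℕ) : E24.l c = el c := (E24.l_eq rfl).symm

theorem heis24 : H859.Heis.Rel 3 (E24.l 798979904154526007224172884794680407)
    (E24.l 10674545948716134417625295951104051) (E24.l 966030378851641677139589673043527712) where
  ap := E24.pow _ _ (by decide +kernel)
  bp := E24.pow _ _ (by decide +kernel)
  wp := E24.pow _ _ (by decide +kernel)
  aw := E24.eq (.mul (.c _) (.c _)) (.mul (.c _) (.c _)) (by decide +kernel)
  bw := E24.eq (.mul (.c _) (.c _)) (.mul (.c _) (.c _)) (by decide +kernel)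
  ba := E24.eq (.mul (.c _) (.c _)) (.mul (.mul (.c _) (.c _)) (.c _)) (by decide +kernel)
  w1 := E24.ne_one (.c _) (by decide +kernel)

theorem odd_le {p : ℕ} [hp : Fact p.Prime] (h2 : p ≠ 2) {B : Subgroup M24} (hB : IsElementaryAbelian p B) :
    Nat.card B ≤ p ^ small p := by
  obtain ⟨j, hj⟩ := (elemAb_isPGroup hB).exists_card_eq
  rw [hj]
  refine Nat.pow_le_pow_right hp.out.pos ?_
  by_cases h3 : p = 3
  · subst h3
    rw [small_three]
    by_contra! e
    have := (SpD.heis_mem heis24 (by rw [card24]; norm_num) hB e.le hj).1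
    omega
  · rw [small_of_ne h2 h3]
    refine SpD.le_of_card hj fun h => ?_
    rw [card24, show 244823040 = 2 ^ 10 * 3 ^ 3 * (5 * 7 * 11 * 23) by norm_num] at h
    have h4 : Squarefree (5 * 7 * 11 * 23) := by decide +kernel
    exact hp.out.one_lt.ne' (Nat.isUnit_iff.1 (h4 p (pow_two p ▸ Nat.Coprime.dvd_of_dvd_mul_left
      (Nat.Coprime.pow_left 2 (Nat.Coprime.mul_right
        (((Nat.coprime_primes hp.out Nat.prime_two).2 h2).pow_right 10)
        (((Nat.coprime_primes hp.out Nat.prime_three).2 h3).pow_right 3))) h)))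

/-- the rows of the subgroups of `M24` in odd characteristic -/
theorem row_odd24 {p : ℕ} [hp : Fact p.Prime] (h2 : p ≠ 2) {S : Type} [Group S] (ψ : S →* M24)
    (hψ : Function.Injective ψ) (ho : Nat.card (Out S) ∣ 2) : Row p S :=
  row_of_card (fun h => h2 ((Nat.prime_dvd_prime_iff_eq hp.out Nat.prime_two).1 (h.trans ho))) fun B hB =>
    card_map_of_injective (K := B) hψ ▸ odd_le h2 (elemAb_map hB ψ)

/-- both rows follow if there is an offender in `K` and all the offenders in `K` are cubic -/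
theorem row_of_key {S : Type} [Group S]
    (h : ∀ (Y : Type) [Group Y] [Finite Y] (V : Type) [AddCommGroup V] [Module (ZMod 2) V] [Finite V]
      (K : Subgroup Y) (ρ : Representation (ZMod 2) Y V) (π : K →* S) (φ : Y →* MulAut S), Sit 2 K ρ π φ →
      (∀ A, Off 2 ρ A → ¬ A ≤ K → ∃ B ≤ K, Off 2 ρ B) ∧ ∀ B ≤ K, Off 2 ρ B → Cub ρ B) : Row 2 S := by
  refine ⟨row88_of_sit fun Y _ _ V _ _ _ K ρ π φ H A hA => ?_,
    row89_of_sit fun Y _ _ V _ _ _ K ρ π φ H A hA _ _ _ hK => (h Y V K ρ π φ H).1 A hA hK⟩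
  by_cases hK : A ≤ K
  · exact ⟨A, hA, (h Y V K ρ π φ H).2 A hK hA⟩
  · obtain ⟨B, h1, h2⟩ := (h Y V K ρ π φ H).1 A hA hK
    exact ⟨B, h2, (h Y V K ρ π φ H).2 B h1 h2⟩

end Cfsg.Agent.TwoF.SpA
end

-- part: TwoF/SpA/M24
section
/-!
# TwoF SP-A: the rows `M11`, `M23`, `M24` (helper86)
-/

set_option autoImplicit false

namespace Cfsg.Agent.TwoF.SpA

open Cfsg Module Gen Subgroup
open SporadicA.GolayBase SporadicA.GolayPerm SporadicStructure.M24El H729.Trans H729.MData H729.Count
open J4.M24InvolData (P1 P2)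

/-- the tables of elements of `M22` -/
def g22 (c : ℕ) : Bool := Nat.beq (papp c 23) 23 && Nat.beq (papp c 0) 0

/-- order 11 -/
def cx : ℕ := 961331994228015734230210538401924384
/-- order 5 -/
def cy : ℕ := 965129078198647342506919066949953568
/-- inverts `cy` -/
def ct : ℕ := 971833682212383564744611475376015392
/-- generators of the group of an octad -/
def gO : List ℕ := [956827830979578909122992877756665536, 958572087258221335466802466369198688,
  959343326376155661073924564280087200, 963480890888731968732817348222067264]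
/-- its elements -/
def LO : List ℕ := (beta% delta% lq26b50ef2b3 fun _ d e _ _ _ _ _ _ _ _ _ _ _ _ _ _ _ =>
 (d 956827830979578909122992877756665536<|d 958572087258221335466802466369198688<|
 d 959343326376155661073924564280087200<|d 961371847108530530539303909288119744<|d 963480890888731968732817348222067264<|
 d 964738521620414375563984741982610752<|d 966158389308529030942218518639679904<|d 967415563219785829743497253673672192<|
 d 969119267058609576570987380683784416<|d 972932217723957916728105504479693056<|d 973662282954993102379918393154851968<|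
 d 976704800380817189629205540512213280<|d 979179303860389796141219522509255872<|d 980234526417279051990584612315661376<|
 d 983560131021948119402835186027640928<|d 984818244535754528103549039458486304<|e))
/-- generators of the group of a tetrad -/
def gD : List ℕ := [959343326376155661073924564280087200, 959657915335457096287053162966886816,
  959823939071994704882402347086186784, 965823287528192349793434105431984800]
/-- its elements -/
def LD : List ℕ := (beta% delta% lq26b50ef2b3 fun _ d e _ _ _ _ _ _ _ _ _ _ _ _ _ _ _ =>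
 (d 959343326376155661073924564280087200<|d 959657915335457096287053162966886816<|
 d 959823939071994704882402347086186784<|d 960150551291455030601277714960422944<|d 965823287528192349793434105431984800<|
 d 966158389308529030942218518639679904<|d 966316884125651324823030022216880416<|d 966638655381185409036361429435295776<|
 d 976212164424819255319484583859460768<|d 976539006901119804582877792120867232<|d 976704800380817189629205540512213280<|
 d 977019619596958848382348384257970208<|d 984003106939601692373614345582652064<|d 984324647938295553064945932004594080<|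
 d 984483373012258070472260851719051552<|d 984818244535754528103549039458486304<|e))
/-- order 5, normalises the group of the tetrad -/
def yD : ℕ := 964594178777358266643794163916027584

/-- restriction of the admissible tables -/
def Emb.mono {G : Type*} [Group G] {g g' : ℕ → Bool} (E : Emb G g) (h : ∀ c, g' c = true → g c = true) : Emb G g' :=
  ⟨E.ψ, E.inj, fun c h1 h2 => E.ex c h1 (h c h2)⟩

section

variable {G : Type*} [Group G] (E : Emb G g22)

theorem x11 : E.l cx ^ 11 = 1 := E.pow _ _ (by decide +kernel)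
theorem x1 : E.l cx ≠ 1 := E.ne_one (.c _) (by decide +kernel)
theorem y5 : E.l cy ^ 5 = 1 := E.pow _ _ (by decide +kernel)
theorem y1 : E.l cy ≠ 1 := E.ne_one (.c _) (by decide +kernel)
theorem yx : E.l cy * E.l cx * (E.l cy)⁻¹ = E.l cx ^ 3 := E.conj (.c _) (.c _) (.pw (.c _) 3) (by decide +kernel)
theorem t2 : E.l ct ^ 2 = 1 := E.pow _ _ (by decide +kernel)
theorem t1 : E.l ct ≠ 1 := E.ne_one (.c _) (by decide +kernel)
theorem ty : E.l ct * E.l cy * (E.l ct)⁻¹ = (E.l cy)⁻¹ := E.inv (.c _) (.c _) (by decide +kernel)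
include E in
theorem dat22 : Dat G := ⟨_, _, _, x11 E, x1 E, y5 E, yx E, t2 E, t1 E, ty E⟩
theorem elO : IsElementaryAbelian 2 (E.sub gO) := E.elemAb_sub 2 gO (by decide +kernel)
theorem elD : IsElementaryAbelian 2 (E.sub gD) := E.elemAb_sub 2 gD (by decide +kernel)
theorem memO : ∀ c ∈ LO, E.l c ∈ E.sub gO := E.mem_of_prods (by decide +kernel)
theorem memD : ∀ c ∈ LD, E.l c ∈ E.sub gD := E.mem_of_prods (by decide +kernel)
theorem lstO : Emb.lst g22 LO = true := by decide +kernel

variable [Finite G] {V : Type*} [AddCommGroup V] [Module (ZMod 2) V] [Finite V] {ρ : Representation (ZMod 2) G V}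

omit [Finite V] in
theorem offO (h : cod ρ (E.sub gO) ≤ 8) : Off 2 ρ (E.sub gO) :=
  off_of_le (elO E) (r := 4) (by norm_num) (E.length_le lstO (memO E)) h

/-- in dimension at most 12 one of the two groups of order 16 is an offender -/
theorem off_OD [Nontrivial V] (hn : finrank (ZMod 2) V ≤ 12) {y : G} (hy : y ^ 5 = 1)
    (h1 : y ∈ normalizer (E.sub gO : Set G)) (h : fx ρ (closure {y, E.l yD}) = ⊥) :
    Off 2 ρ (E.sub gO) ∨ Off 2 ρ (E.sub gD) :=
  (off_or hn (elemAb_isPGroup (elO E)) (elemAb_isPGroup (elD E))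
    (E.sub_le fun c hc => E.norm_sub (memO E) c (List.all_eq_true.1 (by decide +kernel :
      (gD.all fun y => gO.all fun a => LO.any fun c => ((Wd.c y).mul (.c a)).chk g22 &&
        (((Wd.c c).mul (.c y)).chk g22 && Nat.beq (pcomp y a) (pcomp c y))) = true) c hc))
    hy (E.pow yD 5 (by decide +kernel)) h1 (E.norm_sub (memD E) yD (by decide +kernel)) h).imp (offO E)
    (off_of_le (elD E) (r := 4) (by norm_num) (E.length_le (L := LD) (by decide +kernel) (memD E)))

end

theorem fx_cm {k Y V : Type*} [Field k] [Group Y] [AddCommGroup V] [Module k V] {ρ : Representation k Y V}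
    (hf : Function.Injective ρ) (hi : Irr ρ ⊤) (N : Subgroup Y) [N.Normal] (h : N ≠ ⊥) :
    fx ρ N = ⊥ ∧ cm ρ ⊤ N = ⊤ ∧ Nontrivial V := by
  have h0 : (⊤ : Subgroup Y) ≤ normalizer (N : Set Y) := by rw [normalizer_eq_top]
  have h1 := hi.fx_eq_bot hf h0 h
  have h2 : fx ρ N ≠ ⊤ := fun e => h (eq_bot_of_fx_eq_top hf e)
  exact ⟨h1, (hi _ (inv_cm h0 (inv_top _))).resolve_left fun e => h2 (top_le_iff.1 (cm_eq_bot_iff.1 e)),
    Submodule.nontrivial_iff _ |>.1 ⟨_, _, h1 ▸ h2⟩⟩

/-! ### `M11`, `M23` -/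

theorem rowM11 (p : ℕ) [Fact p.Prime] : Row p Spor.M11 := by
  by_cases h : p = 2
  · subst h
    exact row_of_card (by rw [S2060.result]; norm_num) fun B hB =>
      card_map_of_injective (K := B) (inclusion_injective (inf_le_left : Spor.M11 ≤ Spor.M12)) ▸
        rank_twelve (elemAb_map hB _)
  · exact row_odd24 h _ (inclusion_injective (inf_le_left.trans inf_le_left : Spor.M11 ≤ M24))
      (by rw [S2060.result]; norm_num)

/-- the embedding of `M23` -/
noncomputable def E23 : Emb Spor.M23 g22 := ⟨H334.Ore.M23.inc23, H334.Ore.M23.inc23_injective, fun c h1 h2 =>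
  H334.Ore.M23.hmem c h1 fun b hb => by
    rw [show b = 23 by simpa [H334.Ore.M23Data.F] using hb]
    exact Nat.eq_of_beq_eq_true (Bool.and_eq_true_iff.1 h2).1⟩

theorem rowM23 (p : ℕ) [Fact p.Prime] : Row p Spor.M23 := by
  by_cases h : p = 2
  · subst h
    have : Finite Spor.M23 := Finite.of_injective _ E23.inj
    refine SpB.row_of_core S2063.result S2037.result (fun d h _ => Nat.dvd_one.1 h) fun V _ _ _ ρ hf _ A hA =>
      ⟨A, hA, cub_of_oneCl hf (dat22 E23) (fun s t h1 h2 h3 h4 =>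
        H733.EP.invol23 (orderOf_eq_prime h1 h2) (orderOf_eq_prime h3 h4)) hA ?_⟩
    rw [← card_map_of_injective (K := A) E23.inj]
    exact fix_le (elemAb_map hA.1 _) (p := none) (by rintro _ ⟨b, -, rfl⟩; exact b.2.2)
  · exact row_odd24 h _ E23.inj (by rw [S2063.result]; norm_num)

/-! ### `M24` -/

/-- the elements of `M22` in `M24` -/
noncomputable def E24' : Emb M24 g22 := E24.mono fun _ _ => rfl

theorem fix_zero {c : ℕ} (h : (Wd.c c).chk g22 = true) : E24'.l c • pt 0 = pt 0 := by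
  obtain ⟨h1, h2⟩ := Bool.and_eq_true_iff.1 h
  rw [show E24'.l c = el c from E24_l c, el_smul_pt h1, idx_pt (by norm_num),
    Nat.eq_of_beq_eq_true (Bool.and_eq_true_iff.1 h2).2]

theorem gen24 : closure {E24.l H399.Gen.PairsM24.x1, E24.l H399.Gen.PairsM24.y1} = ⊤ := by
  rw [E24_l, E24_l]; exact H399.Gen.PairsM24.top1

theorem core24 : SpB.Core 2 M24 := by
  intro V _ _ _ ρ hf hi A hA
  have hx := x11 E24'
  have hx1 := x1 E24'
  have h5 := five_ge (ρ := ρ) hx hx1 (y5 E24') (yx E24')
  have h6 := cod_le_of_inv (ρ := ρ) Nat.prime_five (by norm_num) (y5 E24') (ty E24')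
  have h7 : ∀ s, IsConj s (el P1) → cod ρ (zpowers s) = cod ρ (zpowers (E24'.l ct)) := fun s hs => cod_eq_of_isConj
    (hs.trans (kind_of_fix (t2 E24') (t1 E24') (fix_zero (by decide +kernel))).1.symm)
  have h11 : ¬ 11 ^ 2 ∣ Nat.card M24 := by rw [card24]; norm_num
  rcases cases_eleven hf hx hx1 with hc | hc
  · obtain ⟨h1, h2, h3⟩ := fx_cm hf hi ⊤ fun e => hx1 (mem_bot.1 (e ▸ mem_top _))
    have hn := dim_le_twelve (by rw [card24]; norm_num) h11 h1 h2
      (E24.gen₂ gen24 853107635277433358477393716409974921 cx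
        (beta% delta% lq26b50ef2b3 fun _ d e _ _ _ _ _ _ _ _ _ _ _ _ _ _ _ =>
 (d 0<|d 1<|d 1<|d 1<|d 1<|d 1<|d 0<|d 1<|d 0<|d 1<|d 1<|d 1<|d 1<|d 0<|d 1<|d 0<|d 1<|d 1<|d 1<|d 0<|d 1<|d 1<|d 1<|d 0<|d 1<|d 1<|d 1<|d 1<|d 1<|d 0<|d 1<|d 1<|e))
        (beta% delta% lq26b50ef2b3 fun _ d e f _ _ _ _ _ _ _ _ _ _ _ _ _ _ =>
 (let c:=(let c:=(let c:=(f 1<|f 1<|f 1<|f 1<|f 0<|f 1<|e);
 (f 1<|f 1<|f 0<|f 1<|f 0<|
 c));
 (let c:=(f 0<|f 1<|f 1<|f 1<|f 0<|c);
 (f 1<|f 0<|f 1<|f 0<|f 1<|c)));
 (let c:=(let c:=(f 1<|f 1<|f 1<|f 0<|f 1<|f 1<|c);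
 (f 1<|f 0<|f 1<|f 0<|f 1<|c));
 (let c:=(f 0<|f 1<|f 0<|f 1<|f 1<|c);
 (d 0<|d 1<|d 1<|d 0<|d 1<|c))))) (by decide +kernel))
      (E24.pow _ _ (by decide +kernel)) hx hx1 (E24.one (.pw (.mul (.c _) (.c cx)) 11) (by decide +kernel))
      (E24.ne_one (.mul (.c _) (.c cx)) (by decide +kernel)) (l := 2) (m := 6) (by norm_num)
      (E24.one (.pw (.mul (.c _) (.pw (.c cx) 2)) 5) (by decide +kernel))
      (E24.ne_one (.mul (.c _) (.pw (.c cx) 2)) (by decide +kernel)) (y5 E24') (y1 E24') (yx E24') hc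
    have key : ∀ gl : List ℕ, (gl.all fun c => (Wd.c c).chk g22) = true → Off 2 ρ (E24'.sub gl) →
        ∃ B, Off 2 ρ B ∧ Cub ρ B := fun gl h hB => by
      have h8 : ∀ b ∈ E24'.sub gl, b • pt 0 = pt 0 := fun b hb => E24'.sub_le (H := MulAction.stabilizer M24 (pt 0))
        (fun c hc => fix_zero (List.all_eq_true.1 h c hc)) hb
      have h9 := fun s hs hs1 => h7 s (kind_of_fix (hB.1.2 s hs) hs1 (h8 s hs)).1
      obtain ⟨r, -, g1, g2⟩ := hB.exists_card
      have g3 : r ≤ 4 := (Nat.pow_le_pow_iff_right (by norm_num : 1 < 2)).1 (g1 ▸ fix_le hB.1 h8)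
      refine ⟨_, hB, ?_⟩
      by_cases hr : r ≤ 3
      · exact hB.cub (g1 ▸ Nat.pow_le_pow_right (by norm_num) hr)
      obtain rfl : r = 4 := by omega
      exact cub_of_const hB.1 g1 g2 (fun s hs hs1 => by rw [h9 s hs hs1]; omega) fun s hs u hu hs1 hu1 =>
        (h9 s hs hs1).trans (h9 u hu hu1).symm
    refine (off_OD E24' hn (E24.pow 636244311142240565192877726878715557 5 (by decide +kernel))
      (E24.norm_sub (memO E24') _ (by decide +kernel)) ?_).elim (key _ (by decide +kernel)) (key _ (by decide +kernel))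
    rw [show closure {E24.l _, E24'.l yD} = ⊤ from E24.gen₂ gen24 _ yD
      (beta% delta% lq26b50ef2b3 fun _ d e _ _ _ _ _ _ _ _ _ _ _ _ _ _ _ =>
 (d 0<|d 0<|d 1<|d 0<|d 1<|d 0<|d 0<|d 1<|d 1<|d 0<|d 0<|d 1<|d 1<|d 1<|d 0<|d 0<|d 1<|d 0<|d 1<|d 0<|d 1<|d 1<|d 0<|d 1<|e))
      (beta% delta% lq26b50ef2b3 fun _ d e _ _ _ _ _ _ _ _ _ _ _ _ _ _ _ =>
 (d 0<|d 1<|d 0<|d 1<|d 0<|d 1<|d 0<|d 1<|d 1<|d 0<|d 1<|d 1<|d 1<|d 1<|d 0<|d 1<|d 0<|d 0<|d 0<|d 0<|d 1<|d 0<|d 1<|d 0<|d 1<|d 0<|e)) (by decide +kernel), h1]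
  · refine ⟨A, hA, by_contra fun hn => ?_⟩
    obtain ⟨r, -, g1, g2⟩ := hA.exists_card
    have hw := E24.pow 676587007561912255309557497293556145 11 (by decide +kernel)
    have h8 := cod_le_of_inv (ρ := ρ) (by norm_num) (by norm_num) hw (E24.inv (.c P2) (.c _) (by decide +kernel))
    rw [cod_eq_of_order (hp := ⟨by norm_num⟩) h11 hw (E24.ne_one (.c _) (by decide +kernel)) hx hx1] at h8
    have h9 : ∀ s, IsConj s (el P2) → 10 ≤ cod ρ (zpowers s) := fun s hs => by
      rw [cod_eq_of_isConj hs, ← E24_l]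
      exact Nat.le_of_mul_le_mul_left (hc.trans h8) two_pos
    obtain ⟨⟨d, hd⟩, hd1⟩ := ne_bot_iff_exists_ne_one.1 hA.2.1
    have g3 := cod_add_three_le_of_not_cub hA.1 hn hd
    have g4 : 6 ≤ r := by
      rcases kinds (hA.1.2 d hd) (fun e => hd1 (Subtype.ext e)) with h | h
      · have := h7 d h.1; omega
      · have := h9 d h.1; omega
    obtain ⟨e, he, he1, he2⟩ : ∃ e ∈ A, e ≠ 1 ∧ nf e ≠ 8 := by
      by_contra! h
      have := (Nat.pow_le_pow_right two_pos g4).trans (g1 ▸ pure_le h)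
      omega
    have g5 := h9 e ((kinds (hA.1.2 e he) he1).resolve_left fun h => he2 h.2).1
    have g6 := cod_add_three_le_of_not_cub hA.1 hn he
    have g7 := (Nat.pow_le_pow_right two_pos (show 7 ≤ r by omega)).trans_lt (g1 ▸ rank_six hA.1)
    omega

theorem rowM24 (p : ℕ) [Fact p.Prime] : Row p M24 := by
  by_cases h : p = 2
  · subst h
    exact SpB.row_of_core S2064.result S2038.result (fun d h _ => Nat.dvd_one.1 h) core24
  · exact row_odd24 h _ E24.inj (by rw [S2064.result]; norm_num)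

end Cfsg.Agent.TwoF.SpA
end

-- part: TwoF/SpO/Co23
section
/-!
# TwoF SP-B2: the rows of `Co2` and `Co3` in odd characteristic (helper88)
-/

set_option autoImplicit false

namespace Cfsg.Agent.TwoF.SpO

open Cfsg Module Gen Subgroup Cfsg.Agent.TAB.Eng Cfsg.Agent.TAB.Use Cfsg.Agent.TAB.Co
open Cfsg.Agent.SigZeroCo2.Lin (rep Sp toV)

variable {S : Type} [Group S] [Finite S]

theorem finrank_Sp : finrank ℚ Sp = 24 := by
  rw [finrank_fintype_fun_eq_card]
  rfl

/-- elementary abelian `3`-subgroups of `Co0` -/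
theorem rank0 (ι : S →* Co0) (hι : Function.Injective ι) {A : Subgroup S} (hA : IsElementaryAbelian 3 A) {n : ℕ}
    (h : Nat.card A = 3 ^ (n + 2)) : 16 + 2 * n ≤ cod (rep.comp ι : Representation ℚ S Sp) A := by
  refine griesmer (m := 4) (by norm_num) (fun c hc => ?_) (by norm_num) n A hA (fun a ha h1 => ?_) h
  · exact (pow_eq_one_iff_of_ne_zero (by norm_num)).1 hc |>.resolve_right fun h => by
      have := h.2
      revert this
      decide
  · have : Fact (Nat.Prime 3) := ⟨Nat.prime_three⟩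
    have h2 := H149.Sp.CopCo.fix_le_three (y := ι a) ((orderOf_injective ι hι a).trans (orderOf_eq_prime (hA.2 a ha) h1))
    have h3 := cod_add (ρ := (rep.comp ι : Representation ℚ S Sp)) (zpowers a)
    rw [finrank_Sp, fx_zpowers] at h3
    have h4 : finrank ℚ (SigZeroCo2.Rank.fix (rep (ι a))) =
      finrank ℚ (LinearMap.ker ((rep.comp ι : Representation ℚ S Sp) a - 1)) := rfl
    omega

theorem rank_stab (ι : S →* Co0) (hι : Function.Injective ι) {v : leechLattice} (hv : v ≠ 0) (hf : ∀ g, ι g • v = v)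
    {A : Subgroup S} (hA : IsElementaryAbelian 3 A) : Nat.card A ≤ 3 ^ 5 := by
  have : Fact (Nat.Prime 3) := ⟨Nat.prime_three⟩
  obtain ⟨r, hr⟩ := IsPGroup.iff_card.1 (elemAb_isPGroup hA)
  rw [hr]
  refine Nat.pow_le_pow_right (by norm_num) (not_lt.1 fun h => ?_)
  have h1 := rank0 ι hι hA (n := r - 2) (by rw [hr, Nat.sub_add_cancel (by omega)])
  have h2 := cod_add (ρ := (rep.comp ι : Representation ℚ S Sp)) A
  have h3 : 0 < finrank ℚ (fx (rep.comp ι : Representation ℚ S Sp) A) :=
    Nat.pos_of_ne_zero fun e => H149.Sp.CopCo.toV_ne hv ((Submodule.eq_bot_iff _).1 (Submodule.finrank_eq_zero.1 e) _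
      fun b _ => (SigZeroCo2.Lin.rep_toV _ _).trans (congrArg toV (hf b)))
  rw [finrank_Sp] at h2
  omega

theorem one_of_str {D : Dat} {T : TD S D} {L : List ℕ} (h : Str T L) (hm : T.Mass) (hI : Inh T) {s : ℕ} (hs : s < D.n)
    (hs' : s ∉ L) : One T s := by
  obtain ⟨x, hx⟩ := hI s hs
  refine ⟨x, hx, ?_⟩
  rw [← hm.2 s hs, ← card_class x]
  have h1 : ∀ g, T.ty g = s → IsConj x g := fun g hg =>
    (h x g (hx.trans hg.symm)).resolve_right fun e => hs' (hx ▸ e.1)
  exact Nat.mul_le_mul_right _ (Nat.card_le_card_of_injective (Subtype.map id h1)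
    (Subtype.map_injective h1 Function.injective_id))

/-- the characteristic three -/
theorem core3 {D : Dat} {T : TD S D} (hm : T.Mass) (hI : Inh T) {a b : ℕ} (ha : One T a) (hb : One T b)
    (h1 : D.ord a = 5 ∧ D.ord b = 5 ∧ b < D.n ∧ 0 < D.cnt a ∧ D.cnt a * 5 ^ 3 ∣ D.N ∧ ¬ D.cnt b * 5 ^ 3 ∣ D.N ∧
      ¬ 5 ^ 4 ∣ D.N)
    (h2 : ∀ x : S, orderOf x = 3 → ∃ g, (D.pwf (T.ty (g * x * g⁻¹ * x)) 12 == a) = true)
    (h3 : ∀ A : Subgroup S, IsElementaryAbelian 3 A → Nat.card A ≤ 3 ^ 5) : SpB.Core 3 S := by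
  intro V _ _ _ ρ hf _ A hA
  obtain ⟨k1, k2, k3, k4, k5, k6, k7⟩ := h1
  refine ⟨A, hA, cub_of_rank hA (h3 A hA.1) fun x hx h4 => ?_⟩
  obtain ⟨g, hg⟩ := h2 x (orderOf_eq_prime (hA.1.2 x hx) h4)
  rw [beq_iff_eq, ← T.pow] at hg
  have h5 := (cod_pow_le (ρ := ρ) _ 12).trans (cod_prod_le g x)
  generalize (g * x * g⁻¹ * x) ^ 12 = z at hg h5
  obtain ⟨y, hy⟩ := hI b k3
  have hz : orderOf z = 5 := by rw [T.ord, hg, k1]
  have : Fact (Nat.Prime 5) := ⟨Nat.prime_five⟩
  have h6 := dvd_cod_of_sylow (ρ := ρ) Nat.prime_five (by decide) (hm.1 ▸ k7) hz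
    (Nat.dvd_of_mul_dvd_mul_left k4 (ha.card hm hg ▸ k5)) (y := y)
    (by rw [← k2, ← hy, ← T.ord, pow_orderOf_eq_one]) (hb.not_dvd hm k6 hy)
  have h7 := pow_cod_modEq (ρ := ρ) (s := 5) (by rw [Nat.card_zmod]; decide) (X := zpowers z)
    (IsPGroup.of_card (n := 1) (by rw [Nat.card_zpowers, hz, pow_one]))
  have h8 := cod_pos hf (B := zpowers z) fun e => by
    rw [zpowers_eq_bot.1 e, orderOf_one] at hz
    cases hz
  rw [Nat.card_zmod] at h7
  obtain ⟨c, hc⟩ := h6
  rw [hc] at h5 h7 h8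
  by_contra h9
  have h10 : c = 1 ∨ c = 2 ∨ c = 3 := by omega
  rcases h10 with rfl | rfl | rfl <;> exact absurd h7 (by decide)

theorem ord5 : ∀ d, 0 < d → d < 22 → 5 ^ d % 23 ≠ 1 % 23 := fun d h1 h2 => by
  interval_cases d <;> decide

theorem ord7 : ∀ d, 0 < d → d < 22 → 7 ^ d % 23 ≠ 1 % 23 := fun d h1 h2 => by
  interval_cases d <;> decide

/-- the primes `p ≥ 5` -/
theorem row_big [IsSimpleGroup S] (ho : Nat.card (Out S) = 1)
    (hN : Nat.card S ∣ 2 ^ 21 * 3 ^ 9 * 5 ^ 4 * 7 ^ 2 * (11 * 13 * 23)) (hZ : 23 * 2 ∣ Nat.card S)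
    (h5 : ∀ x : S, orderOf x = 5 → ∃ a, 23 ∣ orderOf (a * x * a⁻¹ * x))
    (h7 : ∀ x : S, orderOf x = 7 → ∃ a, 23 ∣ orderOf (a * x * a⁻¹ * x)) (p : ℕ) [Fact p.Prime] (h2 : p ≠ 2)
    (h3 : p ≠ 3) : Row p S := by
  have hp : p.Prime := Fact.out
  have h1 : ¬ p ∣ Nat.card (Out S) := ho ▸ hp.not_dvd_one
  by_cases e5 : p = 5
  · subst e5
    exact (noOff_of_prod h1 (e := 4) (by norm_num) (by norm_num) ord5 (fun h => absurd (h.trans hN) (by norm_num))
      (by norm_num) h5).row
  by_cases e7 : p = 7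
  · subst e7
    exact (noOff_of_prod h1 (e := 2) (by norm_num) (by norm_num) ord7 (fun h => absurd (h.trans hN) (by norm_num))
      (by norm_num) h7).row
  refine ⟨row88_of_not_dvd fun h => ?_, row89_of_not_dvd h1⟩
  have hc : center S = ⊥ := (IsSimpleGroup.eq_bot_or_eq_top_of_normal _ inferInstance).resolve_right fun e => by
    have : IsMulCommutative S := ⟨⟨fun a b => mem_center_iff.1 (e ▸ mem_top b) a⟩⟩
    have h4 : (Nat.card S).Prime := by
      let _ : CommGroup S := IsMulCommutative.instCommGroup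
      exact IsSimpleGroup.prime_card
    rcases (Nat.dvd_prime h4).1 hZ with h4 | h6
    · cases h4
    · exact absurd (h6 ▸ h4) (by norm_num)
  rw [XE.card_aut hc, ho, mul_one, small_of_ne h2 h3] at h
  have c : ∀ q n, q.Prime → p ≠ q → (p ^ (1 + 1)).Coprime (q ^ n) := fun q n hq e =>
    Nat.Coprime.pow _ _ ((Nat.coprime_primes hp hq).2 e)
  have h4 := Nat.Coprime.dvd_of_dvd_mul_left (((c 2 21 Nat.prime_two h2).mul_right (c 3 9 Nat.prime_three h3)).mul_right
    (c 5 4 Nat.prime_five e5) |>.mul_right (c 7 2 (by norm_num) e7)) (h.trans hN)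
  have h6 : p ≤ 58 := by
    have h7 : p * p ≤ 3289 := by simpa only [pow_succ, pow_zero, one_mul] using Nat.le_of_dvd (by norm_num) h4
    nlinarith
  have h8 := hp.two_le
  interval_cases p <;> simp at h4

section Pk
open Cfsg.Agent.Lib.PackMat (E dg E_add E_mul_const dg_E E_def)

private def fr {α : Type} (x : ℕ) (f : ℕ → α) : α := Nat.rec (f 0) (fun k _ => f k) (Nat.succ x)

private noncomputable def zp (a : ℤ) : ℕ := Int.rec (fun k => k) (fun _ => 0) a

private noncomputable def zn (a : ℤ) : ℕ := Int.rec (fun _ => 0) (fun k => Nat.succ k) a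

private theorem zpn (a : ℤ) : a = (zp a : ℤ) - zn a ∧ zp a + zn a = a.natAbs := by
  cases a with
  | ofNat k => exact ⟨(sub_zero _).symm, rfl⟩
  | negSucc k => exact ⟨(Int.negSucc_eq k).trans (zero_sub _).symm, Nat.zero_add _⟩

private noncomputable def pkN (g : ℤ → ℕ) (s : ℕ) (w : List ℤ) : ℕ :=
  List.rec 0 (fun a _ r => Nat.add (g a) (Nat.shiftLeft r s)) w

private theorem pkN_eq {g : ℤ → ℕ} (hg : g 0 = 0) (s : ℕ) : ∀ (w : List ℤ) (L : ℕ), w.length ≤ L →
    pkN g s w = E s (fun u => g (nth w u)) L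
  | [], L, _ => (Finset.sum_eq_zero fun i _ => (congrArg (· * _) hg).trans (Nat.zero_mul _)).symm
  | a :: w, 0, h => absurd h (Nat.not_succ_le_zero _)
  | a :: w, L + 1, h => by
    change g a + pkN g s w <<< s = _
    rw [pkN_eq hg s w L (Nat.le_of_succ_le_succ h), E_def, E_def, Finset.sum_range_succ', Nat.shiftLeft_eq, Finset.sum_mul,
      Nat.mul_zero, pow_zero, Nat.mul_one, Nat.add_comm]
    exact congrArg (· + g a) (Finset.sum_congr rfl fun i _ => by rw [Nat.mul_succ, pow_add, Nat.mul_assoc]; rfl)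

private noncomputable def smA (w : List ℤ) : ℕ := List.rec 0 (fun a _ r => Nat.add (Int.natAbs a) r) w

private theorem le_smA : ∀ (w : List ℤ) (u : ℕ), (nth w u).natAbs ≤ smA w
  | [], _ => Nat.le_refl 0
  | _ :: _, 0 => Nat.le_add_right _ _
  | _ :: w, u + 1 => (le_smA w u).trans (Nat.le_add_left _ _)

private noncomputable def frW (s : ℕ) (W : List (List ℤ)) : (List (ℕ × ℕ × ℕ × ℤ) → Bool) → Bool :=
  List.rec (fun k => k []) (fun w _ ih k => fr (pkN zp s w) fun a => fr (pkN zn s w) fun b => fr (smA w) fun c =>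
    ih fun t => k ((a, b, c, nth w 0) :: t)) W

private theorem frW_eq (s : ℕ) : ∀ (W : List (List ℤ)) (k : List (ℕ × ℕ × ℕ × ℤ) → Bool),
    frW s W k = k (W.map fun w => (pkN zp s w, pkN zn s w, smA w, nth w 0))
  | [], _ => rfl
  | w :: W, k => frW_eq s W fun t => k ((pkN zp s w, pkN zn s w, smA w, nth w 0) :: t)

private noncomputable def acF (k : ℕ → ℕ → ℕ → Bool) (z : List ℤ) : List (ℕ × ℕ × ℕ × ℤ) → ℕ → ℕ → ℕ → Bool :=
  List.rec (fun _ => k) (fun a _ ih R X Y T => List.rec (k X Y T) (fun r R' _ => (beta% delta% lq26b50ef2b3 fun _ _ _ _ _ _ _ j k l o _ _ _ _ _ _ _ =>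
 Int.rec
 (fun m => fr m fun m => fr (j X (k r.1 m)) fun X => fr (j Y (k r.2.1 m)) fun Y =>
 fr (j T (k r.2.2.1 m)) (ih R' X Y))
 (fun m => fr (l m) fun m => fr (j X (k r.2.1 m)) fun X => fr (j Y (k r.1 m)) fun Y =>
 fr (j T (k r.2.2.1 m)) (ih R' X Y)) (o a r.2.2.2))) R) z

private theorem acF_spec {k : ℕ → ℕ → ℕ → Bool} {s L n : ℕ} : ∀ (z : List ℤ) (W : List (List ℤ)) (V : List ℤ) (f g : ℕ → ℕ)
    (T : ℕ), (∀ w ∈ W, w.length ≤ L) → (∀ u, f u + g u ≤ T) → V.length = n → (∀ u < n, nth V u = (f u : ℤ) - g u) →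
    acF k z (W.map fun w => (pkN zp s w, pkN zn s w, smA w, nth w 0)) (E s f L) (E s g L) T = true →
    ∃ (f g : ℕ → ℕ) (T : ℕ), k (E s f L) (E s g L) T = true ∧ (∀ u, f u + g u ≤ T) ∧
      ∀ u < n, nth (accP z W V) u = (f u : ℤ) - g u
  | [], _, _, f, g, T, _, h1, _, h2, h => ⟨f, g, T, h, h1, h2⟩
  | _ :: _, [], _, f, g, T, _, h1, _, h2, h => ⟨f, g, T, h, h1, h2⟩
  | c :: z, w :: W, V, f, g, T, hL, h1, hV, h2, h => by
    have e1 : accP (c :: z) (w :: W) V = accP z W (axz (c * nth w 0) V w) :=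
      (frcZ_eq (c * nth w 0) fun p => frcLZ (axz p V w) fun V' => accP z W V').trans (frcLZ_eq _ _)
    have hw := hL w List.mem_cons_self
    have hW := fun v hv => hL v (List.mem_cons_of_mem _ hv)
    have h3 : ∀ (u m : ℕ), zp (nth w u) * m + zn (nth w u) * m ≤ smA w * m := fun u m => by
      rw [← Nat.add_mul, (zpn _).2]
      exact Nat.mul_le_mul_right m (le_smA w u)
    change (Int.rec (motive := fun _ => Bool)
      (fun m => acF k z (W.map fun w => (pkN zp s w, pkN zn s w, smA w, nth w 0)) (E s f L + pkN zp s w * m)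
        (E s g L + pkN zn s w * m) (T + smA w * m))
      (fun m => acF k z (W.map fun w => (pkN zp s w, pkN zn s w, smA w, nth w 0)) (E s f L + pkN zn s w * (m + 1))
        (E s g L + pkN zp s w * (m + 1)) (T + smA w * (m + 1)))
      (c * nth w 0)) = true at h
    rw [pkN_eq rfl s w L hw, pkN_eq rfl s w L hw] at h
    simp only [E_mul_const, E_add] at h
    rw [e1]
    generalize c * nth w 0 = p at h
    cases p with
    | ofNat m =>
      refine acF_spec z W _ _ _ _ hW (fun u => ?_) ((length_axz _ _ _).trans hV) (fun u hu => ?_) h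
      · have := h1 u
        have := h3 u m
        omega
      · rw [nth_axz _ _ _ (hV ▸ hu), h2 u hu]
        conv_lhs => rw [(zpn (nth w u)).1]
        push_cast
        change _ + (m : ℤ) * _ = _
        ring
    | negSucc m =>
      refine acF_spec z W _ _ _ _ hW (fun u => ?_) ((length_axz _ _ _).trans hV) (fun u hu => ?_) h
      · have := h1 u
        have := h3 u (m + 1)
        omega
      · rw [nth_axz _ _ _ (hV ▸ hu), h2 u hu, Int.negSucc_eq]
        conv_lhs => rw [(zpn (nth w u)).1]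
        push_cast
        ring

private theorem allL_of {β : Type} {f : β → Bool} : ∀ {r : List β}, (∀ a ∈ r, f a = true) → allL f r = true
  | [], _ => rfl
  | a :: r, h => by
    change cond (f a) (allL f r) false = true
    rw [h a List.mem_cons_self]
    exact allL_of fun b hb => h b (List.mem_cons_of_mem _ hb)

private noncomputable def okF (D : Dat) (W : List (List ℤ)) (R : List (ℕ × ℕ × ℕ × ℤ)) (good : ℕ → Bool) (s t : ℕ)
    (z : List ℤ) : Bool :=
  acF (fun X Y T => Nat.blt T (2 ^ 160) && allL (fun u => Nat.ble (dg 160 X u) (dg 160 Y u) || good u) (List.range D.n))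
    z R 0 0 0 && decide (0 < sumP s t z W)

private theorem okF_spec {D : Dat} {W : List (List ℤ)} {good : ℕ → Bool} {s t : ℕ} {z : List ℤ}
    (h : okF D W (W.map fun w => (pkN zp 160 w, pkN zn 160 w, smA w, nth w 0)) good s t z = true) :
    okProd D W good s t z = true := by
  rw [okF, Bool.and_eq_true] at h
  rw [okProd, frcLZ_eq, Bool.and_eq_true]
  refine ⟨allL_of fun u hu => ?_, h.2⟩
  have hu' := List.mem_range.1 hu
  have e0 : E 160 (fun _ => 0) ((W.map List.length).sum + D.n) = 0 := Finset.sum_eq_zero fun _ _ => Nat.zero_mul _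
  obtain ⟨f, g, T, h1, h2, h3⟩ := acF_spec (s := 160) (L := (W.map List.length).sum + D.n) z W (List.replicate D.n 0)
    (fun _ => 0) (fun _ => 0) 0 (fun w hw => (List.le_sum_of_mem (List.mem_map_of_mem hw)).trans (Nat.le_add_right _ _))
    (fun _ => le_rfl) List.length_replicate (fun u hu => by rw [nth_eq, List.getD_replicate _ hu]; rfl)
    (by rw [e0]; exact h.1)
  rw [Bool.and_eq_true, Nat.blt_eq] at h1
  have h4 := allL_spec h1.2 u hu
  rw [dg_E (fun i _ => by have := h2 i; omega) (by omega), dg_E (fun i _ => by have := h2 i; omega) (by omega),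
    Bool.or_eq_true, Nat.ble_eq] at h4
  rw [h3 u hu', Bool.or_eq_true, decide_eq_true_eq]
  exact h4.symm.imp_right fun h => by omega

private noncomputable def okG (D : Dat) (W : List (List ℤ)) (R : List (ℕ × ℕ × ℕ × ℤ)) (good : ℕ → Bool) (p : ℕ)
    (C : List (ℕ × List ℤ)) : Bool :=
  allL (fun c => okF D W R good c.1 c.1 c.2) C && allL (fun u => D.ord u != p || C.any fun c => c.1 == u) (List.range D.n)

private theorem okG_spec {D : Dat} {W : List (List ℤ)} {good : ℕ → Bool} {p : ℕ} {C : List (ℕ × List ℤ)}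
    (h : okG D W (W.map fun w => (pkN zp 160 w, pkN zn 160 w, smA w, nth w 0)) good p C = true) :
    okOrdP D W good p C = true := by
  rw [okG, Bool.and_eq_true] at h
  rw [okOrdP, Bool.and_eq_true]
  exact ⟨allL_of fun c hc => okF_spec (allL_spec h.1 c hc), h.2⟩

private theorem and3 {a b c : Bool} (h : (a && (b && c)) = true) : a = true ∧ b = true ∧ c = true := by
  rwa [Bool.and_eq_true, Bool.and_eq_true] at h

end Pk

namespace C2

open TAB.Co2

/-- order five -/
def c5 : List (ℕ × List ℤ) := (beta% delta% lq26b50ef2b3 fun b d e _ g _ _ _ _ _ _ _ _ _ _ _ _ _ =>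
 (d (g 13 (let c:=(let c:=(let c:=(b (-23054625)<|b (-66355200)<|b (-199360512)<|b 447676416<|b (-137318400)<|
 b 43545600<|b 100925440<|e);
 (b 736100352<|
 b 138018816<|b (-182476800)<|b (-78643200)<|b 82280448<|b 256131072<|c));
 (let c:=(b 58392576<|b 1047969792<|b (-446169088)<|b (-1078820864)<|b (-1201766400)<|b 498991104<|b (-1107689472)<|c);
 (b 90832896<|b (-747929600)<|b 871628800<|b (-1696333824)<|b 57802752<|
 b (-822476800)<|c)));
 (let c:=(let c:=(b (-220299264)<|b (-3162112000)<|b (-718848000)<|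
 b (-605159424)<|b (-1584230400)<|b (-1499955200)<|b (-1689403392)<|c);
 (b 825753600<|b 3881369600<|b 1072300032<|b 2824077312<|b (-2109800448)<|b 298598400<|c));
 (let c:=(b 412876800<|b (-2569273344)<|b (-13470105600)<|b (-8036941824)<|b (-12875563008)<|b (-10245242880)<|b 3652190208<|
 c);
 (d 38410636492800<|d 143061811200<|d 33973862400<|d (-203407884288)<|d (-4512153600)<|
 d (-49401446400)<|c)))))<|d (g 14 (let c:=(let c:=(let c:=(b (-23054625)<|b (-439603200)<|b (-128581632)<|b (-76873728)<|b 321638400<|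
 b 435456000<|b (-20185088)<|e);
 (b (-495452160)<|
 b (-562692096)<|b 124084224<|b (-471859200)<|b (-220299264)<|b 630374400<|c));
 (let c:=(b (-196411392)<|b (-2126462976)<|b 132644864<|b (-946896896)<|b (-626688000)<|b (-74317824)<|b (-67239936)<|c);
 (b 4153540608<|b 1576960000<|b 527564800<|b (-2326265856)<|b 2280259584<|
 b 1615462400<|c)));
 (let c:=(let c:=(b 1388150784<|b (-2257715200)<|b 4390502400<|
 b (-1369571328)<|b (-4321382400)<|b (-4159078400)<|b (-152616960)<|c);
 (b 6753484800<|b (-16919756800)<|b 17379753984<|b 3938844672<|b (-2010710016)<|b (-373248000)<|c));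
 (let c:=(b 113128243200<|b 63297552384<|b 2853273600<|b (-32147767296)<|b (-16554295296)<|b (-16233136128)<|b (-5457051648)<|
 c);
 (d 35187366297600<|d 1491930316800<|d (-231977779200)<|d (-552107114496)<|d 17783193600<|
 d (-99366912000)<|c)))))<|e))

/-- order seven -/
def c7 : List (ℕ × List ℤ) := (beta% delta% lq26b50ef2b3 fun b d e _ g _ _ _ _ _ _ _ _ _ _ _ _ _ =>
 (d (g 21 (let c:=(let c:=(let c:=(b (-23054625)<|b (-66355200)<|b (-199360512)<|b 447676416<|b (-137318400)<|
 b 43545600<|b 100925440<|e);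
 (b 736100352<|
 b 138018816<|b (-182476800)<|b (-78643200)<|b 82280448<|b 256131072<|c));
 (let c:=(b 58392576<|b 1047969792<|b (-446169088)<|b (-1078820864)<|b (-1201766400)<|b 498991104<|b (-1107689472)<|c);
 (b 90832896<|b (-747929600)<|b 871628800<|b (-1696333824)<|b 57802752<|
 b (-822476800)<|c)));
 (let c:=(let c:=(b (-220299264)<|b (-3162112000)<|b (-718848000)<|
 b (-605159424)<|b (-1584230400)<|b (-1499955200)<|b (-1689403392)<|c);
 (b 825753600<|b 3881369600<|b 1072300032<|b 2824077312<|b (-2109800448)<|b 298598400<|c));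
 (let c:=(b 412876800<|b (-2569273344)<|b (-13470105600)<|b (-8036941824)<|b (-12875563008)<|b (-10245242880)<|b 3652190208<|
 c);
 (d 38410636492800<|d 143061811200<|d 33973862400<|d (-203407884288)<|d (-4512153600)<|
 d (-49401446400)<|c)))))<|e))

/-- order three -/
def c3 : List (ℕ × List ℤ) := (beta% delta% lq26b50ef2b3 fun b d e _ g _ _ _ _ _ _ _ _ _ _ _ _ _ =>
 (d (g 4 (let c:=(let c:=(let c:=(b 4610925<|
 b (-26059320)<|b (-22155264)<|b 1318912<|b 23086800<|b 37762200<|b (-315392)<|e);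
 (b (-31242240)<|b (-51480576)<|b (-10150272)<|b (-41113600)<|b (-7630848)<|b 47008512<|c));
 (let c:=(b 33924096<|b (-106036992)<|b (-2166784)<|
 b (-91621376)<|b (-94890240)<|b 497664<|b (-51369984)<|c);
 (b 332623872<|b 60755200<|b 60928000<|b (-189536256)<|b 187877376<|b 121395200<|c)));
 (let c:=(let c:=(b 95883264<|b (-237260800)<|b 257264640<|b (-58724352)<|b (-320986800)<|b (-285555200)<|
 b (-25982208)<|c);
 (b 746035200<|b (-1423129600)<|
 b 1285134336<|b 434875392<|b (-241081344)<|b (-50009400)<|c));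
 (let c:=(b 5093222400<|b 4841109504<|b 235353600<|b (-2120380416)<|b (-1561545216)<|b (-1443391488)<|b (-368105472)<|c);
 (d 2629399449600<|d 399168000000<|d 21976012800<|d (-30794287104)<|d 8630323200<|d (-9478425600)<|
 c)))))<|d (g 5 (let c:=(let c:=(let c:=(b 0<|b (-255150)<|b (-101376)<|b (-329728)<|b 238500<|b 382725<|b 78848<|e);
 (b (-400896)<|b (-1064448)<|b 228096<|b (-550400)<|b (-145152)<|b 751680<|c));
 (let c:=(b 103680<|b (-2106432)<|b 541696<|b (-689920)<|b (-1108800)<|b (-124416)<|b (-96768)<|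
 c);
 (b 2774016<|b 334400<|b 89600<|b (-2050560)<|b 2382336<|b 2137600<|c)));
 (let c:=(let c:=(b 1969920<|b (-1971200)<|b 3024000<|b (-1741824)<|b (-2130300)<|b (-1993600)<|b (-1342656)<|
 c);
 (b 9446400<|b (-17811200)<|
 b 10907136<|b 1016064<|b (-2145024)<|b (-2296350)<|c));
 (let c:=(b 4032000<|b 29652480<|b 6480000<|b (-15966720)<|b (-11975040)<|b (-10160640)<|b (-2032128)<|c);
 (d 69774566400<|d 7983360000<|d 776563200<|d (-113508864)<|
 d 212544000<|d (-128822400)<|c)))))<|e))

private theorem okA : frW 160 A (fun R => okG D A R (fun u => D.ord u % 23 == 0) 5 c5 &&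
    (okG D A R (fun u => D.ord u % 23 == 0) 7 c7 && okG D A R (fun u => D.pwf u 12 == 13) 3 c3)) = true := by decide +kernel
theorem ok5 : okOrdP D A (fun u => D.ord u % 23 == 0) 5 c5 = true := okG_spec (and3 ((frW_eq _ _ _).symm.trans okA)).1
theorem ok7 : okOrdP D A (fun u => D.ord u % 23 == 0) 7 c7 = true := okG_spec (and3 ((frW_eq _ _ _).symm.trans okA)).2.1
theorem ok3 : okOrdP D A (fun u => D.pwf u 12 == 13) 3 c3 = true := okG_spec (and3 ((frW_eq _ _ _).symm.trans okA)).2.2

end C2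

/-- **the row of `Co2`** -/
theorem row2 (p : ℕ) [Fact p.Prime] (hp : p ≠ 2) : Row p Spor.Co2 := by
  have := TAB.Co2.finite
  have := H49.CoStab.simple_co2
  obtain ⟨T, hm, hS, -, hs⟩ := TAB.Co2.str
  obtain ⟨hI, hT⟩ := tab_of_virt hm TAB.Co2.ok_one (virt_of_certs hm.1 TAB.Co2.ok_primes hs
    (allL_spec TAB.Co2.ok_certs) TAB.Co2.ok_all) TAB.Co2.ok_rows
  have h1 : T.ty 1 = 0 := ty_one (by decide +kernel)
  have hW := irr_mkRows hT
  by_cases h3 : p = 3
  · subst h3
    exact SpB.row_of_core S2070.result S2044.result (fun d h _ => Nat.dvd_one.1 h)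
      (core3 hm hI (one_of_str hS hm hI (s := 13) (by decide) (by decide))
        (one_of_str hS hm hI (s := 14) (by decide) (by decide)) (by decide +kernel)
        (fun x hx => exists_prod_ord h1 hW C2.ok3 hx) fun A hA =>
          rank_stab (S := Spor.Co2) (inclusion inf_le_left) (inclusion_injective _) (v := Spor.leechU)
            (fun e => absurd (congrFun (congrArg Subtype.val e) none) (by decide)) (fun g => g.2.2) hA)
  · exact row_big S2070.result (by rw [hm.1]; decide +kernel) (by rw [hm.1]; decide +kernel)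
      (fun x hx => exists_prod_dvd h1 hW C2.ok5 hx) (fun x hx => exists_prod_dvd h1 hW C2.ok7 hx) p hp h3

namespace C3

open TAB.Co3

/-- order five -/
def c5 : List (ℕ × List ℤ) := (beta% delta% lq26b50ef2b3 fun b d e _ g _ _ _ _ _ _ _ _ _ _ _ _ _ =>
 (d (g 8 (let c:=(let c:=(let c:=(b 7290000<|b 40240800<|b (-15359400)<|b (-4477032)<|b (-17577000)<|e);
 (b (-43162875)<|b 22705920<|b 6160000<|b 12410496<|c));
 (let c:=(b (-26195400)<|b (-31056256)<|b 42504000<|b (-22325625)<|
 c);
 (b 60131808<|b (-170715600)<|b 75823776<|b (-43409520)<|c)));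
 (let c:=(let c:=(b (-34452000)<|b (-26671680)<|b (-58677696)<|
 b (-48009024)<|b 2916000<|c);
 (b (-117369000)<|b (-323676000)<|b (-514382400)<|b (-291891600)<|c));
 (let c:=(b (-20844734400)<|b (-1848744000)<|
 b (-1655073000)<|b (-833976000)<|c);
 (d 981204840000<|d 40116384000<|d 3701376000<|d 2367792000<|c)))))<|d (g 9 (let c:=(let c:=(let c:=(b 7290000<|b 40240800<|
 b (-15359400)<|b (-4477032)<|b (-17577000)<|e);
 (b (-43162875)<|b 22705920<|b 6160000<|b 12410496<|c));
 (let c:=(b (-26195400)<|b (-31056256)<|b 42504000<|b (-22325625)<|c);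
 (b 60131808<|b (-170715600)<|b 75823776<|
 b (-43409520)<|c)));
 (let c:=(let c:=(b (-34452000)<|b (-26671680)<|b (-58677696)<|b (-48009024)<|b 2916000<|c);
 (b (-117369000)<|b (-323676000)<|
 b (-514382400)<|b (-291891600)<|c));
 (let c:=(b (-20844734400)<|b (-1848744000)<|b (-1655073000)<|b (-833976000)<|c);
 (d 981204840000<|
 d 40116384000<|d 3701376000<|d 2367792000<|c)))))<|e))

/-- order seven -/
def c7 : List (ℕ × List ℤ) := (beta% delta% lq26b50ef2b3 fun b d e _ g _ _ _ _ _ _ _ _ _ _ _ _ _ =>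
 (d (g 15 (let c:=(let c:=(let c:=(b (-50209875)<|b (-65106261)<|b (-105404400)<|b (-103937904)<|b (-119677500)<|e);
 (b (-133315875)<|b (-74083896)<|b (-102564000)<|b (-82301184)<|c));
 (let c:=(b (-219301425)<|b (-115327520)<|b (-90099625)<|b (-133315875)<|
 c);
 (b (-128304)<|b (-278793900)<|b (-25310880)<|b (-156442671)<|c)));
 (let c:=(let c:=(b (-119988000)<|b (-255394944)<|b (-255394944)<|
 b (-255394944)<|b (-317358000)<|c);
 (b (-761967000)<|b (-831789000)<|b (-912124800)<|b (-196016436)<|c));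
 (let c:=(b (-12720921696)<|b (-1233468000)<|
 b (-2087127000)<|b (-1265590656)<|c);
 (d 722993040000<|d (-19309752000)<|d (-8062740000)<|d (-8062740000)<|c)))))<|e))

/-- order three -/
def c3 : List (ℕ × List ℤ) := (beta% delta% lq26b50ef2b3 fun b d e _ g _ _ _ _ _ _ _ _ _ _ _ _ _ =>
 (d (g 3 (let c:=(let c:=(let c:=(b 3790800<|b (-2950992)<|b (-681720)<|b (-149688)<|b (-1819800)<|e);
 (b 2594025<|b (-171072)<|b 1500800<|b 1026432<|
 c));
 (let c:=(b 12111120<|b (-2040192)<|b 4958800<|b (-42525)<|c);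
 (b 5559840<|b (-22358160)<|b 5388768<|b (-8083152)<|c)));
 (let c:=(let c:=(b (-16130400)<|b 13172544<|b 5987520<|b 8382528<|b 3650400<|
 c);
 (b (-53033400)<|b (-38296800)<|b 6454080<|b (-38020752)<|c));
 (let c:=(b (-27542592)<|b 592142400<|
 b (-210583800)<|b 27200448<|c);
 (d 194863838400<|d 25506835200<|d (-1186617600)<|d 2258928000<|c)))))<|d (g 4 (let c:=(let c:=(let c:=(b 1458000<|b (-1341360)<|b (-96600)<|b (-95256)<|b (-1323000)<|e);
 (b 1488375<|
 b 77760<|b 1232000<|b 653184<|c));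
 (let c:=(b 9525600<|b (-1133440)<|b 3542000<|b (-1488375)<|c);
 (b 3164832<|b (-14850000)<|b 3429216<|b (-4490640)<|c)));
 (let c:=(let c:=(b (-10956000)<|b 8382528<|
 b 3810240<|b 5334336<|b 2700000<|c);
 (b (-56511000)<|b (-4860000)<|b 13608000<|b (-24848208)<|c));
 (let c:=(b (-137712960)<|b 441288000<|b (-154791000)<|b 12830400<|c);
 (d 148041432000<|d 19758816000<|d (-707616000)<|d 2150064000<|
 c)))))<|d (g 5 (let c:=(let c:=(let c:=(b 0<|b 0<|b 46<|b 0<|b (-45)<|e);
 (b 0<|b 0<|b 0<|b 0<|c));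
 (let c:=(b 0<|b 0<|b 0<|b 0<|c);
 (b 0<|b 0<|b 0<|b 0<|c)));
 (let c:=(let c:=(b (-440)<|b 0<|b 0<|b 0<|b 360<|c);
 (b 0<|b 1620<|b (-1296)<|b 0<|c));
 (let c:=(b 0<|b 0<|
 b 5670<|b 0<|c);
 (d 11476080<|d 0<|d (-45360)<|d (-45360)<|c)))))<|e))

private theorem okA : frW 160 A (fun R => okG D A R (fun u => D.ord u % 23 == 0) 5 c5 &&
    (okG D A R (fun u => D.ord u % 23 == 0) 7 c7 && okG D A R (fun u => D.pwf u 12 == 8) 3 c3)) = true := by decide +kernel
theorem ok5 : okOrdP D A (fun u => D.ord u % 23 == 0) 5 c5 = true := okG_spec (and3 ((frW_eq _ _ _).symm.trans okA)).1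
theorem ok7 : okOrdP D A (fun u => D.ord u % 23 == 0) 7 c7 = true := okG_spec (and3 ((frW_eq _ _ _).symm.trans okA)).2.1
theorem ok3 : okOrdP D A (fun u => D.pwf u 12 == 8) 3 c3 = true := okG_spec (and3 ((frW_eq _ _ _).symm.trans okA)).2.2
theorem oks : (beta% delta% lq26b50ef2b3 fun _ d e _ g _ _ _ _ _ _ p q s t u _ _ =>
 p q (s t u).n (d (g 23<|g 33 2)<|d (g 31<|g 31 1)<|d (g 33<|g 33 1)<|d (g 34<|g 34 1)<|e) :
 Bool) = true := by
  decide +kernel

end C3

/-- **the row of `Co3`** -/
theorem row3 (p : ℕ) [Fact p.Prime] (hp : p ≠ 2) : Row p Spor.Co3 := by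
  have := TAB.Co3.finite
  have := H49.CoStab.simple_co3
  obtain ⟨T, hm, hs⟩ := TAB.Co3.seeded
  obtain ⟨hI, hT⟩ := tab_of_virt hm TAB.Co3.ok_one (virt_of_certs hm.1 TAB.Co3.ok_primes hs
    (allL_spec TAB.Co3.ok_certs) TAB.Co3.ok_all) TAB.Co3.ok_rows
  have h1 : T.ty 1 = 0 := ty_one (by decide +kernel)
  have hW := irr_mkRows hT
  by_cases h3 : p = 3
  · subst h3
    exact SpB.row_of_core S2071.result S2045.result (fun d h _ => Nat.dvd_one.1 h)
      (core3 hm hI (one_of_count hT hm hI C3.oks (s := 8) (by decide) (by decide))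
        (one_of_count hT hm hI C3.oks (s := 9) (by decide) (by decide)) (by decide +kernel)
        (fun x hx => exists_prod_ord h1 hW C3.ok3 hx) fun A hA =>
          rank_stab (S := Spor.Co3) (inclusion inf_le_left) (inclusion_injective _) (v := Spor.leechV)
            (fun e => absurd (congrFun (congrArg Subtype.val e) none) (by decide)) (fun g => g.2.2) hA)
  · exact row_big S2071.result (by rw [hm.1]; decide +kernel) (by rw [hm.1]; decide +kernel)
      (fun x hx => exists_prod_dvd h1 hW C3.ok5 hx) (fun x hx => exists_prod_dvd h1 hW C3.ok7 hx) p hp h3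

end Cfsg.Agent.TwoF.SpO
end

-- part: TwoF/SpO/Wt
section
/-!
# TwoF SP-B2: the weights of the group of the sign changes of `Co0` (helper88)

In odd characteristic: `dim [V, -1] ≥ 24` if `-1` acts, and `dim [V, e] ≥ 48` for an octad `e` otherwise.
-/

set_option autoImplicit false

namespace Cfsg.Agent.TwoF.SpO

open Cfsg Module Gen Subgroup Cfsg.Agent.SporadicA.Co0Mono Cfsg.Agent.H852.GolayMod
open Cfsg.Agent.SporadicA.Co1Simple (allOne)
open Cfsg.Agent.S5549 (fs fs_apply exists_fs eq_empty_of_orth fs_symmDiff)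

/-- the sign changes -/
def SG : Subgroup Co0 where
  carrier := Set.range signCo0
  one_mem' := ⟨0, signCo0_zero⟩
  mul_mem' := by
    rintro _ _ ⟨c, rfl⟩ ⟨d, rfl⟩
    exact ⟨c + d, signCo0_add c d⟩
  inv_mem' := by
    rintro _ ⟨c, rfl⟩
    exact ⟨c, (signCo0_inv c).symm⟩

/-- a sign change -/
def sg (c : golayCode) : SG := ⟨signCo0 c, c, rfl⟩

theorem sg_add (c d : golayCode) : sg (c + d) = sg c * sg d := Subtype.ext (signCo0_add c d)

theorem SG_comm : ∀ a ∈ SG, ∀ b ∈ SG, a * b = b * a := by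
  rintro _ ⟨c, rfl⟩ _ ⟨d, rfl⟩
  rw [← signCo0_add, add_comm, signCo0_add]

theorem SG_sq : ∀ a ∈ SG, a ^ 2 = 1 := by
  rintro _ ⟨c, rfl⟩
  rw [pow_two, signCo0_mul_self]

theorem perm_mem (σ : M24) : permCo0 σ ∈ normalizer (SG : Set Co0) := by
  have h : ∀ τ : M24, ∀ a ∈ SG, permCo0 τ * a * (permCo0 τ)⁻¹ ∈ SG := by
    rintro τ _ ⟨c, rfl⟩
    exact ⟨_, (perm_mul_sign_mul_inv τ c).symm⟩
  refine mem_normalizer_iff.2 fun a => ⟨h σ a, fun ha => ?_⟩
  have h1 := h σ⁻¹ _ ha
  rw [map_inv] at h1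
  simpa only [inv_inv, ← mul_assoc, inv_mul_cancel, one_mul, inv_mul_cancel_right] using h1

theorem exists_map {s t : Finset GolayPt} (h : s.card = t.card) (h5 : s.card ≤ 5) :
    ∃ σ ∈ M24, s.map σ.toEmbedding = t := by
  obtain ⟨σ, h1, h2⟩ := exists_perm h5 (fun i => (s.equivFin.symm i : GolayPt))
    (fun i => (t.equivFin.symm (Fin.cast h i) : GolayPt)) (Subtype.val_injective.comp s.equivFin.symm.injective)
    ((Subtype.val_injective.comp t.equivFin.symm.injective).comp (Fin.cast_injective h))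
  refine ⟨σ, h1, Finset.eq_of_subset_of_card_le (fun q hq => ?_) (by rw [Finset.card_map, h])⟩
  obtain ⟨p, hp, rfl⟩ := Finset.mem_map.1 hq
  have h3 := h2 (s.equivFin ⟨p, hp⟩)
  rw [Equiv.symm_apply_apply] at h3
  exact h3 ▸ (t.equivFin.symm _).2

variable {k : Type*} [Field k] {V : Type*} [AddCommGroup V] [Module k V] {ρ : Representation k Co0 V}

/-- the character belongs to the set `s` -/
def Has (χ : SG →* kˣ) (s : Finset GolayPt) : Prop := ∀ c, χ (sg c) = 1 ↔ fs s c = 0

theorem exists_has (χ : SG →* kˣ) : ∃ s : Finset GolayPt, s.card ≤ 4 ∧ Has χ s := by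
  classical
  have h1 : ∀ c, χ (sg c) ≠ 1 → χ (sg c) = -1 := fun c hc => by
    have h2 : χ (sg c) * χ (sg c) = 1 := by
      rw [← map_mul, show sg c * sg c = 1 from Subtype.ext (signCo0_mul_self c), map_one]
    exact Units.ext ((mul_self_eq_one_iff.1 (congrArg Units.val h2)).resolve_left fun e => hc (Units.ext e))
  let f : golayCode →+ ZMod 2 := AddMonoidHom.mk' (fun c => if χ (sg c) = 1 then 0 else 1) fun c d => by
    rw [sg_add, map_mul]
    by_cases hc : χ (sg c) = 1
    · rw [hc, one_mul, if_pos rfl, zero_add]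
    by_cases hd : χ (sg d) = 1
    · rw [hd, mul_one, if_pos rfl, add_zero]
    · rw [if_neg hc, if_neg hd, h1 c hc, h1 d hd, neg_mul_neg, one_mul, if_pos rfl]
      rfl
  obtain ⟨s, h2, h3⟩ := exists_fs (f.toZModLinearMap 2)
  refine ⟨s, h2, fun c => ?_⟩
  rw [← h3]
  show _ ↔ (if χ (sg c) = 1 then (0 : ZMod 2) else 1) = 0
  split_ifs with h4
  · exact iff_of_true h4 rfl
  · exact iff_of_false h4 (by decide)

variable [FiniteDimensional k V]

theorem Has.move {χ : SG →* kˣ} {s t : Finset GolayPt} (h : Has χ s) (h1 : s.card = t.card) (h5 : s.card ≤ 5) :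
    ∃ ψ : SG →* kˣ, Has ψ t ∧ mlt ρ SG ψ = mlt ρ SG χ := by
  obtain ⟨σ, h2, rfl⟩ := exists_map h1 h5
  refine ⟨tw _ (perm_mem ⟨σ, h2⟩) χ, fun c => ?_, mlt_tw _ _⟩
  rw [tw_apply_of_eq _ _ (s := sg (wordPerm (⟨σ, h2⟩ : M24)⁻¹ c))
    (by rw [← map_inv]; exact (perm_mul_sign_mul_inv _ c).symm.trans (by rw [map_inv, inv_inv]; rfl)), h,
    fs_apply, fs_apply, Finset.sum_map]
  rfl

theorem le_cod_of_fam {χ : SG →* kˣ} {s : Finset GolayPt} (h : Has χ s) (h5 : s.card ≤ 5) (hχ : 0 < mlt ρ SG χ)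
    (c : golayCode) {ι : Type} [Fintype ι] (g : ι → Finset GolayPt) (h2 : ∀ i, s.card = (g i).card ∧ fs (g i) c ≠ 0)
    (h3 : ∀ i j, fs (g i) = fs (g j) → i = j) : Fintype.card ι ≤ cod ρ (zpowers (signCo0 c)) := by
  classical
  choose f hf hg using fun i => h.move (ρ := ρ) (h2 i).1 h5
  have h6 : Function.Injective f := fun t u e => h3 t u (LinearMap.ext fun d =>
    (by decide : ∀ x y : ZMod 2, (x = 0 ↔ y = 0) → x = y) _ _ ((hf t d).symm.trans (e ▸ hf u d)))
  have h7 := card_mul_le_cod (ρ := ρ) (zpowers_le.2 (sg c).2) (Finset.univ.image f) (m := 1)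
    (fun ψ hψ e => by
      obtain ⟨t, -, rfl⟩ := Finset.mem_image.1 hψ
      exact (h2 t).2 ((hf t c).1 (e _ (mem_zpowers _))))
    fun ψ hψ => by
      obtain ⟨t, -, rfl⟩ := Finset.mem_image.1 hψ
      exact (hg t).symm ▸ hχ
  rwa [mul_one, Finset.card_image_of_injective _ h6, Finset.card_univ] at h7

theorem eq_of_fs {s t : Finset GolayPt} (h : fs s = fs t) (hc : s.card + t.card ≤ 4) : s = t :=
  symmDiff_eq_bot.1 (eq_empty_of_orth ((Finset.card_le_card Finset.symmDiff_subset_union).trans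
    ((Finset.card_union_le _ _).trans hc)) (LinearMap.ext fun d => by
      rw [fs_symmDiff, h, LinearMap.add_apply]
      exact CharTwo.add_self_eq_zero _))

/-- the points of the octad -/
def pI : Fin 8 → GolayPt := (beta% delta% lq26b50ef2b3 fun _ _ _ _ _ h i _ _ _ _ _ _ _ _ _ v w =>
 (h v<|h (i 0)<|h (i 12)<|h (i 14)<|h (i 16)<|h (i 17)<|h (i 18)<|h (i 22)<|w))

/-- points outside the octad -/
def pJ : Fin 6 → GolayPt := ![some 1, some 2, some 3, some 4, some 5, some 6]

theorem pIJ : (∀ a b, pI a = pI b → a = b) ∧ (∀ a b, pJ a = pJ b → a = b) ∧ ∀ a b, pI a ≠ pJ b := by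
  decide +kernel

theorem le_cod_of_two {χ : SG →* kˣ} {s : Finset GolayPt} (h : Has χ s) (h5 : s.card ≤ 5) (hχ : 0 < mlt ρ SG χ)
    (c : golayCode) (B : Finset GolayPt) (h1 : s.card = B.card + 2) (h2 : ∀ a, pI a ∉ B) (h3 : ∀ b, pJ b ∉ B)
    (h4 : ∀ a b, (c : GolayPt → ZMod 2) (pI a) + ((c : GolayPt → ZMod 2) (pJ b) + fs B c) ≠ 0) :
    48 ≤ cod ρ (zpowers (signCo0 c)) := by
  have h6 : ∀ a b, pI a ∉ insert (pJ b) B := fun a b e => (Finset.mem_insert.1 e).elim (pIJ.2.2 a b) (h2 a)
  have h7 : ∀ a b, fs (insert (pI a) (insert (pJ b) B)) = fs {pI a, pJ b} + fs B := fun a b => LinearMap.ext fun d => by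
    rw [LinearMap.add_apply, fs_apply, fs_apply, fs_apply, Finset.sum_insert (h6 a b), Finset.sum_insert (h3 b),
      Finset.sum_pair (pIJ.2.2 a b), add_assoc]
  refine le_cod_of_fam h h5 hχ c (fun x : Fin 8 × Fin 6 => insert (pI x.1) (insert (pJ x.2) B)) (fun x => ⟨?_, ?_⟩)
    fun x y e => ?_
  · rw [Finset.card_insert_of_notMem (h6 _ _), Finset.card_insert_of_notMem (h3 _), h1]
  · rw [fs_apply, Finset.sum_insert (h6 _ _), Finset.sum_insert (h3 _)]
    exact h4 _ _
  · rw [h7, h7, add_left_inj] at e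
    have h8 := eq_of_fs e (add_le_add Finset.card_le_two Finset.card_le_two)
    have h9 : pI x.1 ∈ ({pI y.1, pJ y.2} : Finset GolayPt) := h8 ▸ Finset.mem_insert_self _ _
    have h10 : pJ x.2 ∈ ({pI y.1, pJ y.2} : Finset GolayPt) :=
      h8 ▸ Finset.mem_insert_of_mem (Finset.mem_singleton_self _)
    rw [Finset.mem_insert, Finset.mem_singleton] at h9 h10
    exact Prod.ext (pIJ.1 _ _ (h9.resolve_right (pIJ.2.2 _ _))) (pIJ.2.1 _ _ (h10.resolve_left (pIJ.2.2 _ _).symm))

/-- an octad -/
def oct : golayCode := ⟨Golay.Core.word 13062145, word_facts.1⟩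

theorem sum_allOne (s : Finset GolayPt) : fs s allOne = s.card := by
  rw [fs_apply, Finset.card_eq_sum_ones, Nat.cast_sum]
  rfl

theorem le_cod_neg_aux [IsAlgClosed k] [Finite Co0] (hk : ((2 : ℕ) : k) ≠ 0) (h : ρ (signCo0 allOne) ≠ 1) :
    24 ≤ cod ρ (zpowers (signCo0 allOne)) := by
  obtain ⟨χ, h1, h2⟩ := exists_wt (ρ := ρ) SG_comm (card_ne_zero_of_exp Nat.prime_two hk SG_sq) (r := sg allOne) h
  obtain ⟨s, h3, h4⟩ := exists_has χ
  rw [Ne, h4, sum_allOne] at h1
  have h5 : s.card = 1 ∨ s.card = 3 := by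
    generalize s.card = n at h1 h3
    interval_cases n <;> revert h1 <;> decide
  rcases h5 with h5 | h5
  · exact le_cod_of_fam h4 (by omega) h2 allOne (fun i : GolayPt => {i})
      (fun i => ⟨h5, by rw [sum_allOne]; exact one_ne_zero⟩)
      fun i j e => Finset.singleton_injective (eq_of_fs e (by simp))
  · exact le_trans (by decide) (le_cod_of_two h4 (by omega) h2 allOne {some 7} h5 (by decide +kernel)
      (by decide +kernel) fun a b => by rw [sum_allOne]; exact (by decide : (1 : ZMod 2) + (1 + 1) ≠ 0))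

theorem le_cod_oct_aux [IsAlgClosed k] [Finite Co0] (hk : ((2 : ℕ) : k) ≠ 0) (h : ρ (signCo0 allOne) = 1)
    (h' : ρ (signCo0 oct) ≠ 1) : 48 ≤ cod ρ (zpowers (signCo0 oct)) := by
  obtain ⟨χ, h1, h2⟩ := exists_wt (ρ := ρ) SG_comm (card_ne_zero_of_exp Nat.prime_two hk SG_sq) (r := sg oct) h'
  obtain ⟨s, h3, h4⟩ := exists_has χ
  obtain ⟨v, h5, h6⟩ := (Submodule.ne_bot_iff _).1 (mlt_pos_iff.1 h2)
  have h7 : χ (sg allOne) = 1 := by
    have h7 : ρ (signCo0 allOne) v = _ := h5 (sg allOne)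
    rw [h] at h7
    exact Units.ext (smul_left_injective k h6 (h7.symm.trans (one_smul k v).symm))
  rw [h4, sum_allOne] at h7
  have h8 : s.card ≠ 0 := fun e => h1 ((h4 _).2 (by rw [Finset.card_eq_zero.1 e]; rfl))
  have h9 : s.card = 2 ∨ s.card = 4 := by
    generalize s.card = n at h3 h7 h8
    interval_cases n <;> revert h7 h8 <;> decide
  rcases h9 with h9 | h9
  · exact le_cod_of_two h4 (by omega) h2 oct ∅ h9 (by simp) (by simp) (by
      simp only [fs_apply]; decide +kernel)
  · exact le_cod_of_two h4 (by omega) h2 oct {some 7, some 8} h9 (by decide +kernel) (by decide +kernel) (by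
      simp only [fs_apply]; decide +kernel)

omit [FiniteDimensional k V] in
theorem bc_ne_one {g : Co0} (h : ρ g ≠ 1) : bc (AlgebraicClosure k) ρ g ≠ 1 := fun e =>
  h (baseChange_injective (AlgebraicClosure k) (e.trans (LinearMap.baseChange_one _ _).symm))

/-- **`-1` acts** -/
theorem le_cod_neg [Finite Co0] (hk : ((2 : ℕ) : k) ≠ 0) (h : ρ (signCo0 allOne) ≠ 1) :
    24 ≤ cod ρ (zpowers (signCo0 allOne)) :=
  cod_bc (AlgebraicClosure k) (ρ := ρ) (zpowers (signCo0 allOne)) ▸
    le_cod_neg_aux (card_ne_zero_closure hk) (bc_ne_one h)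

/-- **`-1` does not act** -/
theorem le_cod_oct [Finite Co0] (hk : ((2 : ℕ) : k) ≠ 0) (h : ρ (signCo0 allOne) = 1) (h' : ρ (signCo0 oct) ≠ 1) :
    48 ≤ cod ρ (zpowers (signCo0 oct)) :=
  cod_bc (AlgebraicClosure k) (ρ := ρ) (zpowers (signCo0 oct)) ▸ le_cod_oct_aux (card_ne_zero_closure hk)
    (by rw [bc_apply, h]; exact LinearMap.baseChange_one _ _) (bc_ne_one h')

end Cfsg.Agent.TwoF.SpO
end

-- part: TwoF/SpO/Co1
section
/-!
# TwoF SP-B2: the row of `Co1` in odd characteristic (helper88)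
-/

set_option autoImplicit false

namespace Cfsg.Agent.TwoF.SpO

open Cfsg Module Gen Subgroup Cfsg.Agent.TAB.Eng Cfsg.Agent.TAB.Use Cfsg.Agent.TAB.ON
open Cfsg.Agent.Characters.Brauer Cfsg.Agent.SporadicA.Co0Mono
open Cfsg.Agent.SporadicA.Co1Simple (allOne allOne_mem_center)
open Cfsg.Agent.H419.Spor.Co1 (chi psi chi_one psi_one)
open Cfsg.Agent.CoOneType.CoOneE (pr pr_surjective pr_eq_iff pr_sign_eq_iff)
open Cfsg.Agent.SigZeroCo2.Lin (rep Sp)

namespace C1

open TAB.Co1

/-- order five -/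
def c5 : List (ℕ × List ℤ) := (beta% delta% lq26b50ef2b3 fun b d e _ g _ _ _ _ _ _ _ _ _ _ _ _ _ =>
 (d (g 14 (let c:=(let c:=(let c:=(let c:=(b 2548039680000<|b (-50881167360)<|b 768074711040<|b (-325140480000)<|b 323392674150<|
 b 418037760000<|b 340090880000<|e);
 (b 290892349440<|b 0<|b (-374376038400)<|
 b (-1050015301632)<|b 0<|b 504299520000<|c));
 (let c:=(b 216052531200<|
 b (-1684937023488)<|b (-510935040000)<|b (-873977610240)<|b (-1863254016000)<|b (-1415356416000)<|c);
 (b 742973938560<|b 320336363520<|b (-2390124920832)<|b (-1418231808000)<|b (-1241572147200)<|b 1575166279680<|c)));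
 (let c:=(let c:=(b 853951848750<|b 3201643708416<|b 872969011200<|b (-3216145121280)<|b 3764131430400<|b 0<|
 c);
 (b (-2443729305600)<|b 0<|b 3061522759680<|b (-3506500730880)<|
 b (-2650152960000)<|b (-3907243671552)<|c));
 (let c:=(b (-4568316641280)<|b (-3261196173312)<|
 b (-5072191488000)<|b 2128896000000<|b 5013586575360<|b (-4005304934400)<|c);
 (b 14699999232000<|
 b (-50164531200)<|b (-867041280000)<|b (-8740094607360)<|b (-2054356992000)<|b (-2785803632640)<|c))));
 (let c:=(let c:=(let c:=(b (-6013055139840)<|b (-6759670579200)<|b 7323623424000<|b 4042408426875<|b 389673123840<|b 2419045171200<|c);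
 (b (-2961379491840)<|b (-8092385280000)<|b (-3905380417536)<|b (-4235319705600)<|b (-20703905316864)<|b (-28368042393600)<|
 c));
 (let c:=(b (-169073049600)<|b (-5052284928000)<|b (-26796220416000)<|b (-15736799232000)<|b 22980132864000<|
 b 691320913920<|c);
 (b (-67528581120000)<|b 25644108349440<|b 39802175280000<|b (-42189804011520)<|
 b (-18214502400000)<|b (-10831822848000)<|c)));
 (let c:=(let c:=(b 55431806976000<|b 135683112960000<|b (-45584509501440)<|b 60105469132800<|
 b (-44582222168064)<|b 16410968064000<|c);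
 (b 102335643648000<|b 15634612224000<|b (-66713810042880)<|b (-298837278720000)<|
 b (-65103528591360)<|b (-92990177280000)<|c));
 (let c:=(b (-7481713759027200)<|b 124157214720000<|b 778653853286400<|b (-1087985074176000)<|
 b 60257634877440<|b (-97670342246400)<|c);
 (d 161287091953827840000<|d 32011868528640000<|d (-23176013414400000)<|d (-3912833433600000)<|
 d (-743438352384000)<|d (-1596827324252160)<|c))))))<|d (g 15 (let c:=(let c:=(let c:=(let c:=(b (-214990848000)<|b (-264438743040)<|b (-257129054208)<|b (-265155379200)<|b (-259243808850)<|b (-257989017600)<|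
 b (-247390208000)<|e);
 (b (-258801205248)<|b (-262020096000)<|b (-270171832320)<|b (-283787919360)<|b (-262020096000)<|
 b (-250822656000)<|c));
 (let c:=(b (-255122472960)<|b (-300395962368)<|b (-277696512000)<|b (-275188285440)<|
 b (-299267260416)<|b (-274113331200)<|c);
 (b (-255641754240)<|b (-272178413568)<|b (-314746601472)<|
 b (-281876889600)<|b (-283787919360)<|b (-245089566720)<|c)));
 (let c:=(let c:=(b (-254689022250)<|b (-214130884608)<|
 b (-242223022080)<|b (-306401771520)<|b (-177367449600)<|b (-262020096000)<|c);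
 (b (-299267260416)<|
 b (-262020096000)<|b (-204957941760)<|b (-312811683840)<|b (-284663808000)<|b (-318616436736)<|c));
 (let c:=(b (-335385722880)<|b (-272178413568)<|b (-327861043200)<|b (-223351603200)<|b (-190911873024)<|b (-318486159360)<|c);
 (b (-80621568000)<|b (-245089566720)<|b (-298598400000)<|b (-407622647808)<|b (-257989017600)<|b (-317326491648)<|
 c))));
 (let c:=(let c:=(let c:=(b (-335385722880)<|b (-380533800960)<|b (-139744051200)<|b (-227316506625)<|b (-300604981248)<|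
 b (-214990848000)<|c);
 (b (-222515527680)<|b (-493682688000)<|b (-268308578304)<|b (-399882977280)<|
 b (-570155728896)<|b (-620463587328)<|c));
 (let c:=(b (-204957941760)<|b (-515978035200)<|
 b (-741718425600)<|b (-415648972800)<|b 0<|b (-141085900800)<|c);
 (b (-1009262592000)<|
 b 134154289152<|b 79676784000<|b (-794606174208)<|b (-644972544000)<|b (-415648972800)<|c)));
 (let c:=(let c:=(b 838464307200<|b 1289945088000<|b (-922310737920)<|b 251539292160<|b (-190911873024)<|b (-902961561600)<|c);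
 (b (-515978035200)<|b (-967458816000)<|b (-922310737920)<|b (-2257403904000)<|b (-1328643440640)<|b (-1469104128000)<|
 c));
 (let c:=(b (-64430607237120)<|b 3547348992000<|b 4360014397440<|b (-6385228185600)<|b 4360014397440<|
 b (-2953974251520)<|c);
 (d 1398332079046656000<|d 115288842240000<|d (-98035826688000)<|d (-16769286144000)<|
 d (-16769286144000)<|d (-10430495981568)<|c))))))<|d (g 16 (let c:=(let c:=(let c:=(let c:=(b (-214990848000)<|b (-264438743040)<|b (-257129054208)<|b (-265155379200)<|b (-259243808850)<|b (-257989017600)<|b (-247390208000)<|e);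
 (b (-258801205248)<|b (-262020096000)<|b (-270171832320)<|b (-283787919360)<|b (-262020096000)<|b (-250822656000)<|
 c));
 (let c:=(b (-255122472960)<|b (-300395962368)<|b (-277696512000)<|b (-275188285440)<|b (-299267260416)<|
 b (-274113331200)<|c);
 (b (-255641754240)<|b (-272178413568)<|b (-314746601472)<|b (-281876889600)<|
 b (-283787919360)<|b (-245089566720)<|c)));
 (let c:=(let c:=(b (-254689022250)<|b (-214130884608)<|b (-242223022080)<|
 b (-306401771520)<|b (-177367449600)<|b (-262020096000)<|c);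
 (b (-299267260416)<|b (-262020096000)<|
 b (-204957941760)<|b (-312811683840)<|b (-284663808000)<|b (-318616436736)<|c));
 (let c:=(b (-335385722880)<|
 b (-272178413568)<|b (-327861043200)<|b (-223351603200)<|b (-190911873024)<|b (-318486159360)<|c);
 (b (-80621568000)<|b (-245089566720)<|b (-298598400000)<|b (-407622647808)<|b (-257989017600)<|b (-317326491648)<|c))));
 (let c:=(let c:=(let c:=(b (-335385722880)<|b (-380533800960)<|b (-139744051200)<|b (-227316506625)<|b (-300604981248)<|b (-214990848000)<|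
 c);
 (b (-222515527680)<|b (-493682688000)<|b (-268308578304)<|b (-399882977280)<|b (-570155728896)<|
 b (-620463587328)<|c));
 (let c:=(b (-204957941760)<|b (-515978035200)<|b (-741718425600)<|
 b (-415648972800)<|b 0<|b (-141085900800)<|c);
 (b (-1009262592000)<|b 134154289152<|
 b 79676784000<|b (-794606174208)<|b (-644972544000)<|b (-415648972800)<|c)));
 (let c:=(let c:=(b 838464307200<|
 b 1289945088000<|b (-922310737920)<|b 251539292160<|b (-190911873024)<|b (-902961561600)<|c);
 (b (-515978035200)<|b (-967458816000)<|b (-922310737920)<|b (-2257403904000)<|b (-1328643440640)<|b (-1469104128000)<|c));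
 (let c:=(b (-64430607237120)<|b 3547348992000<|b 4360014397440<|b (-6385228185600)<|b 4360014397440<|b (-2953974251520)<|
 c);
 (d 1398332079046656000<|d 115288842240000<|d (-98035826688000)<|d (-16769286144000)<|d (-16769286144000)<|
 d (-10430495981568)<|c))))))<|e))

/-- order seven -/
def c7 : List (ℕ × List ℤ) := (beta% delta% lq26b50ef2b3 fun b d e _ g _ _ _ _ _ _ _ _ _ _ _ _ _ =>
 (d (g 26 (let c:=(let c:=(let c:=(let c:=(b (-214990848000)<|b (-264438743040)<|b (-257129054208)<|b (-265155379200)<|b (-259243808850)<|b (-257989017600)<|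
 b (-247390208000)<|e);
 (b (-258801205248)<|b (-262020096000)<|b (-270171832320)<|b (-283787919360)<|b (-262020096000)<|
 b (-250822656000)<|c));
 (let c:=(b (-255122472960)<|b (-300395962368)<|b (-277696512000)<|b (-275188285440)<|
 b (-299267260416)<|b (-274113331200)<|c);
 (b (-255641754240)<|b (-272178413568)<|b (-314746601472)<|
 b (-281876889600)<|b (-283787919360)<|b (-245089566720)<|c)));
 (let c:=(let c:=(b (-254689022250)<|b (-214130884608)<|
 b (-242223022080)<|b (-306401771520)<|b (-177367449600)<|b (-262020096000)<|c);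
 (b (-299267260416)<|
 b (-262020096000)<|b (-204957941760)<|b (-312811683840)<|b (-284663808000)<|b (-318616436736)<|c));
 (let c:=(b (-335385722880)<|b (-272178413568)<|b (-327861043200)<|b (-223351603200)<|b (-190911873024)<|b (-318486159360)<|c);
 (b (-80621568000)<|b (-245089566720)<|b (-298598400000)<|b (-407622647808)<|b (-257989017600)<|b (-317326491648)<|
 c))));
 (let c:=(let c:=(let c:=(b (-335385722880)<|b (-380533800960)<|b (-139744051200)<|b (-227316506625)<|b (-300604981248)<|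
 b (-214990848000)<|c);
 (b (-222515527680)<|b (-493682688000)<|b (-268308578304)<|b (-399882977280)<|
 b (-570155728896)<|b (-620463587328)<|c));
 (let c:=(b (-204957941760)<|b (-515978035200)<|
 b (-741718425600)<|b (-415648972800)<|b 0<|b (-141085900800)<|c);
 (b (-1009262592000)<|
 b 134154289152<|b 79676784000<|b (-794606174208)<|b (-644972544000)<|b (-415648972800)<|c)));
 (let c:=(let c:=(b 838464307200<|b 1289945088000<|b (-922310737920)<|b 251539292160<|b (-190911873024)<|b (-902961561600)<|c);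
 (b (-515978035200)<|b (-967458816000)<|b (-922310737920)<|b (-2257403904000)<|b (-1328643440640)<|b (-1469104128000)<|
 c));
 (let c:=(b (-64430607237120)<|b 3547348992000<|b 4360014397440<|b (-6385228185600)<|b 4360014397440<|
 b (-2953974251520)<|c);
 (d 1398332079046656000<|d 115288842240000<|d (-98035826688000)<|d (-16769286144000)<|
 d (-16769286144000)<|d (-10430495981568)<|c))))))<|d (g 27 (let c:=(let c:=(let c:=(let c:=(b (-214990848000)<|b (-264438743040)<|b (-257129054208)<|b (-265155379200)<|b (-259243808850)<|b (-257989017600)<|b (-247390208000)<|e);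
 (b (-258801205248)<|b (-262020096000)<|b (-270171832320)<|b (-283787919360)<|b (-262020096000)<|b (-250822656000)<|
 c));
 (let c:=(b (-255122472960)<|b (-300395962368)<|b (-277696512000)<|b (-275188285440)<|b (-299267260416)<|
 b (-274113331200)<|c);
 (b (-255641754240)<|b (-272178413568)<|b (-314746601472)<|b (-281876889600)<|
 b (-283787919360)<|b (-245089566720)<|c)));
 (let c:=(let c:=(b (-254689022250)<|b (-214130884608)<|b (-242223022080)<|
 b (-306401771520)<|b (-177367449600)<|b (-262020096000)<|c);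
 (b (-299267260416)<|b (-262020096000)<|
 b (-204957941760)<|b (-312811683840)<|b (-284663808000)<|b (-318616436736)<|c));
 (let c:=(b (-335385722880)<|
 b (-272178413568)<|b (-327861043200)<|b (-223351603200)<|b (-190911873024)<|b (-318486159360)<|c);
 (b (-80621568000)<|b (-245089566720)<|b (-298598400000)<|b (-407622647808)<|b (-257989017600)<|b (-317326491648)<|c))));
 (let c:=(let c:=(let c:=(b (-335385722880)<|b (-380533800960)<|b (-139744051200)<|b (-227316506625)<|b (-300604981248)<|b (-214990848000)<|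
 c);
 (b (-222515527680)<|b (-493682688000)<|b (-268308578304)<|b (-399882977280)<|b (-570155728896)<|
 b (-620463587328)<|c));
 (let c:=(b (-204957941760)<|b (-515978035200)<|b (-741718425600)<|
 b (-415648972800)<|b 0<|b (-141085900800)<|c);
 (b (-1009262592000)<|b 134154289152<|
 b 79676784000<|b (-794606174208)<|b (-644972544000)<|b (-415648972800)<|c)));
 (let c:=(let c:=(b 838464307200<|
 b 1289945088000<|b (-922310737920)<|b 251539292160<|b (-190911873024)<|b (-902961561600)<|c);
 (b (-515978035200)<|b (-967458816000)<|b (-922310737920)<|b (-2257403904000)<|b (-1328643440640)<|b (-1469104128000)<|c));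
 (let c:=(b (-64430607237120)<|b 3547348992000<|b 4360014397440<|b (-6385228185600)<|b 4360014397440<|b (-2953974251520)<|
 c);
 (d 1398332079046656000<|d 115288842240000<|d (-98035826688000)<|d (-16769286144000)<|d (-16769286144000)<|
 d (-10430495981568)<|c))))))<|e))

/-- order three -/
def c3 : List (ℕ × List ℤ) := (beta% delta% lq26b50ef2b3 fun b d e _ g _ _ _ _ _ _ _ _ _ _ _ _ _ =>
 (d (g 4 (let c:=(let c:=(let c:=(let c:=(b 51494400<|b 24945408<|b (-107108352)<|b 191208960<|
 b (-88278255)<|b 44893440<|b 127622400<|e);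
 (b 86515968<|b 522838800<|b (-172373760)<|b (-789979392)<|b 95954625<|b 513504000<|c));
 (let c:=(b 1176468480<|b (-204959808)<|b 365112000<|b 524095488<|b (-9953280)<|b (-141445440)<|
 c);
 (b 918295056<|b (-881425152)<|
 b 985374720<|b 99056640<|b (-1765696320)<|b 193964544<|c)));
 (let c:=(let c:=(b (-233107875)<|b (-1366087680)<|b (-354511872)<|b (-75572224)<|b (-126593280)<|b (-998146800)<|c);
 (b (-1965959424)<|b 295540245<|b 500645376<|b (-545361984)<|b (-19302400)<|
 b (-497352960)<|c));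
 (let c:=(b 1152009216<|b (-2343857472)<|
 b (-720740160)<|b (-1338965760)<|b 397882368<|b 1899564480<|c);
 (b (-1737936000)<|b (-4523143680)<|b (-762988800)<|b (-417788928)<|b (-500981760)<|b (-1945907712)<|c))));
 (let c:=(let c:=(let c:=(b 2898809856<|b 1483272000<|b 334713600<|b 2206956375<|b 701555712<|
 b (-2163317760)<|c);
 (b 3213701568<|b (-560358400)<|
 b 2342006784<|b 843540480<|b (-4914120960)<|b (-4328183808)<|c));
 (let c:=(b 259983360<|b (-161429760)<|b (-1526480640)<|b (-7703055360)<|b (-3175511040)<|b (-1228990464)<|c);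
 (b (-18156652800)<|b 1621389312<|b (-3279625200)<|b (-10165782528)<|b 895276800<|
 b 1889141760<|c)));
 (let c:=(let c:=(b 6315978240<|b 1192320000<|b 4495585536<|
 b (-13199397120)<|b (-3422684160)<|b (-13230397440)<|c);
 (b 16169103360<|
 b (-42496565760)<|b (-9260469504)<|b (-1814918400)<|b (-21461013504)<|b 13780166400<|c));
 (let c:=(b (-16761634560)<|b (-17757273600)<|b (-64680145920)<|b (-90164067840)<|b 31791771648<|b (-10510663680)<|c);
 (d 1718657740800<|d 490377888000<|d (-1161099878400)<|d 315637171200<|d 20864563200<|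
 d (-81823053312)<|c))))))<|d (g 5 (let c:=(let c:=(let c:=(let c:=(b 3127680000<|b 966712320<|
 b (-8543149056)<|b (-1494374400)<|b (-1337252085)<|b 1088640000<|b (-7195136000)<|e);
 (b (-800464896)<|b (-8684577000)<|b (-8953251840)<|b (-13174907904)<|b 15633496125<|b 9944448000<|c));
 (let c:=(b 9370521600<|b 6361265664<|b (-12656160000)<|b 5680066560<|b 4034064384<|
 b (-15580771200)<|c);
 (b 3746418480<|b 2951645184<|
 b 1215295488<|b (-4288204800)<|b (-15718406400)<|b 31379705856<|c)));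
 (let c:=(let c:=(b (-15013873875)<|b (-631535616)<|b 4748789760<|b 17255813120<|b 2340264960<|b 3563169750<|c);
 (b (-37698794496)<|b 33593074515<|b (-17009879040)<|b 16395851520<|b 24088064000<|
 b (-38313160704)<|c));
 (let c:=(b 10510663680<|b (-819092736)<|b 56522188800<|
 b 29779200000<|b 13365264384<|b 54337113600<|c);
 (b (-43614028800)<|
 b (-11819831040)<|b 23119488000<|b 8363741184<|b (-32099328000)<|b 66530709504<|c))));
 (let c:=(let c:=(let c:=(b 58410823680<|b 45673891200<|b (-61865856000)<|b 87787820250<|b 247762944<|b (-9276456960)<|c);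
 (b 124348815360<|b (-41606656000)<|b 115133571072<|b 130913003520<|b (-128395072512)<|
 b (-8850456576)<|c));
 (let c:=(b (-154382592000)<|b 173093760000<|b 234213120000<|
 b (-71374786560)<|b (-8329651200)<|b (-152824688640)<|c);
 (b 209049984000<|
 b (-104566173696)<|b 13380066000<|b (-75184091136)<|b (-238847616000)<|b 192333926400<|c)));
 (let c:=(let c:=(b (-1037405491200)<|b (-977785344000)<|b 302342077440<|b 164081998080<|b 849160101888<|b 121753497600<|c);
 (b 773145907200<|b 233273779200<|b 890286059520<|b 770663808000<|b 506975293440<|b 1944184704000<|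
 c));
 (let c:=(b 19400057487360<|b (-9213253632000)<|b (-6317595648000)<|b (-6210734745600)<|b (-4918214246400)<|
 b 2472962088960<|c);
 (d 15957737123328000<|d (-469641908736000)<|d 276939565056000<|d 97238568960000<|
 d 33227059507200<|d 17974170998784<|c))))))<|d (g 6 (let c:=(let c:=(let c:=(let c:=(b 1304140800<|b (-2656797696)<|b (-6225423360)<|b 3772753920<|b 3495366810<|b 5035822080<|b (-1439027200)<|e);
 (b (-9635225600)<|b 5436149400<|b 7501711360<|b (-1266914304)<|b 6325055100<|b 8774937600<|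
 c));
 (let c:=(b 7845826560<|b (-5119186176)<|b 8043692800<|
 b (-16344846336)<|b (-7401590784)<|b (-4032270720)<|c);
 (b (-9493407504)<|b 5736867840<|b 5975912448<|b (-15153582080)<|b (-13616640)<|b 13995749376<|c)));
 (let c:=(let c:=(b (-22074452400)<|b 7300343808<|b 8712996864<|b 3451162624<|b (-11960593920)<|b (-5048879850)<|
 c);
 (b (-41399424000)<|b (-20207277090)<|b (-32663414784)<|
 b 988879104<|b 4817612800<|b 12557076480<|c));
 (let c:=(b 3730784256<|
 b 11828146176<|b (-17434475520)<|b 481761280<|b (-36805459968)<|b (-4155191040)<|c);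
 (b (-15288307200)<|b (-11891577600)<|b (-57920844800)<|b (-59955425280)<|b 16924139520<|b 20298485760<|c))));
 (let c:=(let c:=(let c:=(b (-10467495936)<|b (-61584324480)<|b (-69715276800)<|b 3736789875<|b (-70337146880)<|
 b (-55166484480)<|c);
 (b (-82509267456)<|b (-8321331200)<|b 22179815424<|
 b (-18931046400)<|b (-483775488)<|b (-27812229120)<|c));
 (let c:=(b (-154382592000)<|
 b (-142904263680)<|b (-65534330880)<|b 16379883520<|b 10684677120<|b (-127958298624)<|c);
 (b (-136097561600)<|b (-87753093120)<|b (-243148575600)<|b 16493875200<|b 15340723200<|b (-170543493120)<|c)));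
 (let c:=(let c:=(b (-359217131520)<|b (-162984038400)<|b (-260294501376)<|b 34668990720<|b 126053867520<|
 b (-35909406720)<|c);
 (b (-485430865920)<|b (-16048327680)<|b (-561391294464)<|b (-22983091200)<|
 b (-418470506496)<|b (-133688755200)<|c));
 (let c:=(b (-837947658240)<|b (-1439559475200)<|b (-818897264640)<|
 b (-176194529280)<|b (-509379526656)<|b (-510448435200)<|c);
 (d (-183132530380800)<|d (-6300822528000)<|
 d (-8569232179200)<|d 1345252147200<|d (-1484816486400)<|d 595118684160<|c))))))<|d (g 7 (let c:=(let c:=(let c:=(let c:=(b 1257984000<|b (-343388160)<|b (-245846016)<|b 346521600<|b (-225599985)<|b 282009600<|b (-1071616000)<|e);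
 (b (-388878336)<|b 0<|b (-764375040)<|b (-1155575808)<|b 245217375<|b 496128000<|
 c));
 (let c:=(b 1973452800<|b (-489328128)<|
 b (-1584000000)<|b 1360773120<|b 597196800<|b (-2332800000)<|c);
 (b 0<|b 1227239424<|b 1707982848<|b (-1776844800)<|b (-2267481600)<|b 2185740288<|c)));
 (let c:=(let c:=(b (-2236108875)<|b (-859963392)<|b (-1546321920)<|
 b 2251325440<|b 0<|b 0<|c);
 (b (-5485252608)<|b 2834997165<|b (-1050255360)<|b 1399680000<|b 3587584000<|b 931627008<|c));
 (let c:=(b (-19906560)<|b (-1638185472)<|b 5443200000<|b 2990592000<|b 3511517184<|b 8092761600<|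
 c);
 (b 0<|b (-5255331840)<|b (-387072000)<|
 b (-1922973696)<|b (-2587852800)<|b 4486938624<|c))));
 (let c:=(let c:=(let c:=(b 5832622080<|b 6531840000<|b 2587852800<|b 13405216500<|b (-463896576)<|b (-6290472960)<|c);
 (b 11975040000<|b (-9261056000)<|b 13663862784<|b 15318097920<|b (-7252955136)<|
 b 2212614144<|c));
 (let c:=(b (-15822643200)<|b (-2911334400)<|b 13461811200<|
 b (-6585384960)<|b (-1186099200)<|b (-7054295040)<|c);
 (b (-15814656000)<|b 8707129344<|b 0<|b 22860693504<|b (-18786816000)<|b 8420966400<|c)));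
 (let c:=(let c:=(b 2372198400<|b 11446272000<|b 9898536960<|b 9963233280<|b 63959777280<|b (-45088358400)<|
 c);
 (b 71663616000<|b (-44068147200)<|b (-51239485440)<|b 220589568000<|
 b (-92177326080)<|b 213717504000<|c));
 (let c:=(b 759231221760<|b (-665127936000)<|
 b 163034726400<|b 53648179200<|b (-16303472640)<|b 170469826560<|c);
 (d 2887345004544000<|
 d (-5604318720000)<|d (-4483454976000)<|d 12693417984000<|d 465813504000<|d (-340742578176)<|c))))))<|e))

/-- involutions -/
def c2 : List (ℕ × List ℤ) := (beta% delta% lq26b50ef2b3 fun b d e _ g _ _ _ _ _ _ _ _ _ _ _ _ _ =>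
 (d (g 1 (let c:=(let c:=(let c:=(let c:=(b 10982400<|b (-23924736)<|b (-13059072)<|b 3368960<|b 2825550<|b 61440<|b (-27673600)<|e);
 (b (-25940992)<|b (-35422200)<|b 21898240<|b 19685376<|
 b 6142500<|b 0<|c));
 (let c:=(b (-31764480)<|b (-10810368)<|b 0<|b (-32342016)<|b (-19537920)<|b (-39162240)<|c);
 (b (-102171888)<|b 64816128<|b (-45686784)<|b (-20213760)<|b 79038720<|
 b 53673984<|c)));
 (let c:=(let c:=(b 0<|b 90961920<|b 41293824<|b 0<|b (-10391040)<|b 59166450<|c);
 (b 60014592<|b 9459450<|b 7411712<|b 48867840<|b 15641600<|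
 b 56309760<|c));
 (let c:=(b (-28643328)<|b 163848960<|b 139856640<|b 55587840<|b 50540544<|b (-91322880)<|c);
 (b 20390400<|b 174585600<|b 235827200<|b 72732672<|b 120791040<|b 201535488<|
 c))));
 (let c:=(let c:=(let c:=(b 33546240<|b 154949760<|
 b 310502400<|b (-35319375)<|b 192704512<|b 201277440<|c);
 (b 385507584<|b (-134758400)<|b (-33067008)<|b (-36218880)<|b 179085312<|b 112499712<|c));
 (let c:=(b 919726080<|b 1153290240<|b 440079360<|b 518819840<|
 b 292930560<|b 805855232<|c);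
 (b 1204403200<|b 1279660032<|b 2997442800<|b 581087232<|b 30412800<|b 1492930560<|c)));
 (let c:=(let c:=(b 5261168640<|b 1511424000<|b 2868203520<|b 1489662720<|b 1151152128<|b 316661760<|
 c);
 (b 13107548160<|b 2662640640<|b 9243666432<|
 b 434073600<|b 5825433600<|b 3335270400<|c));
 (let c:=(b 32071818240<|b 44493926400<|b 22888120320<|b 3735029760<|b 21674225664<|b 7805952000<|c);
 (d 763847884800<|d 330954624000<|d 265260441600<|d 155738419200<|d 71201894400<|d 18616485888<|
 c))))))<|d (g 2 (let c:=(let c:=(let c:=(let c:=(b 3127680000<|b 966712320<|b (-8543149056)<|b (-1494374400)<|b (-1337252085)<|b 1088640000<|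
 b (-7195136000)<|e);
 (b (-800464896)<|b (-8684577000)<|b (-8953251840)<|
 b (-13174907904)<|b 15633496125<|b 9944448000<|c));
 (let c:=(b 9370521600<|
 b 6361265664<|b (-12656160000)<|b 5680066560<|b 4034064384<|b (-15580771200)<|c);
 (b 3746418480<|b 2951645184<|b 1215295488<|b (-4288204800)<|b (-15718406400)<|b 31379705856<|c)));
 (let c:=(let c:=(b (-15013873875)<|b (-631535616)<|b 4748789760<|b 17255813120<|
 b 2340264960<|b 3563169750<|c);
 (b (-37698794496)<|b 33593074515<|
 b (-17009879040)<|b 16395851520<|b 24088064000<|b (-38313160704)<|c));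
 (let c:=(b 10510663680<|b (-819092736)<|b 56522188800<|b 29779200000<|b 13365264384<|b 54337113600<|c);
 (b (-43614028800)<|b (-11819831040)<|b 23119488000<|b 8363741184<|b (-32099328000)<|b 66530709504<|
 c))));
 (let c:=(let c:=(let c:=(b 58410823680<|b 45673891200<|b (-61865856000)<|b 87787820250<|
 b 247762944<|b (-9276456960)<|c);
 (b 124348815360<|b (-41606656000)<|
 b 115133571072<|b 130913003520<|b (-128395072512)<|b (-8850456576)<|c));
 (let c:=(b (-154382592000)<|b 173093760000<|b 234213120000<|b (-71374786560)<|b (-8329651200)<|b (-152824688640)<|c);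
 (b 209049984000<|b (-104566173696)<|b 13380066000<|b (-75184091136)<|b (-238847616000)<|b 192333926400<|
 c)));
 (let c:=(let c:=(b (-1037405491200)<|b (-977785344000)<|b 302342077440<|b 164081998080<|
 b 849160101888<|b 121753497600<|c);
 (b 773145907200<|b 233273779200<|b 890286059520<|
 b 770663808000<|b 506975293440<|b 1944184704000<|c));
 (let c:=(b 19400057487360<|b (-9213253632000)<|
 b (-6317595648000)<|b (-6210734745600)<|b (-4918214246400)<|b 2472962088960<|c);
 (d 15957737123328000<|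
 d (-469641908736000)<|d 276939565056000<|d 97238568960000<|d 33227059507200<|d 17974170998784<|c))))))<|d (g 3 (let c:=(let c:=(let c:=(let c:=(b (-32595750)<|b 4293810<|b (-1922778)<|b 3805200<|b 0<|b (-996300)<|
 b (-12972000)<|e);
 (b (-3434508)<|b 0<|b 5405400<|b 11547360<|b 0<|b (-7717500)<|c));
 (let c:=(b (-5662800)<|b 22132440<|b 10395000<|b 10160640<|
 b 22039128<|b 8019000<|c);
 (b 0<|b 10357632<|b 31434480<|b 13179600<|b 14434200<|b (-12941208)<|c)));
 (let c:=(let c:=(b 0<|b (-34642080)<|b (-10296000)<|b 27696760<|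
 b (-56133000)<|b 0<|c);
 (b 25949484<|b 0<|b (-39099060)<|b 33679800<|b 15822625<|b 37528920<|c));
 (let c:=(b 54159840<|b 6735960<|b 43659000<|b (-25641000)<|
 b (-49356216)<|b 28690200<|c);
 (b (-120285000)<|b (-11226600)<|b 31641750<|b 97738488<|b (-2624400)<|b 30196152<|c))));
 (let c:=(let c:=(let c:=(b 37422000<|b 78586200<|b (-81081000)<|b 0<|b 25513488<|
 b (-40370400)<|c);
 (b (-26195400)<|b 129997000<|b 19636344<|b 88573500<|b 209896596<|b 243738963<|c));
 (let c:=(b (-30384900)<|b 138655800<|b 283896900<|b 128066400<|b (-184327650)<|b (-113775480)<|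
 c);
 (b 495495000<|
 b (-237718152)<|b 0<|b 353734128<|b 79339500<|b 92446200<|c)));
 (let c:=(let c:=(b (-882308700)<|b (-828630000)<|b 437837400<|b (-340540200)<|b 27433728<|b 423694800<|c);
 (b 1010394000<|b 1031911650<|b 437837400<|
 b 876987000<|b 790862940<|b 1130283000<|c));
 (let c:=(b 8520989400<|b 3283780500<|b (-9632422800)<|b (-1283574600)<|b (-6129723600)<|b 1566110700<|c);
 (d (-70139362293000)<|d (-76621545000)<|d 305307387000<|d 51545403000<|d (-21891870000)<|d 19431223812<|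
 c))))))<|e))
private theorem okA : frW 160 RA (fun R => okG D RA R (fun u => D.ord u % 23 == 0) 5 c5 &&
    (okG D RA R (fun u => D.ord u % 23 == 0) 7 c7 && (okG D RA R (fun u => D.pwf u (D.ord u / 2) == 2) 3 c3 &&
    allL (fun c => okF D RA R (fun u => D.pwf u (D.ord u / 2) == c.1) 2 2 c.2) c2))) = true := by decide +kernel
theorem ok5 : okOrdP D RA (fun u => D.ord u % 23 == 0) 5 c5 = true := okG_spec (and3 ((frW_eq _ _ _).symm.trans okA)).1
theorem ok7 : okOrdP D RA (fun u => D.ord u % 23 == 0) 7 c7 = true := okG_spec (and3 ((frW_eq _ _ _).symm.trans okA)).2.1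
theorem ok3 : okOrdP D RA (fun u => D.pwf u (D.ord u / 2) == 2) 3 c3 = true :=
  okG_spec (Bool.and_eq_true_iff.1 (and3 ((frW_eq _ _ _).symm.trans okA)).2.2).1
theorem ok2 : allL (fun c => okProd D RA (fun u => D.pwf u (D.ord u / 2) == c.1) 2 2 c.2) c2 = true :=
  allL_of fun c hc => okF_spec (allL_spec (Bool.and_eq_true_iff.1 (and3 ((frW_eq _ _ _).symm.trans okA)).2.2).2 c hc)
theorem ok2' : allL (fun u => D.ord u != 2 || c2.any fun c => c.1 == u) (List.range D.n) = true := by
  decide +kernel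

/-- the table; the lifts of the elements of type `2` have order four -/
theorem tabL : ∃ T : TD Spor.Co1 D, T.Mass ∧ Rat T ∧ T.ty 1 = 0 ∧ (∀ w ∈ RA, IrrRow T w) ∧
    ∀ y : Co0, T.ty (pr y) = 2 → y * y = signCo0 allOne := by
  have := H68.CoMdl.finite_co1
  obtain ⟨θ, hθ, h1⟩ := H419.Spor.Co1.exists_character
  obtain ⟨ω, hω, h2⟩ := exists_sq
  have hθ' := isGeneralizedCharacter_of_isCharacter hθ
  have hω' := isGeneralizedCharacter_of_isCharacter hω
  obtain ⟨T, hm, hr, hT, -⟩ := exists_td_rat ok_pow ok_sep ok_sum H68.CoMdl.card_co1 mm (box hθ' hω' h1 h2)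
  have h3 : ∀ g, θ g = (nth s276 (T.ty g) : ℂ) ∧ ω g = (nth s576 (T.ty g) : ℂ) := fun g => by
    have h4 := (hT g _ (T.lt g)).1 rfl
    have h5 := allL_spec ok_self _ (List.mem_range.2 (T.lt g))
    rw [Bool.or_eq_true, beq_iff_eq, decide_eq_true_eq] at h5
    rcases h5 with h5 | h5
    · have h6 := h4.1
      rw [h5] at h6 ⊢
      obtain rfl : g = 1 := orderOf_eq_one_iff.1 h6
      rw [← map_one pr, h1, h2, psi_one, chi_one]
      refine ⟨rfl, ?_⟩
      show _ = ((576 : ℤ) : ℂ)
      norm_num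
    · have h6 := h4.2 _ h5
      rwa [pow_one] at h6
  have h4 : Virt T (nth s276) := by
    rw [Virt, ← funext fun g => (h3 g).1]
    exact hθ'
  have h5 : Virt T (nth s576) := by
    rw [Virt, ← funext fun g => (h3 g).2]
    exact hω'
  have h6 : Virt T (nth (List.replicate 99 1)) := (Virt.const 1).congr (by decide)
  have h7 : ∀ sd ∈ Sd, Virt T (nth sd) := fun sd hs => by
    simp only [Sd, List.mem_cons, List.not_mem_nil, or_false] at hs
    rcases hs with rfl | rfl | rfl | rfl | rfl | rfl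
    exacts [h4, h5, virt_coad hm hr h6 co2, virt_coad hm hr h6 co3, virt_coad hm hr h6 co5, virt_coad hm hr h4 ce3]
  refine ⟨T, hm, hr, ty_one (by decide +kernel), irr_mkRows (tab_rows hm h7).2, fun y hy => ?_⟩
  have h8 : pr 1 = pr (y * y) := by
    have h8 : orderOf (pr y) = 2 := by rw [T.ord, hy]; rfl
    rw [map_mul, ← pow_two, ← h8, pow_orderOf_eq_one, map_one]
  refine ((pr_eq_iff _ _).1 h8).elim (fun e => ?_) fun e => e.trans (one_mul _)
  obtain ⟨h9, h10⟩ := h3 (pr y)
  rw [h1, hy, psi, e, chi_one, pow_two, ← h2, h10, hy] at h9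
  have h11 : nth s576 2 = 0 := rfl
  have h12 : nth s276 2 = 12 := rfl
  rw [h11, h12] at h9
  norm_num at h9

end C1

variable {V : Type} [AddCommGroup V] [Module (ZMod 3) V] [Finite V] {ρ : Representation (ZMod 3) Co0 V}

/-- a power of a product of two conjugates -/
theorem exists_lift {D : Dat} {T : TD Spor.Co1 D} {x : Co0} {t : ℕ}
    (h : ∃ a, (D.pwf (T.ty (a * pr x * a⁻¹ * pr x)) (D.ord (T.ty (a * pr x * a⁻¹ * pr x)) / 2) == t) = true) :
    ∃ y : Co0, T.ty (pr y) = t ∧ cod ρ (zpowers y) ≤ 2 * cod ρ (zpowers x) := by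
  obtain ⟨a, ha⟩ := h
  obtain ⟨a, rfl⟩ := pr_surjective a
  rw [beq_iff_eq, ← T.pow, ← map_inv, ← map_mul, ← map_mul, ← map_mul, ← map_pow] at ha
  exact ⟨_, ha, (cod_pow_le _ _).trans (cod_prod_le a x)⟩

/-- **the elements of order three** -/
theorem twelve_le (hi : Irr ρ ⊤) (hk : ∀ g, ρ g = 1 → pr g = 1) {x : Co0} (hx : orderOf x = 3) :
    12 ≤ cod ρ (zpowers x) := by
  have := H68.CoMdl.finite_co1
  obtain ⟨T, -, hr, h1, hW, h2⟩ := C1.tabL
  have h3 : orderOf (pr x) = 3 := orderOf_eq_prime (by rw [← map_pow, ← hx, pow_orderOf_eq_one, map_one]) fun e => by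
    rcases (pr_eq_iff _ _).1 ((map_one pr).trans e.symm) with h | h
    · rw [h, orderOf_one] at hx
      cases hx
    · have h4 : x ^ 2 = 1 := by rw [h, one_mul, pow_two, signCo0_mul_self]
      exact absurd (hx ▸ orderOf_dvd_of_pow_eq_one h4) (by decide)
  obtain ⟨y, hy, h4⟩ := exists_lift (ρ := ρ) (exists_prod_ord h1 hW C1.ok3 h3)
  by_cases hz : ρ (signCo0 allOne) = 1
  · have h5 : pr (signCo0 oct) ≠ 1 := fun e => by
      rcases (pr_sign_eq_iff 0 oct).1 (by rw [signCo0_zero, map_one, e]) with h | h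
      · exact absurd (congrFun (congrArg Subtype.val h) (some 0)) (by decide +kernel)
      · exact absurd (congrFun (congrArg Subtype.val h) (some 1)) (by decide +kernel)
    have h6 := le_cod_oct (ρ := ρ) (by decide) hz fun e => h5 (hk _ e)
    have h7 : orderOf (pr (signCo0 oct)) = 2 :=
      orderOf_eq_prime (by rw [← map_pow, pow_two, signCo0_mul_self, map_one]) h5
    have h8 := allL_spec C1.ok2' _ (List.mem_range.2 (T.lt (pr (signCo0 oct))))
    rw [← T.ord, h7, bne_self_eq_false, Bool.false_or, List.any_eq_true] at h8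
    obtain ⟨c, h8, h9⟩ := h8
    obtain ⟨w, hw, h10⟩ := exists_lift (ρ := ρ) (exists_prod h1 hW (allL_spec C1.ok2 c h8) hy hy)
    obtain ⟨n, h11⟩ := hr _ _ (hw.trans (beq_iff_eq.1 h9))
    obtain ⟨b, h11⟩ := isConj_iff.1 h11
    obtain ⟨b, rfl⟩ := pr_surjective b
    rw [← map_pow, ← map_inv, ← map_mul, ← map_mul, pr_eq_iff] at h11
    have h12 : ρ (signCo0 oct) = ρ (b * w ^ n * b⁻¹) := by
      rcases h11 with h | h
      · rw [h]
      · rw [h, map_mul, hz, mul_one]
    have h13 := cod_pow_le (ρ := ρ) w n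
    rw [cod_congr h12, cod_zpowers_conj] at h6
    omega
  · have h5 := le_cod_neg (ρ := ρ) (by decide) hz
    have h6 := cod_pow_le (ρ := ρ) y 2
    rw [pow_two, h2 y hy] at h6
    omega

theorem cub0 (hi : Irr ρ ⊤) (hk : ∀ g, ρ g = 1 → pr g = 1) {A : Subgroup Co0} (hA : Off 3 ρ A) : Cub ρ A := by
  refine cub_of_rank hA (e := 6) ?_ fun a ha h => twelve_le hi hk (orderOf_eq_prime (hA.1.2 a ha) h)
  obtain ⟨r, -, hr, -⟩ := hA.exists_card
  rw [hr]
  refine Nat.pow_le_pow_right (by norm_num) (not_lt.1 fun h => ?_)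
  have h1 := rank0 (MonoidHom.id Co0) Function.injective_id hA.1 (n := r - 2)
    (by rw [hr, Nat.sub_add_cancel (by omega)])
  have h2 := cod_le_finrank (ρ := (rep.comp (MonoidHom.id Co0) : Representation ℚ Co0 Sp)) A
  rw [finrank_Sp] at h2
  omega

theorem exists_hom {K : Type} [Group K] [Finite K] (hK : Group.IsPerfect K) {π : K →* Spor.Co1}
    (h1 : Function.Surjective π) (h2 : π.ker ≤ center K) (h3 : Nat.card π.ker ∣ 2) :
    ∃ f : Co0 →* K, Function.Surjective f ∧ ∀ g, π (f g) = pr g := by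
  by_cases h : π.ker = ⊥
  · let e := MulEquiv.ofBijective π ⟨(MonoidHom.ker_eq_bot_iff π).1 h, h1⟩
    exact ⟨e.symm.toMonoidHom.comp pr, e.symm.surjective.comp pr_surjective, fun g => e.apply_symm_apply _⟩
  · obtain ⟨θ, hθ⟩ := KFacts.MulCo.CoZero.exists_equiv_co0 KFacts.MulSpor.NoDbl.M24 hK.commutator_eq_top h1 h2
      (IsPGroup.of_card_dvd_pow (n := 1) h3) h
    exact ⟨θ.symm.toMonoidHom, θ.symm.surjective, fun g => (hθ _).symm.trans (congrArg pr (θ.apply_symm_apply g))⟩

theorem row1_three : Row88 3 Spor.Co1 := row88_of_sit fun Y _ _ V _ _ _ K ρ π φ H A hA => by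
  have hK : K = ⊤ := by
    have := H.toFrm.index_dvd
    rw [S2069.result, Nat.dvd_one] at this
    exact index_eq_one.1 this
  obtain ⟨f, h1, h2⟩ := exists_hom H.toStp.perfect H.surj H.ker_π.le
    (H.ker_π ▸ H.toFrm.card_center_dvd' H.toStp.perfect S2043.result)
  have h3 : Function.Surjective (K.subtype.comp f) := fun y => by
    obtain ⟨g, hg⟩ := h1 ⟨y, hK ▸ mem_top y⟩
    exact ⟨g, congrArg Subtype.val hg⟩
  have h4 : ∀ g, (K.subtype.comp f) g = 1 → pr g = 1 := fun g hg => by
    rw [← h2, show f g = 1 from Subtype.ext hg, map_one]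
  generalize K.subtype.comp f = ψ at h3 h4
  obtain ⟨X, -, h5, h6⟩ := exists_pgroup_lift ψ (M := ⊤) (elemAb_isPGroup hA.1) (by
    rw [← MonoidHom.range_eq_map, MonoidHom.range_eq_top.2 h3]; exact le_top)
  have h7 : ¬ 3 ∣ Nat.card ψ.ker := fun h => by
    have h8 : ψ.ker ≤ center Co0 := fun g hg => (QuotientGroup.eq_one_iff g).1 (h4 g hg)
    have h9 := h.trans (card_dvd_of_le h8)
    rw [S0398.result] at h9
    exact absurd h9 (by decide)
  have h8 := injOn_of_not_dvd ψ h7 h5
  have h9 : ∀ a ∈ X, ψ a ∈ A := fun a ha => h6 ▸ mem_map_of_mem ψ ha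
  refine ⟨A, hA, h6 ▸ (cub_comp ψ X).1 (cub0 (fun U hU => H.irr U fun b _ v hv => ?_)
    (fun g hg => h4 g (H.faithful (hg.trans (map_one ρ).symm))) ⟨elemAb_of (fun a ha b hb => ?_) fun a ha => ?_,
      fun e => hA.2.1 ?_, ?_⟩)⟩
  · obtain ⟨g, rfl⟩ := h3 b
    exact hU g (mem_top g) v hv
  · exact h8 (mul_mem ha hb) (mul_mem hb ha) (by rw [map_mul, map_mul]; exact elemAb_comm hA.1 (h9 a ha) (h9 b hb))
  · exact h8 (pow_mem ha 3) (one_mem X) (by rw [map_pow, map_one]; exact hA.1.2 _ (h9 a ha))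
  · rw [← h6, e, Subgroup.map_bot]
  · rw [cod_comp, h6]
    exact hA.2.2.trans (Nat.pow_le_pow_left (h6 ▸ Nat.le_of_dvd Nat.card_pos (card_map_dvd X ψ)) 2)

/-- **the row of `Co1`** -/
theorem row1 (p : ℕ) [Fact p.Prime] (hp : p ≠ 2) : Row p Spor.Co1 := by
  by_cases h3 : p = 3
  · subst h3
    exact ⟨row1_three, row89_of_not_dvd (by rw [S2069.result]; decide)⟩
  have := H68.CoMdl.finite_co1
  have := S0399.result.1
  obtain ⟨T, hm, -, h1, hW, -⟩ := C1.tabL
  exact row_big S2069.result (by rw [hm.1]; decide +kernel) (by rw [hm.1]; decide +kernel)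
    (fun x hx => exists_prod_dvd h1 hW C1.ok5 hx) (fun x hx => exists_prod_dvd h1 hW C1.ok7 hx) p hp h3

end Cfsg.Agent.TwoF.SpO
end

private theorem dce_4e8b2b9d4113 : _root_.True := by
  try have : _root_.True := by simp only [_root_.Cfsg.Agent.TwoF.SpA.nf.eq_1]
  try have : _root_.True := by simp only [_root_.Cfsg.Agent.TwoF.SpA.incB._sparseCasesOn_1.else_eq]
  try have : _root_.True := by simp only [_root_.Cfsg.Agent.TwoF.SpA.Wd.val.eq_2]
  try have : _root_.True := by simp only [_root_.Cfsg.Agent.TwoF.SpA.Wd.val.eq_def]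
  try have : _root_.True := by simp only [_root_.Cfsg.Agent.TwoF.SpA.Emb.prods.eq_def]
  try have : _root_.True := by simp only [_root_.Cfsg.Agent.TwoF.SpA.Wd.ev.eq_1]
  try have : _root_.True := by simp only [_root_.Cfsg.Agent.TwoF.SpA.incB.eq_1]
  try have : _root_.True := by simp only [_root_.Cfsg.Agent.SporadicStructure.M24El.prodW.eq_1]
  try have : _root_.True := by simp only [_root_.Cfsg.Agent.TwoF.SpA.incB.eq_2]
  try have : _root_.True := by simp only [_root_.Cfsg.Agent.SporadicStructure.M24El.prodW.eq_2]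
  try have : _root_.True := by simp only [_root_.Cfsg.Agent.TwoF.SpA.Wd.val.eq_1]
  try have : _root_.True := by simp only [_root_.Cfsg.Agent.TwoF.SpA.Wd.chk.eq_3]
  try have : _root_.True := by simp only [_root_.Cfsg.Agent.TwoF.SpA.Emb.l.eq_1]
  try have : _root_.True := by simp only [_root_.Cfsg.Agent.TwoF.SpA.Wd.chk.eq_def]
  try have : _root_.True := by simp only [_root_.Cfsg.Agent.TwoF.SpA.Wd.ev.eq_2]
  try have : _root_.True := by simp only [_root_.Cfsg.Agent.SporadicStructure.M24El.prodW.eq_def]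
  try have : _root_.True := by simp only [_root_.Cfsg.Agent.TwoF.SpA.incB.eq_def]
  try have : _root_.True := by simp only [_root_.Cfsg.Agent.TwoF.SpA.Wd.ev.eq_3]
  try have : _root_.True := by simp only [_root_.Cfsg.Agent.TwoF.SpA.Wd.ev.eq_def]
  try have : _root_.True := by simp only [_root_.Cfsg.Agent.TwoF.SpA.Wd.chk.eq_2]
  try have : _root_.True := by simp only [_root_.Cfsg.Agent.TwoF.SpA.Wd.chk.eq_1]
  try have : _root_.True := by simp only [_root_.Cfsg.Agent.TwoF.SpA.Wd.val.eq_3]
  exact _root_.True.intro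
end

-- part: TwoF/SpA/M22_mg
section
prune_inst 0x20200040000002000004001200001c87d8000000000b0000c9000d0200025a02000006004c801c02080a80000001002004081034200000000000040000000020808252043240a10406000f011006000000000000000000000000000000051004000000000
set_option linter.all false
open scoped Cfsg.Agent.FastGrp

-- part: TwoF/SpA/Res
section
/-!
# TwoF SP-A: restriction to `K`, groups with two outer classes (helper86)
-/

set_option autoImplicit false

namespace Cfsg.Agent.TwoF.SpA

open Cfsg Module Gen Subgroup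
open SporadicA.GolayBase SporadicA.GolayPerm SporadicStructure.M24El

theorem Emb.gen_of {G : Type*} [Group G] {g : ℕ → Bool} (E : Emb G g) {M : Subgroup (Equiv.Perm GolayPt)} {X Y : ℕ}
    (hX : (Wd.c X).chk g = true) (hY : (Wd.c Y).chk g = true)
    (h : _root_.Subgroup.closure {(el X : Equiv.Perm GolayPt), (el Y : Equiv.Perm GolayPt)} = M)
    (hM : ∀ x, (E.ψ x : Equiv.Perm GolayPt) ∈ M) : _root_.Subgroup.closure {E.l X, E.l Y} = ⊤ := by
  refine top_le_iff.1 fun x _ => ?_
  have h1 : (M24.subtype.comp E.ψ) x ∈ (_root_.Subgroup.closure {E.l X, E.l Y}).map (M24.subtype.comp E.ψ) := by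
    rw [MonoidHom.map_closure, Set.image_pair, MonoidHom.comp_apply _ _ (E.l X), MonoidHom.comp_apply _ _ (E.l Y),
      show E.ψ (E.l X) = el X from (E.spec _ hX).2, show E.ψ (E.l Y) = el Y from (E.spec _ hY).2]
    exact h ▸ hM x
  exact (mem_map_iff_mem (f := M24.subtype.comp E.ψ) (M24.subtype_injective.comp E.inj)).1 h1

theorem Emb.not_dvd {G : Type*} [Group G] {g : ℕ → Bool} (E : Emb G g) {n : ℕ} (h : ¬ n ∣ 244823040) :
    ¬ n ∣ Nat.card G := fun e => h (card24 ▸ e.trans (card_dvd_of_injective E.ψ E.inj))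

theorem coe_el_eq {c : ℕ} {X : Equiv.Perm GolayPt} (h : ok c = true) (h' : ∀ p, pt (papp c (idx p)) = X p) :
    (el c : Equiv.Perm GolayPt) = X := by
  rw [coe_el h]; exact Equiv.ext h'

section

variable {Y : Type} [Group Y] [Finite Y] {V : Type} [AddCommGroup V] [Module (ZMod 2) V] [Finite V]
  {K : Subgroup Y} {ρ : Representation (ZMod 2) Y V}

omit [Finite Y] [Finite V] in
theorem res_facts (H : Stp 2 K ρ) : fx (ρ.comp K.subtype : Representation (ZMod 2) K V) ⊤ = ⊥ ∧
    cm (ρ.comp K.subtype : Representation (ZMod 2) K V) ⊤ ⊤ = ⊤ ∧ Nontrivial V := by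
  have := H.normal
  obtain ⟨h1, h2, h3⟩ := fx_cm H.faithful H.irr K H.K_ne_bot
  refine ⟨by rw [fx_comp, ← MonoidHom.range_eq_map, range_subtype, h1], top_le_iff.1 (h2.ge.trans ?_), h3⟩
  exact cm_le_iff.2 fun b hb v hv => (mem_cm (ρ := ρ.comp K.subtype) (mem_top ⟨b, hb⟩) hv :)

omit [Finite Y] [Finite V] in
theorem off_res {B : Subgroup K} (h : Off 2 (ρ.comp K.subtype : Representation (ZMod 2) K V) B) :
    ∃ B ≤ K, Off 2 ρ B := ⟨_, map_subtype_le B, SpB.off_map _ K.subtype_injective h⟩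

omit [Finite Y] [Finite V] in
theorem cod_res (x : K) : cod (ρ.comp K.subtype : Representation (ZMod 2) K V) (zpowers x) = cod ρ (zpowers (x : Y)) := by
  rw [cod_comp, MonoidHom.map_zpowers]; rfl

omit [Finite Y] in
/-- three conjugates of `A` -/
theorem three_conj {A : Subgroup Y} {t s g h : Y} (ht : t ∈ A) (hs : s ∈ A) (hg : g * t * g⁻¹ = t)
    (hh : h * t * h⁻¹ = s) : cod ρ (zpowers (g * s * g⁻¹ * (h * s * h⁻¹))) + cod ρ (zpowers t) + cod ρ (zpowers s) ≤
      3 * cod ρ A := by
  have m : ∀ (g : Y) {a}, a ∈ A → g * a * g⁻¹ ∈ A.map (MulAut.conj g).toMonoidHom := fun g a ha => ⟨a, ha, rfl⟩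
  have h1 := cod_sup_add_inf (ρ := ρ) A (A.map (MulAut.conj g).toMonoidHom)
  have h2 := cod_sup_add_inf (ρ := ρ) (A ⊔ A.map (MulAut.conj g).toMonoidHom) (A.map (MulAut.conj h).toMonoidHom)
  have h3 := XL.cod_le_of_mem (ρ := ρ) (mem_inf.2 ⟨ht, hg ▸ m g ht⟩)
  have h4 := XL.cod_le_of_mem (ρ := ρ) (mem_inf.2 ⟨mem_sup_left (T := A.map (MulAut.conj g).toMonoidHom) hs,
    hh ▸ m h ht⟩)
  have h5 := XL.cod_le_of_mem (ρ := ρ) (mul_mem_sup (mem_sup_right (S := A) (m g hs)) (m h hs))
  rw [cod_conj] at h1 h2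
  omega

omit [Finite Y] in
theorem card_of_index {A : Subgroup Y} (h : K.index = 2) (hA : ¬ A ≤ K) : Nat.card A = 2 * Nat.card ↥(A ⊓ K) := by
  have := normal_of_index_eq_two h
  have h1 : (K.subgroupOf A).index = 2 := ((Nat.dvd_prime Nat.prime_two).1
    (h ▸ relIndex_dvd_index_of_normal K A)).resolve_left fun e => hA (relIndex_eq_one.1 e)
  rw [← (K.subgroupOf A).card_mul_index, h1, mul_comm, ← inf_subgroupOf_left,
    Nat.card_congr (subgroupOfEquivOfLe inf_le_left).toEquiv]

/-- a `2`-subgroup centralises an involution of a normal subgroup of even order -/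
theorem exists_cent [K.Normal] {A : Subgroup Y} (hA : IsElementaryAbelian 2 A) {u : Y} (hu : u ∈ K) (h2 : u ^ 2 = 1)
    (h1 : u ≠ 1) : ∃ t ∈ K, t ^ 2 = 1 ∧ t ≠ 1 ∧ (∀ a ∈ A, a * t = t * a) ∧ (t ∈ A ∨ A ⊓ K = ⊥) := by
  by_cases h : A ⊓ K = ⊥
  · obtain ⟨P, hP⟩ := (elemAb_isPGroup hA).exists_le_sylow
    obtain ⟨Q, hQ⟩ := (elemAb_isPGroup (elemAb_zpowers h2)).exists_le_sylow
    obtain ⟨g, rfl⟩ := MulAction.exists_smul_eq Y Q P
    obtain ⟨t, h3, h4, h5⟩ := Involutions.NormalFour.exists_mem_center_of_normal (g • Q).2 (K.subgroupOf _)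
      (ne_bot_iff_exists_ne_one.2 ⟨⟨⟨g * u * g⁻¹, smul_mem_pointwise_smul u (MulAut.conj g) _ (hQ (mem_zpowers u))⟩,
        ‹K.Normal›.conj_mem u hu g⟩, fun e => h1 (conj_eq_one_iff.1 (congrArg (·.1.1) e))⟩)
    refine ⟨t, h3, congrArg Subtype.val (orderOf_dvd_iff_pow_eq_one.1 h5.dvd : t ^ 2 = 1), fun e => ?_,
      fun a ha => congrArg Subtype.val (mem_center_iff.1 h4 ⟨a, hP ha⟩), Or.inr h⟩
    rw [show t = 1 from Subtype.ext e, orderOf_one] at h5
    omega
  · obtain ⟨⟨t, ht⟩, h3⟩ := ne_bot_iff_exists_ne_one.1 h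
    exact ⟨t, ht.2, hA.2 t ht.1, fun e => h3 (Subtype.ext e), fun a ha => elemAb_comm hA ha ht.1, Or.inl ht.1⟩

variable {S : Type} [Group S] {π : K →* S} {φ : Y →* MulAut S}

omit [Finite Y] [Finite V] in
theorem index_two (H : Sit 2 K ρ π φ) (ho : Nat.card (Out S) = 2) {A : Subgroup Y} (hA : ¬ A ≤ K) : K.index = 2 :=
  ((Nat.dvd_prime Nat.prime_two).1 (ho ▸ H.toFrm.index_dvd)).resolve_left fun e => hA (index_eq_one.1 e ▸ le_top)

omit [Finite V] in
theorem center_dvd (H : Sit 2 K ρ π φ) {j m : ℕ} (hm : HasCyclicSchurMultiplier S (2 ^ j * m)) :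
    Nat.card (center K) ∣ m := Nat.Coprime.dvd_of_dvd_mul_left
  (((Nat.Prime.coprime_iff_not_dvd Nat.prime_two).2 H.cop).symm.pow_right j)
  (H.toFrm.card_center_dvd' H.toStp.perfect hm)

omit [Finite Y] [Finite V] in
theorem cv_of (H : Sit 2 K ρ π φ) (h : Nat.card (center K) ∣ 3) : Cv π where
  surj := H.surj
  cent z hz g := (mem_center_iff.1 (H.ker_π ▸ hz : z ∈ center K) g).symm
  exp z hz := orderOf_dvd_iff_pow_eq_one.1 ((orderOf_dvd_natCard _ (H.ker_π ▸ hz : z ∈ center K)).trans h)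

end

theorem Cv.comm_congr {K S : Type*} [Group K] [Group S] {π : K →* S} (C : Cv π) {a b a' b' : K} (ha : π a = π a')
    (hb : π b = π b') : a * b * a⁻¹ * b⁻¹ = a' * b' * a'⁻¹ * b'⁻¹ := by
  obtain ⟨u, rfl⟩ : ∃ u, a = u * a' := ⟨a * a'⁻¹, by group⟩
  obtain ⟨w, rfl⟩ : ∃ w, b = w * b' := ⟨b * b'⁻¹, by group⟩
  have hu := C.cent u (by simpa using ha)
  have hw := C.cent w (by simpa using hb)
  calc u * a' * (w * b') * (u * a')⁻¹ * (w * b')⁻¹ = u * (a' * (w * b') * a'⁻¹) * u⁻¹ * b'⁻¹ * w⁻¹ := by group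
    _ = a' * (w * (b' * a'⁻¹ * b'⁻¹)) * w⁻¹ := by rw [hu]; group
    _ = _ := by rw [hw]; group

end Cfsg.Agent.TwoF.SpA
end

-- part: TwoF/SpA/M22D
section
/-!
# TwoF SP-A: the centraliser of an involution of `M22` (helper86)
-/

set_option autoImplicit false

namespace Cfsg.Agent.TwoF.SpA.M22

open SporadicA.GolayPerm SporadicStructure.M24El H729.MData

/-- the involution -/
def t0 : ℕ := 966158389308529030942218518639679904
/-- its centraliser in `M22` -/
def L : List ℕ := [956776171662030993468659208728037472, 956783720521365640899564914447006016, 956787317701571483707114899185935616,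
  956809610795719514462850481303173248, 956821576671612223733194215589893184, 956827830979578909122992877756665536,
  956857140453992987071028221525085440, 956858511632016925683149563420583008, 956862109669721879591758840911404224,
  956938200580585617392285223996701376, 956946516776108692613140661454448128, 956950076257751040603007866087196800,
  957012191327962209670674341657386048, 957020597973438040387050851071085056, 957026851897382068235632878809240704,
  957100375985472911051056600525151744, 957102438281254640050358616379935808, 957105996886010016912334513922877120,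
  957336416359387609906557886104292544, 957349149619806336883182202185758976, 957355326912232084641308951427274048,
  957579599707747046433111326521018688, 957588735556082144184526286909691072, 957594913213232783355091111071358048,
  958033662499248613986683520483959232, 958041622323246372698690482887527712, 958045251714056848355964906055674432,
  958269799639027155104535205206153632, 958282121893690803711595168804245056, 958288593802551997040483544638099744,
  958357854420305938321646106371113184, 958359841193275559058527489894996000, 958363163358746542745114593246849632,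
  958520900734728300696798493086584416, 958528438273250952629293152047573216, 958531761276889671254031174022275744,
  958553791546699703896152941152374432, 958566536109844648195646481372385312, 958572087258221335466802466369198688,
  958715570828925173707775483178139680, 958724992582794263708017318852436192, 958730543342278980186166879440081568,
  958756404064903025519487180467609888, 958765096747633078849553675636183456, 958771569032080754069804358295503296,
  958845092642494303204795383657552448, 958846580188085916741621107896560064, 958850210403773248256708297751871904,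
  959324591200774159437840052278921824, 959337199575994132604481205788826048, 959343326376155661073924564280087200,
  959575517925662113638930416113355424, 959583191647250901172722407745593760, 959586668189309948166052789090527840,
  959648783240196935330942491428198848, 959657915335457096287053162966886816, 959664041738261553782898880420207200,
  959810908705975293179084388469641440, 959823939071994704882402347086186784, 959829835343569644425595501383146048,
  959859433402328837803859666911963168, 959866685158469030672638704296921664, 959870161001219426035247716847919392,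
  960021519565641215529653780722358688, 960023066889244683669879310975766976, 960026542536319101635201084531352224,
  960061815626222171644049412199747872, 960063170715864770797935380771512352, 960066647446326760522634730984970464,
  960135100361319148943530619754981952, 960144654629757095226922614691027168, 960150551291455030601277714960422944,
  960629811013066716442267579209485536, 960630990298280328898512031188097632, 960635274134211212785900645495546144,
  960865948168512925669752172976808608, 960874140666104448313717876836090432, 960881266113113767385855104907479072,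
  960954002534344505751054091872131520, 960962115728247601337565292482206272, 960966092371498289553983215329558560,
  961117049465933239064460505055863360, 961118037209220455751496341032996512, 961122013032429991388560009597295040,
  961149940108844770761086537279226272, 961158554755425269056847563350083872, 961164759662956833253379024336527968,
  961311719125314934462373980214594848, 961324617026922186993063019909568736, 961330821555233186953505081294686624,
  961352552393952082573802305860261920, 961364721295606136132721399199107744, 961371847108530530539303909288119744,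
  961441241000502350200212713034695264, 961448625189653141876738794144881056, 961452908192251994104435002233592032,
  963225959232164213641093313140048448, 963233918909426461296660206829703616, 963237548945178200753612551067162912,
  963462096311581761581356907348902176, 963474418704516079324315307154614688, 963480890888731968732817348222067264,
  963550151172554611209019362858082912, 963552137609185374771393555464458464, 963555460806087089114891061127416864,
  963713197686251099064227322923604192, 963720735395654906302480236626985632, 963724057753179959863442421215597152,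
  963746088592452898125099198249967648, 963758832993103609992410966111109728, 963764383898769033222967368609966752,
  963907867486943450706609714665478816, 963917289283722434419274197818353696, 963922840550474534616470352755494112,
  963948701122716258301967785131707808, 963957393739602134457873938171386304, 963963865549440467819398074864871712,
  964037389639946542836709495547366848, 964038877513418185281829089058103712, 964042506696487775054601994637513280,
  964556780859443233326205311792882784, 964570167771526847984565281919415424, 964575763223671060570716090318244544,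
  964605124710265514710102923326174528, 964612787278305059424340689185852480, 964616276200973388186341002635236608,
  964637826443533109256566611026544128, 964646957308122465577447154511336512, 964653588790447566917132473297062144,
  964719270224052171674802356601795840, 964731889721374042457057394538498560, 964738521620414375563984741982610752,
  964807743506335393706467890782315648, 964809042888665599710543961348426944, 964812915741805572486436610138276960,
  964881368674932549177510518367246016, 964890883322046788350977874398464096, 964896479171567072081891915944494272,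
  965133004732211930614384852188189888, 965139899962841541039599610337277632, 965143771957283659497548537774394496,
  965376149990692995614873128782824512, 965377181075165862432800103892362752, 965380669119789871343724917653818688,
  965814962578281541735948941334221376, 965823287528192349793434105431984800, 965830067579057865262924705107689696,
  966065889199318864952172779198879776, 966066437132718349602341138504813856, 966070567497915174222673160112804448,
  966139154001763917590165984588802272, 966151608879658997480324185297601088, 966158389308529030942218518639679904,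
  966301279706684759021406792957692352, 966310333840089147037444271375467104, 966316884125651324823030022216880416,
  966349804663905480506014934536229536, 966350851862169966047485863424793152, 966354981158504627913937515217816992,
  966511890438294084519059198527736096, 966518988685051854327401906633288128, 966523118169800379397712788959857696,
  966552186511010046754903635824552352, 966560013732304980869793991369232032, 966564143901873346905572374908864736,
  966625471514209456664036704814176864, 966638655381185409036361429435295776, 966645205281450554401883888952754624,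
  967160765580811515698253975539404480, 967162269560813732571136206102895936, 967166315928453948202085512470169088,
  967194204808678264995089826832665920, 967202436909451601568958416451713728, 967208935960027676941608919329518784,
  967241733969382655187137095766854144, 967249736995085657441428620710577856, 967253784200915043157541592921848000,
  967322794489676433894843151795461216, 967324029484616823152240831866569984, 967328038513575648531749334340914304,
  967396784729811393502051481813240000, 967409063823860548170181148199695680, 967415563219785829743497253673672192,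
  967484969510490525195045389626587392, 967492627284381771684874125874088000, 967496635455829311148263793582605408,
  967721010012452818891229899095914560, 967729625906637089184879975928902784, 967736048680735788643137602550418688,
  967964193508152524077073185797381248, 967976817805675844593334790823266400, 967983240215061827526271409924060224,
  968418256393828889570715344979909216, 968419436038383858753187669921055008, 968423718848946940254112489717565664,
  968654393269144319313595763455101984, 968662585810796185278234601600424608, 968669711725152732002159581166000704,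
  968742447961055599905728427226041920, 968750561284791233580627389597163552, 968754537289126987927570659913337280,
  968905494628124811820132572907389376, 968906482033856903680756923668892224, 968910458881203401154962607835273888,
  968938385582638153816811343450331424, 968947000197202520016500812188683872, 968953204604748294462665760827972000,
  969100164213827850267459360534307232, 969113062294812828436641192010324256, 969119267058609576570987380683784416,
  969140997882223355822290720094700192, 969153166615415323167138579233317312, 969160292160230017122544166829037600,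
  969229686182046475950589532247793888, 969237070230488049637788869077502560, 969241353870756385364331985140518304,
  972353062134984436979983573229083904, 972360610817376956181675315750491232, 972364208652166618645971837000535360,
  972386501559729743991651951009056832, 972398467303370440218648795544854208, 972404721334802428180282315724366976,
  972434031151591322417672898597173344, 972435402661115647927743026515593408, 972438999648077605883926042512938240,
  972515091266095912027892463414005248, 972523407625284846218929677736254592, 972526966442624486093903314007217856,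
  972589081695818132826217009770876032, 972597488404743642655521062410363968, 972603742829869694751317004517685760,
  972677266431828769045750303449107136, 972679328390046002298548093566146048, 972682888035915580552856675581343808,
  972913306756255317762633984879697216, 972926040162204762011855037986481344, 972932217723957916728105504479693056,
  973156490481431117489047464796862656, 973165626289304388934061117319466080, 973171803437975619489317147546953024,
  973643300178288625544336676182722240, 973656687227458333186253100522982496, 973662282954993102379918393154851968,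
  973691644333490226638879137139303488, 973699307073634573015162954463118592, 973702795319950153235017793384270144,
  973724345743068560458802348508488960, 973733476657763774641019080888602112, 973740108647369725880346295267865664,
  973805789910045804056322113681806848, 973818409283621160339712068212589888, 973825040878272544528831797058522368,
  973894263119876524227238723542758592, 973895562853066384718544168898090080, 973899434643366208130395392265603200,
  973967888380301866770802747771237472, 973977402990554862729136509002818752, 973982998303788599339462537766162112,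
  974219524142885509909541212844754048, 974226419188112134681718784724617408, 974230291858870477128548272569919168,
  974462669352997367274356009154827584, 974463700102359487328708827861928000, 974467189209794425961063135749682688,
  976199556174585676118011675454679488, 976212164424819255319484583859460768, 976218290929069294339841141906940512,
  976450482829435143141038355942412704, 976458156711039879979232451170605664, 976461632577955399386677902242372256,
  976523747839608243350027935846306400, 976532879972916326543890988805530048, 976539006901119804582877792120867232,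
  976685873300543593009058316185573952, 976698903815729132509909959114432736, 976704800380817189629205540512213280,
  976734398081450039494875429055109408, 976741649653409159048192889284941856, 976745126183365555497920866122666560,
  976896484235091010663752513762699936, 976898031193344537917597574408526240, 976901507914141208499665063847332288,
  976936780534830904424615860137953312, 976938135968056692326807198101088480, 976941611636897862459477441506269472,
  977010065354480783648189296844867808, 977019619596958848382348384257970208, 977025515730820431817095450261004864,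
  978835597350857798941122040412820736, 978844937416414019247610903609443456, 978850982116380382511647007012724224,
  978883941370752606285175984123991168, 978885104925697645975252040118908160, 978888838090899333431301544750004416,
  978916642703061734578612034793158336, 978929371000866313962950875130602560, 978936451962899432054070935110982752,
  978998086686466241996559194303136864, 979006697647004910230348021367873216, 979013779013665219377672659466966336,
  979086559799676937622212033611334976, 979094113576938052389221444586251360, 979098230701614240335564541579540544,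
  979160184905458391810130979950339584, 979173258775137837413675297439784192, 979179303860389796141219522509255872,
  979411821180157039140898757205996608, 979412293599216119640237739485870400, 979416411575339041921025687474886336,
  979654966032802355461859874070111424, 979662174296197600482911682756393088, 979665908293501991710491920989357568,
  980133671381913530389167505815156224, 980143011460131558919724696578996480, 980149056677045751367698611273409664,
  980182015493618631482005918196204736, 980183178683210557431083798126173312, 980186912891898217942990861163013376,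
  980214716714807525010761873287599200, 980227445170179543570498222064057024, 980234526417279051990584612315661376,
  980296161084645052249075756652996288, 980304772009594933707711544324207936, 980311852888335025624003436793346144,
  980384633874198104885545096812352576, 980392187522841510330627072374512960, 980396305304538996899631411680752736,
  980458259323012887274420014624179456, 980471333012100516342775674194842816, 980477377841311261724040973712931328,
  980709895515560472593757292211512640, 980710368293930472717497959313540800, 980714485226599076555257941134187584,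
  980953040358546557208889637436306560, 980960248773493795013606576185660928, 980963982113810977201572825284385984,
  982737656046523984971349206421289472, 982739159664772010987532587779962560, 982743207063835984395999241679849792,
  982771095205555270010179212661038272, 982779327345590287687236121792841024, 982785826878003950879787315788565184,
  982818624674221964772010906458103488, 982826627820087537415069665502612672, 982830674390633747331318441057695232,
  982899685167920592933303961850956032, 982900920508888180055704221212129408, 982904928516112916473230476708492384,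
  982973675503486167398974333036116288, 982985954431456665856561662878862848, 982992453570164090099890892932842688,
  983061859964112518786885521912351840, 983069517594884996694250380936721664, 983073526411263986279339109853338688,
  983297900776458621201453403631503488, 983306516644686699293559278580833536, 983312938929672341295780282991445056,
  983541083876012874451193819081165888, 983553708362578354282347386597115008, 983560131021948119402835186027640928,
  983988001387509152552703146170063072, 983996326376663379427735882552249920, 984003106939601692373614345582652064,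
  984238928315289450553187213376563488, 984239476603165885545494055578241632, 984243605907978855466921888517013536,
  984312193209533655120055633888545344, 984324647938295553064945932004594080, 984331428084543721804263348148178144,
  984474318895118988348115353991326304, 984483373012258070472260851719051552, 984489922783290639623250503270731200,
  984522843555260836636180530290035104, 984523890390570063807558367106384544, 984528020735230976812115495437740608,
  984684929324813737370766286172393504, 984692027411537221843747074610446624, 984696157558112865101038733610195392,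
  984725225636652038912835099105041056, 984733053007124058223889679328481504, 984737182502729783464923423941280160,
  984798510328265465848596460704174528, 984811694355246410126692748554800736, 984818244535754528103549039458486304]
/-- a class of involutions of the centraliser -/
def C2 : List ℕ := [958359841193275559058527489894996000, 959657915335457096287053162966886816, 960966092371498289553983215329558560,
  964038877513418185281829089058103712, 965823287528192349793434105431984800, 966350851862169966047485863424793152,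
  966564143901873346905572374908864736, 969241353870756385364331985140518304, 977019619596958848382348384257970208,
  984239476603165885545494055578241632, 984483373012258070472260851719051552, 984696157558112865101038733610195392]
/-- an outer element which centralises `t0` -/
def g0 : ℕ := 8088127270914602020637832256956727
/-- a representative of the class of length 24 -/
def s1 : ℕ := 958269799639027155104535205206153632
/-- centralises `t0` -/
def g2 : ℕ := 960881266113113767385855104907479072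
/-- maps `t0` to `s1` -/
def g3 : ℕ := 963475792777974508831287265240757696
/-- an element of the orbit of length 6 -/
def u1 : ℕ := 958572087258221335466802466369198688
/-- an element of the orbit of length 8 -/
def u2 : ℕ := 973662282954993102379918393154851968
/-- centralises `u1`, maps `t0` to `u2` -/
def h1 : ℕ := 984240177405222622270387525049976864
/-- an outer element which interchanges `cq` and `cr` -/
def g1 : ℕ := 18349448733733171584829837054484535
/-- order 3 -/
def cq : ℕ := 976531636853126291160407323722221600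
/-- order 3 -/
def cr : ℕ := 974428684320632006772068527414316064
/-- inverts `cr` -/
def ci : ℕ := 962223308431878189186809386174122016
/-- a Sylow 3-subgroup -/
def LR : List ℕ := [962225937928949481950471138006141984, 970003910366236691314897957810147360, 972606645568131968584696805283956768,
  974428684320632006772068527414316064, 976531636853126291160407323722221600, 977832099276088035690225497886821408,
  980920017121645750808446692546908192, 981716224128048982828018616042065952, 984818244535754528103549039458486304]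




private noncomputable def pcA (P : ℕ) (n : ℕ) : ℕ → ℕ :=
  Nat.rec (motive := fun _ => ℕ → ℕ) (fun _ => 0) (fun _ ih Q => Nat.add
    (Nat.land (Nat.shiftRight P (Nat.mul (nat_lit 5) (Nat.land Q (nat_lit 31)))) (nat_lit 31))
    (Nat.shiftLeft (ih (Nat.shiftRight Q (nat_lit 5))) (nat_lit 5))) n
private noncomputable def pcF (P Q : ℕ) : ℕ := pcA P (nat_lit 24) Q
private theorem land31 (x : ℕ) : Nat.land x (nat_lit 31) = x % 32 := Nat.and_two_pow_sub_one_eq_mod x 5
private theorem pcA_eq (P : ℕ) : ∀ n Q : ℕ, pcA P n Q = pack ((List.range n).map fun i => papp P (papp Q i))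
  | 0, _ => rfl
  | n + 1, Q => by
    rw [List.range_succ_eq_map, List.map_cons, List.map_map]
    show Nat.land (P >>> (5 * Nat.land Q (nat_lit 31))) (nat_lit 31) + pcA P n (Q >>> 5) <<< 5 = _
    rw [land31, land31, pcA_eq P n, Nat.shiftLeft_eq, Nat.mul_comm _ (2 ^ 5)]
    refine congrArg (fun l => _ + 32 * pack l) (List.map_congr_left fun i _ => congrArg (papp P) ?_)
    show (Q >>> 5) >>> (5 * i) % 32 = Q >>> (5 * (i + 1)) % 32
    rw [← Nat.shiftRight_add, Nat.mul_succ, Nat.add_comm]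
private theorem pcomp_F : pcomp = pcF := funext fun P => funext fun Q => (pcA_eq P 24 Q).symm
private theorem ppow2 (c : ℕ) : ppow c 2 = pcomp c (pcomp c idP) := rfl


private noncomputable def encF (i : ℕ) : ℕ :=
  (Nat.xor (Nat.xor (Nat.xor (Nat.xor (Nat.xor (Nat.xor (Nat.xor (Nat.xor (Nat.xor (Nat.xor (Nat.xor (Nat.mul (Nat.mod i (nat_lit 2)) (nat_lit 13062145))
    (Nat.mul (Nat.mod (Nat.shiftRight i (nat_lit 1)) (nat_lit 2)) (nat_lit 4845570)))
    (Nat.mul (Nat.mod (Nat.shiftRight i (nat_lit 2)) (nat_lit 2)) (nat_lit 13938692)))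
    (Nat.mul (Nat.mod (Nat.shiftRight i (nat_lit 3)) (nat_lit 2)) (nat_lit 7221256)))
    (Nat.mul (Nat.mod (Nat.shiftRight i (nat_lit 4)) (nat_lit 2)) (nat_lit 10170384)))
    (Nat.mul (Nat.mod (Nat.shiftRight i (nat_lit 5)) (nat_lit 2)) (nat_lit 11952160)))
    (Nat.mul (Nat.mod (Nat.shiftRight i (nat_lit 6)) (nat_lit 2)) (nat_lit 15515712)))
    (Nat.mul (Nat.mod (Nat.shiftRight i (nat_lit 7)) (nat_lit 2)) (nat_lit 2019456)))
    (Nat.mul (Nat.mod (Nat.shiftRight i (nat_lit 8)) (nat_lit 2)) (nat_lit 4038912)))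
    (Nat.mul (Nat.mod (Nat.shiftRight i (nat_lit 9)) (nat_lit 2)) (nat_lit 8077824)))
    (Nat.mul (Nat.mod (Nat.shiftRight i (nat_lit 10)) (nat_lit 2)) (nat_lit 11654144)))
    (Nat.mul (Nat.mod (Nat.shiftRight i (nat_lit 11)) (nat_lit 2)) (nat_lit 14919680)))
private noncomputable def cdF (m : ℕ) : Bool := Nat.beq (encF m) m
private noncomputable def sp (P i : ℕ) : ℕ := Nat.shiftLeft (nat_lit 1) (Nat.mod (Nat.shiftRight P i) (nat_lit 32))
private noncomputable def okA (s0 s1 s2 s3 s4 s5 s6 s7 s8 s9 s10 s11 s12 s13 s14 s15 s16 s17 s18 s19 s20 s21 s22 s23 : ℕ) : Bool :=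
  Nat.beq (Nat.xor (Nat.xor (Nat.xor (Nat.xor (Nat.xor (Nat.xor (Nat.xor (Nat.xor (Nat.xor (Nat.xor (Nat.xor (Nat.xor (Nat.xor (Nat.xor (Nat.xor (Nat.xor (Nat.xor (Nat.xor (Nat.xor (Nat.xor (Nat.xor (Nat.xor (Nat.xor s0 s1) s2) s3) s4) s5) s6) s7) s8) s9) s10) s11) s12) s13) s14) s15) s16) s17) s18) s19) s20) s21) s22) s23) (nat_lit 16777215) &&
  (
  cdF (Nat.xor (Nat.xor (Nat.xor (Nat.xor (Nat.xor (Nat.xor (Nat.xor s0 s12) s14) s16) s17) s18) s22) s23) &&
  cdF (Nat.xor (Nat.xor (Nat.xor (Nat.xor (Nat.xor (Nat.xor (Nat.xor s1 s12) s13) s14) s15) s16) s19) s22) &&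
  cdF (Nat.xor (Nat.xor (Nat.xor (Nat.xor (Nat.xor (Nat.xor (Nat.xor s2 s12) s13) s15) s18) s20) s22) s23) &&
  cdF (Nat.xor (Nat.xor (Nat.xor (Nat.xor (Nat.xor (Nat.xor (Nat.xor s3 s12) s13) s17) s18) s19) s21) s22) &&
  cdF (Nat.xor (Nat.xor (Nat.xor (Nat.xor (Nat.xor (Nat.xor (Nat.xor s4 s12) s13) s16) s17) s19) s20) s23) &&
  cdF (Nat.xor (Nat.xor (Nat.xor (Nat.xor (Nat.xor (Nat.xor (Nat.xor s5 s13) s14) s17) s18) s20) s21) s23) &&
  cdF (Nat.xor (Nat.xor (Nat.xor (Nat.xor (Nat.xor (Nat.xor (Nat.xor s6 s14) s15) s18) s19) s21) s22) s23) &&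
  cdF (Nat.xor (Nat.xor (Nat.xor (Nat.xor (Nat.xor (Nat.xor (Nat.xor s7 s12) s14) s15) s17) s18) s19) s20) &&
  cdF (Nat.xor (Nat.xor (Nat.xor (Nat.xor (Nat.xor (Nat.xor (Nat.xor s8 s13) s15) s16) s18) s19) s20) s21) &&
  cdF (Nat.xor (Nat.xor (Nat.xor (Nat.xor (Nat.xor (Nat.xor (Nat.xor s9 s14) s16) s17) s19) s20) s21) s22) &&
  cdF (Nat.xor (Nat.xor (Nat.xor (Nat.xor (Nat.xor (Nat.xor (Nat.xor s10 s12) s14) s15) s16) s20) s21) s23) &&
  cdF (Nat.xor (Nat.xor (Nat.xor (Nat.xor (Nat.xor (Nat.xor (Nat.xor s11 s13) s15) s16) s17) s21) s22) s23))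
private noncomputable def okF (P : ℕ) : Bool :=
  okA (sp P (nat_lit 0)) (sp P (nat_lit 5)) (sp P (nat_lit 10)) (sp P (nat_lit 15)) (sp P (nat_lit 20)) (sp P (nat_lit 25)) (sp P (nat_lit 30)) (sp P (nat_lit 35)) (sp P (nat_lit 40)) (sp P (nat_lit 45)) (sp P (nat_lit 50)) (sp P (nat_lit 55)) (sp P (nat_lit 60)) (sp P (nat_lit 65)) (sp P (nat_lit 70)) (sp P (nat_lit 75)) (sp P (nat_lit 80)) (sp P (nat_lit 85)) (sp P (nat_lit 90)) (sp P (nat_lit 95)) (sp P (nat_lit 100)) (sp P (nat_lit 105)) (sp P (nat_lit 110)) (sp P (nat_lit 115))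
private theorem ok_F : ok = okF := funext fun P => by
  delta ok isPerm isAut pimg
  simp only [Nat.reduceShiftRight, Nat.reduceMod, Nat.zero_shiftLeft, Nat.xor_zero, Nat.zero_xor]
  rfl

theorem lstL : Emb.lst g22 L = true := by
  delta Emb.lst; rewrite [pcomp_F, ok_F]
  decide +kernel

theorem lenL : L.length = 384 := by decide +kernel

theorem comL : (L.all fun c => Nat.beq (pcomp c t0) (pcomp t0 c)) = true := by
  rewrite [pcomp_F]
  decide +kernel

theorem n2 : (L.all fun c => !Nat.beq (pcomp (ppow (pcomp g0 c) 2) idP) idP || gO.any fun o =>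
    !Nat.beq (pcomp (ppow (pcomp (pcomp g0 c) o) 2) idP) idP && Nat.beq (ppow (ppow (pcomp (pcomp g0 c) o) 2) 2) idP) =
    true := by
  simp only [ppow2]; rewrite [pcomp_F]
  decide +kernel

theorem n3 : (L.all fun c => !Nat.beq (pcomp (ppow c 2) idP) idP || (LO.elem c || gO.any fun o =>
    LO.any fun u => Nat.beq (ppow (pcomp o c) 2) u && !(Nat.beq u idP || Nat.beq u t0))) = true := by
  simp only [ppow2]; rewrite [pcomp_F]
  decide +kernel

theorem n4 : (L.all fun c => !Nat.beq (pcomp (ppow c 2) idP) idP || ((LO ++ C2).elem c ||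
    L.any fun k => Nat.beq (pcomp k c) (pcomp s1 k))) = true := by
  simp only [ppow2]; rewrite [pcomp_F]
  decide +kernel

theorem n5 : (C2.all fun s => Nat.blt ((LO ++ C2).filter fun c =>
    Nat.beq (pcomp (pcomp c s) idP) (pcomp (pcomp s c) idP)).length 16) = true := by
  rewrite [pcomp_F]
  decide +kernel

theorem n6 : (LO.all fun u => (Nat.beq u idP || Nat.beq u t0) || L.any fun k =>
    Nat.beq (pcomp k u) (pcomp u1 k) || Nat.beq (pcomp k u) (pcomp u2 k)) = true := by
  rewrite [pcomp_F]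
  decide +kernel

theorem n7 : (gO.all fun o => L.any fun k =>
    Nat.beq (pcomp k u2) (pcomp o k) || Nat.beq (pcomp k u2) (pcomp (pcomp o u2) k)) = true := by
  rewrite [pcomp_F]
  decide +kernel

end Cfsg.Agent.TwoF.SpA.M22
end

-- part: TwoF/SpA/M22
section
/-!
# TwoF SP-A: the row `M22` (helper86)
-/

set_option autoImplicit false
set_option linter.unusedSectionVars false

namespace Cfsg.Agent.TwoF.SpA.M22

open Cfsg Module Gen Subgroup
open SporadicA.GolayBase SporadicA.GolayPerm SporadicStructure.M24El H729.Trans H729.MData H729.Count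
open H729.M22Deg (inc inc_injective exists_el im_none im_zero card_M22)
open H334.Ore.Mat (im_mul im_el)

/-- the embedding of `M22` -/
noncomputable def E22 : Emb Spor.M22 g22 := ⟨inc, inc_injective, fun _ h1 h2 =>
  exists_el h1 (Nat.eq_of_beq_eq_true (Bool.and_eq_true_iff.1 h2).1) (Nat.eq_of_beq_eq_true (Bool.and_eq_true_iff.1 h2).2)⟩

theorem conj_t0 {s : Spor.M22} (h2 : s ^ 2 = 1) (h1 : s ≠ 1) : IsConj (E22.l t0) s := by
  obtain ⟨r, hr, x, hx, h⟩ := (H334.Ore.M22.cov s).resolve_left h1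
  rw [E22.l_eq hx] at h
  rcases Bool.or_eq_true_iff.1 (List.all_eq_true.1 (by decide +kernel : (H334.Ore.M22Data.D.all fun r =>
    Nat.beq r.c t0 || ((Wd.pw (.c r.c) 2).chk g22 && !Nat.beq (pcomp (Wd.pw (.c r.c) 2).val idP) idP)) = true) r hr)
    with e | e
  · exact Nat.eq_of_beq_eq_true e ▸ h
  · obtain ⟨g, rfl⟩ := isConj_iff.1 h
    rw [conj_pow, conj_eq_one_iff] at h2
    exact absurd h2 (E22.ne_one _ e)

theorem oneCl22 : OneCl Spor.M22 := fun _ _ h1 h2 h3 h4 => (conj_t0 h1 h2).symm.trans (conj_t0 h3 h4)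

theorem card_le {B : Subgroup Spor.M22} (hB : IsElementaryAbelian 2 B) : Nat.card B ≤ 16 := by
  rw [← card_map_of_injective (K := B) inc_injective]
  exact fix_le (elemAb_map hB _) (p := none) (by rintro _ ⟨b, -, rfl⟩; exact b.2.1.2)

/-- the case of dimension at most 12 -/
theorem small_case {G : Type*} [Group G] [Finite G] (E : Emb G g22) (hM : ∀ x, (E.ψ x : Equiv.Perm GolayPt) ∈ Spor.M22)
    {V : Type*} [AddCommGroup V] [Module (ZMod 2) V] [Finite V] [Nontrivial V] {ρ : Representation (ZMod 2) G V}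
    (h1 : fx ρ ⊤ = ⊥) (h2 : cm ρ ⊤ ⊤ = ⊤) (hc : cod ρ (zpowers (E.l cx)) = 10) : ∃ B, Off 2 ρ B := by
  have h0 : _root_.Subgroup.closure {E.l cx, E.l 979603689399033154365502228401887840} = ⊤ :=
    E.gen_of (by decide +kernel) (by decide +kernel) (by
      rw [coe_el_eq (X := H994.TwoGen.M22.X) (by decide +kernel) (by decide +kernel),
        coe_el_eq (X := H994.TwoGen.M22.Y) (by decide +kernel) (by decide +kernel)]
      exact H994.TwoGen.M22.closure_eq) hM
  have hn := dim_le_twelve (E.not_dvd (by norm_num)) (E.not_dvd (by norm_num)) h1 h2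
    (E.gen₂ h0 976448692869377735270425038196672544 cx [1] [0, 1, 0, 1, 1, 1, 0, 1, 1, 1, 0, 1, 0, 1, 1, 1, 0, 1]
      (by decide +kernel))
    (E.pow _ _ (by decide +kernel)) (x11 E) (x1 E) (E.one (.pw (.mul (.c _) (.c cx)) 11) (by decide +kernel))
    (E.ne_one (.mul (.c _) (.c cx)) (by decide +kernel)) (l := 4) (m := 3) (by norm_num)
    (E.one (.pw (.mul (.c _) (.pw (.c cx) 4)) 5) (by decide +kernel))
    (E.ne_one (.mul (.c _) (.pw (.c cx) 4)) (by decide +kernel)) (y5 E) (y1 E) (yx E) hc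
  refine (off_OD E hn (E.pow 976416893688618881168959227535242272 5 (by decide +kernel))
    (E.norm_sub (memO E) _ (by decide +kernel)) ?_).elim (fun h => ⟨_, h⟩) fun h => ⟨_, h⟩
  rw [E.gen₂ h0 _ yD [1, 0, 1, 1, 1, 0, 1, 1, 1, 1, 0, 0, 0, 1, 0, 1, 0, 0, 1, 1]
    [1, 0, 0, 1, 0, 0, 0, 1, 1, 0, 0, 0, 0, 1, 1, 1, 0, 0, 0] (by decide +kernel), h1]

/-- the tables of elements of `M22:2` -/
def gA (c : ℕ) : Bool := g22 c || (Nat.beq (papp c 23) 0 && Nat.beq (papp c 0) 23)

theorem chkA {c : ℕ} (h : (Wd.c c).chk g22 = true) : (Wd.c c).chk gA = true :=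
  Bool.and_eq_true_iff.2 ⟨(Bool.and_eq_true_iff.1 h).1, Bool.or_eq_true_iff.2 (Or.inl (Bool.and_eq_true_iff.1 h).2)⟩

theorem and₂ {a b : Bool} (ha : a = true) (hb : b = true) : (a && b) = true := by rw [ha, hb]; rfl

variable {Y : Type} [Group Y] [Finite Y] {V : Type} [AddCommGroup V] [Module (ZMod 2) V] [Finite V]
  {K : Subgroup Y} {ρ : Representation (ZMod 2) Y V}

/-- `Y = M22:2` -/
structure Ctx (K : Subgroup Y) (E : Emb Y gA) : Prop where
  index : K.index = 2
  inn : ∀ x ∈ K, im (E.ψ x) 23 = 23 ∧ im (E.ψ x) 0 = 0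
  mem : ∀ c, (Wd.c c).chk g22 = true → E.l c ∈ K
  cj : ∀ s ∈ K, s ^ 2 = 1 → s ≠ 1 → ∃ k, k * s * k⁻¹ = E.l t0
  le : ∀ B ≤ K, IsElementaryAbelian 2 B → Nat.card B ≤ 16

variable {E : Emb Y gA}

theorem com {c : ℕ} (hc : c ∈ L) : E.l c * E.l t0 = E.l t0 * E.l c :=
  have h := chkA (Emb.lst_chk lstL hc)
  have h0 : (Wd.c t0).chk gA = true := by decide +kernel
  E.eq (.mul (.c c) (.c t0)) (.mul (.c t0) (.c c)) (and₂ (and₂ h h0) (and₂ (and₂ h0 h) (List.all_eq_true.1 comL c hc)))

theorem cjL {k a : ℕ} (hk : k ∈ L) (ha : (Wd.c a).chk gA = true) {b : Wd} (hb : b.chk gA = true)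
    (h : Nat.beq (pcomp k a) (pcomp b.val k) = true) : E.l k * E.l a * (E.l k)⁻¹ = b.ev E.l :=
  have h1 := chkA (Emb.lst_chk lstL hk)
  E.conj (.c k) (.c a) b (and₂ (and₂ h1 ha) (and₂ (and₂ hb h1) h))

theorem sq {c : ℕ} (hc : c ∈ L) (h : E.l c ^ 2 = 1) : (!Nat.beq (pcomp (ppow c 2) idP) idP) ≠ true := fun e =>
  E.ne_one (.pw (.c c) 2) (and₂ (chkA (Emb.lst_chk lstL hc)) e) h

theorem Ctx.cen (C : Ctx K E) {s : Y} (hs : s ∈ K) (h : s * E.l t0 = E.l t0 * s) : ∃ c ∈ L, s = E.l c := by
  let x : K := ⟨E.l t0, C.mem t0 (by decide +kernel)⟩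
  have h1 : Nat.card (centralizer ({x} : Set K)) ≤ 384 := H334.Ore.Mat.card_cent_le (φ := E.ψ.comp K.subtype)
    (E.inj.comp K.subtype_injective) (F := H334.Ore.M22Data.F) (fun g b hb => by
      rcases List.mem_pair.1 hb with rfl | rfl
      · exact (C.inn g g.2).1
      · exact (C.inn g g.2).2) (H334.Ore.M22Data.hC H334.Ore.M22Data.r0 List.mem_cons_self)
    (E.spec (.c t0) (by decide +kernel)).2
  refine (E.mono (g' := g22) fun c h => Bool.or_eq_true_iff.2 (Or.inl h)).surj lstL
    (H := (centralizer ({x} : Set K)).map K.subtype) (fun c hc => ⟨⟨_, C.mem c (Emb.lst_chk lstL hc)⟩,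
      mem_centralizer_singleton_iff.2 (Subtype.ext (com hc)), rfl⟩) ?_
    ⟨⟨s, hs⟩, mem_centralizer_singleton_iff.2 (Subtype.ext h), rfl⟩
  rw [card_map_of_injective K.subtype_injective, lenL]
  exact h1

/-- the case `dim [V, x] ≥ 20` -/
theorem Ctx.large (C : Ctx K E) (hc : 20 ≤ cod ρ (zpowers (E.l cx))) {A : Subgroup Y} (hA : Off 2 ρ A) (hK : ¬ A ≤ K)
    (h0 : ∀ a ∈ A, a * E.l t0 = E.l t0 * a) (h1 : E.l t0 ∈ A ∨ A ⊓ K = ⊥) : ∃ B ≤ K, Off 2 ρ B := by
  let E' : Emb Y g22 := E.mono fun c h => Bool.or_eq_true_iff.2 (Or.inl h)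
  have hN := normal_of_index_eq_two C.index
  have h5 : 16 ≤ cod ρ (zpowers (E.l cy)) := by
    have : 4 * cod ρ (zpowers (E.l cx)) ≤ 5 * cod ρ (zpowers (E.l cy)) := five_ge (x11 E') (x1 E') (y5 E') (yx E')
    omega
  have h8 : ∀ s ∈ K, s ^ 2 = 1 → s ≠ 1 → 8 ≤ cod ρ (zpowers s) := fun s hs h2 h3 => by
    obtain ⟨k, hk⟩ := C.cj s hs h2 h3
    obtain ⟨k', hk'⟩ := C.cj _ (C.mem ct (by decide +kernel)) (t2 E') (t1 E')
    have : cod ρ (zpowers (E.l cy)) ≤ 2 * cod ρ (zpowers (E.l ct)) :=
      cod_le_of_inv Nat.prime_five (by norm_num) (y5 E') (ty E')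
    rw [← cod_zpowers_conj k' (E.l ct), hk', ← hk, cod_zpowers_conj] at this
    omega
  have hO : ∀ o ∈ LO, (Wd.c o).chk g22 = true := fun o ho => Emb.lst_chk lstO ho
  have hO' : ∀ o ∈ gO, o ∈ LO ∧ o ∈ L := by decide +kernel
  have ht : E.l t0 ∈ K ∧ E.l t0 ^ 2 = 1 ∧ E.l t0 ≠ 1 :=
    ⟨C.mem _ (by decide +kernel), E.pow _ _ (by decide +kernel), E.ne_one (.c _) (by decide +kernel)⟩
  obtain ⟨r, -, g1, g2⟩ := hA.exists_card
  have g3 := card_of_index C.index hK
  have g4 := C.le _ inf_le_right (elemAb_of_le hA.1 (inf_le_left (b := K)))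
  obtain ⟨a, ha, haK⟩ := SetLike.not_le_iff_exists.1 hK
  -- an outer involution does not centralise the group of the octad
  obtain ⟨o, ho, h2, h3⟩ : ∃ o ∈ gO, (a * E.l o) ^ 2 ≠ 1 ∧ ((a * E.l o) ^ 2) ^ 2 = 1 := by
    have h4 : (Wd.c g0).chk gA = true := by decide +kernel
    have h6 : E.l g0 ∉ K := fun e => by
      have := (C.inn _ e).1
      rw [show E.ψ (E.l g0) = el g0 from (E.spec _ h4).2, im_el (by decide +kernel) (by norm_num)] at this
      exact absurd this (by decide +kernel)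
    obtain ⟨c, h7, h9⟩ := C.cen ((mul_mem_iff_of_index_two C.index).2 (iff_of_false (fun e => h6 (inv_mem_iff.1 e)) haK))
      (by
        rw [mul_assoc, h0 a ha, ← mul_assoc, ← mul_assoc]
        exact congrArg (· * a) (inv_mul_eq_iff_eq_mul.2 (by
          rw [← mul_assoc]; exact (E.conj (.c g0) (.c t0) (.c t0) (by decide +kernel)).symm)))
    rw [inv_mul_eq_iff_eq_mul] at h9
    have h10 : ((Wd.c g0).mul (.c c)).chk gA = true := by rw [Wd.chk, h4, chkA (Emb.lst_chk lstL h7)]; rfl
    rcases Bool.or_eq_true_iff.1 (List.all_eq_true.1 n2 c h7) with e | e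
    · exact absurd (h9 ▸ hA.1.2 a ha : (E.l g0 * E.l c) ^ 2 = 1)
        (E.ne_one (.pw (.mul (.c g0) (.c c)) 2) (and₂ h10 e))
    · obtain ⟨o, ho, e⟩ := List.any_eq_true.1 e
      have h11 := and₂ h10 (chkA (hO o (hO' o ho).1))
      rw [h9]
      exact ⟨o, ho, E.ne_one (.pw (.mul (.mul (.c g0) (.c c)) (.c o)) 2) (and₂ h11 (Bool.and_eq_true_iff.1 e).1),
        E.one (.pw (.pw (.mul (.mul (.c g0) (.c c)) (.c o)) 2) 2) (and₂ h11 (Bool.and_eq_true_iff.1 e).2)⟩
  have a2 : a⁻¹ = a := inv_eq_of_mul_eq_one_right (pow_two a ▸ hA.1.2 a ha)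
  have o2 : ∀ o ∈ LO, (E.l o)⁻¹ = E.l o := fun o ho =>
    inv_eq_of_mul_eq_one_right (pow_two (E.l o) ▸ (elO E').2 _ (memO E' o ho))
  have h4 : 4 ≤ r := by
    rcases h1 with h1 | h1
    · have := (h8 _ ht.1 ht.2.1 ht.2.2).trans (XL.cod_le_of_mem h1)
      omega
    · have e : (a * E.l o) ^ 2 = a * E.l o * a⁻¹ * (E.l o)⁻¹ := by rw [a2, o2 o (hO' o ho).1, pow_two]; group
      have k1 := C.mem o (hO o (hO' o ho).1)
      have k2 := h8 _ (e ▸ mul_mem (hN.conj_mem _ k1 a) (inv_mem k1)) h3 h2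
      have k3 := cod_zpowers_commutator_le (ρ := ρ) a (E.l o)
      have k4 := XL.cod_le_of_mem (ρ := ρ) ha
      rw [h1, card_bot, g1] at g3
      obtain rfl : r = 1 := Nat.pow_right_injective le_rfl g3
      rw [e] at k2
      omega
  have h6 : 8 ≤ Nat.card ↥(A ⊓ K) := by
    have := Nat.pow_le_pow_right two_pos h4
    omega
  replace h1 := h1.resolve_right fun e => by rw [e, card_bot] at h6; omega
  have h7 : ∀ s ∈ A ⊓ K, ∃ c ∈ L, s = E.l c := fun s hs => C.cen hs.2 (h0 s hs.1)
  rcases h4.eq_or_lt with rfl | h4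
  · -- the pointwise stabiliser of the fixed space of `A` contains the group of the octad
    let N := XL.cl ρ A
    have k0 : cod ρ N ≤ 8 := (XL.cod_cl A).trans_le g2
    have k1 : ∀ t ∈ N, t ∈ K → t ^ 2 = 1 → t ≠ 1 → ∀ x, x * t = t * x → ∀ b ∈ N, x * b * x⁻¹ ∈ N :=
      fun t e1 e2 e3 e4 x e5 b e6 => by
        have := XL.conj_mem_cl_of_comm e1 (k0.trans (h8 t e2 e3 e4)) e5 (XL.le_cl _ e6)
        rwa [XL.cl, XL.fx_cl] at this
    have k2 : ∀ k ∈ L, ∀ b ∈ N, E.l k * b * (E.l k)⁻¹ ∈ N := fun k hk =>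
      k1 _ (XL.le_cl A h1) ht.1 ht.2.1 ht.2.2 _ (com hk)
    obtain ⟨u, k3, k4, k5⟩ : ∃ u ∈ LO, E.l u ∈ N ∧ (Nat.beq u idP || Nat.beq u t0) ≠ true := by
      obtain ⟨c, k3, k4, k5⟩ : ∃ c ∈ L, E.l c ∈ A ∧ (Nat.beq c idP || Nat.beq c t0) ≠ true := by
        by_contra! e
        have := card_le_of_list (H := A ⊓ K) E.l [idP, t0] fun s hs => by
          obtain ⟨c, e1, rfl⟩ := h7 s hs
          exact ⟨c, by simpa using e c e1 hs.1, rfl⟩
        simp only [List.length_cons, List.length_nil] at this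
        omega
      rcases Bool.or_eq_true_iff.1 ((Bool.or_eq_true_iff.1 (List.all_eq_true.1 n3 c k3)).resolve_left
        (sq k3 (hA.1.2 _ k4))) with e | e
      · exact ⟨c, List.mem_of_elem_eq_true e, XL.le_cl A k4, k5⟩
      · obtain ⟨o, ho, e⟩ := List.any_eq_true.1 e
        obtain ⟨u, hu, e⟩ := List.any_eq_true.1 e
        rw [Bool.and_eq_true, Bool.not_eq_true', Bool.eq_false_iff] at e
        refine ⟨u, hu, ?_, e.2⟩
        rw [← show (E.l o * E.l c) ^ 2 = E.l u from E.eq (.pw (.mul (.c o) (.c c)) 2) (.c u)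
          (and₂ (and₂ (chkA (hO o (hO' o ho).1)) (chkA (Emb.lst_chk lstL k3))) (and₂ (chkA (hO u hu)) e.1)),
          pow_two, ← mul_assoc]
        exact mul_mem (by simpa only [o2 o (hO' o ho).1] using k2 o (hO' o ho).2 _ (XL.le_cl A k4)) (XL.le_cl A k4)
    have k6 : E.l u2 ∈ N := by
      obtain ⟨k, hk, e⟩ := List.any_eq_true.1 ((Bool.or_eq_true_iff.1 (List.all_eq_true.1 n6 u k3)).resolve_left k5)
      have k7 := k2 k hk _ k4
      rcases Bool.or_eq_true_iff.1 e with e | e
      · rw [cjL hk (chkA (hO u k3)) (b := .c u1) (by decide +kernel) e] at k7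
        rw [← show E.l M22.h1 * E.l t0 * (E.l M22.h1)⁻¹ = E.l u2 from
          E.conj (.c M22.h1) (.c t0) (.c u2) (by decide +kernel)]
        exact k1 _ k7 (C.mem _ (by decide +kernel)) (E.pow _ _ (by decide +kernel)) (E.ne_one (.c _) (by decide +kernel)) _
            (E.eq (.mul (.c _) (.c u1)) (.mul (.c u1) (.c _)) (by decide +kernel)) _ (XL.le_cl A h1)
      · rwa [cjL hk (chkA (hO u k3)) (b := .c u2) (by decide +kernel) e] at k7
    refine ⟨_, E'.sub_le fun c hc => C.mem c (hO c (hO' c hc).1), offO E' ((cod_mono (E'.sub_le fun c hc => ?_)).trans k0)⟩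
    obtain ⟨k, hk, e⟩ := List.any_eq_true.1 (List.all_eq_true.1 n7 c hc)
    have k7 := k2 k hk _ k6
    have k8 := chkA (hO c (hO' c hc).1)
    rcases Bool.or_eq_true_iff.1 e with e | e
    · rwa [cjL hk (by decide +kernel) (b := .c c) k8 e] at k7
    · rw [cjL hk (by decide +kernel) (b := .mul (.c c) (.c u2)) (and₂ k8 (by decide +kernel)) e] at k7
      exact (mul_mem_cancel_right k6).1 k7
  · exfalso
    have k0 : Nat.card ↥(A ⊓ K) = 16 ∧ r = 5 := by
      have := Nat.pow_le_pow_right two_pos h4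
      exact ⟨by omega, le_antisymm ((Nat.pow_le_pow_iff_right one_lt_two).1 (by omega)) h4⟩
    have k1 : ∀ s ∈ A ⊓ K, ∃ c ∈ LO ++ C2, s = E.l c := fun s hs => by
      obtain ⟨c, k3, rfl⟩ := h7 s hs
      rcases Bool.or_eq_true_iff.1 ((Bool.or_eq_true_iff.1 (List.all_eq_true.1 n4 c k3)).resolve_left
        (sq k3 (hA.1.2 _ hs.1))) with e | e
      · exact ⟨c, List.mem_of_elem_eq_true e, rfl⟩
      obtain ⟨k, hk, e⟩ := List.any_eq_true.1 e
      have k4 := three_conj (ρ := ρ) (A := A.map (MulAut.conj (E.l k)).toMonoidHom) (t := E.l t0) (s := E.l s1)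
        ⟨_, h1, mul_inv_eq_of_eq_mul (com hk)⟩
        ⟨_, hs.1, cjL hk (chkA (Emb.lst_chk lstL k3)) (b := .c s1) (by decide +kernel) e⟩
        (g := E.l M22.g2) (h := E.l M22.g3)
        (E.conj (.c M22.g2) (.c t0) (.c t0) (by decide +kernel)) (E.conj (.c M22.g3) (.c t0) (.c s1) (by decide +kernel))
      rw [show E.l M22.g2 * E.l s1 * (E.l M22.g2)⁻¹ = E.l 984324647938295553064945932004594080 from
          E.conj (.c M22.g2) (.c s1) (.c _) (by decide +kernel),
        show E.l M22.g3 * E.l s1 * (E.l M22.g3)⁻¹ = E.l 984152727466544257491081215029119232 from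
          E.conj (.c M22.g3) (.c s1) (.c _) (by decide +kernel), cod_conj,
        cod_eq_of_order (hp := ⟨Nat.prime_five⟩) (a := E.l _ * E.l _) (b := E.l cy) (E.not_dvd (by norm_num))
          (E.one (.pw (.mul (.c _) (.c _)) 5) (by decide +kernel)) (E.ne_one (.mul (.c _) (.c _)) (by decide +kernel))
          (y5 E') (y1 E')] at k4
      have k5 := h8 _ ht.1 ht.2.1 ht.2.2
      have k6 := h8 _ (C.mem s1 (by decide +kernel)) (E.pow _ _ (by decide +kernel)) (E.ne_one (.c _) (by decide +kernel))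
      omega
    have k2 : ∀ c ∈ LO ++ C2, (Wd.c c).chk gA = true := by decide +kernel
    by_cases e : ∃ s ∈ C2, E.l s ∈ A
    · obtain ⟨s, hs, e⟩ := e
      refine (Nat.blt_eq.mp (List.all_eq_true.1 n5 s hs)).not_ge (k0.1.ge.trans (card_le_of_list E.l _ fun x hx => ?_))
      obtain ⟨c, k3, rfl⟩ := k1 x hx
      have k4 := k2 s (List.mem_append_right _ hs)
      have k5 : pcomp (pcomp c s) idP = pcomp (pcomp s c) idP := E.can (u := .mul (.c c) (.c s)) (w := .mul (.c s) (.c c))
        (and₂ (k2 c k3) k4) (and₂ k4 (k2 c k3)) (elemAb_comm hA.1 hx.1 e)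
      exact ⟨c, List.mem_filter.2 ⟨k3, Nat.beq_eq.mpr k5⟩, rfl⟩
    · refine h2 (hA.1.2 _ (mul_mem ha (by_contra fun k3 => ?_)))
      have k4 := card_le_of_list (H := A ⊓ K) E.l (LO.erase o) fun x hx => by
        obtain ⟨c, k4, rfl⟩ := k1 x hx
        exact ⟨c, (List.mem_erase_of_ne fun e' : c = o => k3 (e' ▸ hx.1)).2
          ((List.mem_append.1 k4).resolve_right fun e' => e ⟨c, e', hx.1⟩), rfl⟩
      rw [List.length_erase_of_mem (hO' o ho).1, k0.1] at k4
      exact absurd k4 (by decide)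

variable {π : K →* Spor.M22} {φ : Y →* MulAut Spor.M22} (H : Sit 2 K ρ π φ)
include H

theorem th_coe (x : K) : (H916.RG.R22.φ.comp φ) x = inc (π x) := by
  rw [MonoidHom.comp_apply, H.toFrm.φ_coe, H916.RG.R22.φ_conj]

theorem th_out {a : Y} (ha : a ∉ K) {c : ℕ} (hc : ok c = true) (h1 : papp c 23 = 0) (h2 : papp c 0 = 23) :
    ∃ k ∈ K, (H916.RG.R22.φ.comp φ) (k * a) = el c := by
  obtain ⟨h3, h4⟩ := H916.RG.R22.im_outer (α := φ a⁻¹) fun h => ha (inv_mem_iff.1 (H.toFrm.mem_inn_iff.1
    ⟨_, (KFacts.MM.OutAut.of_emb_mem h).symm⟩))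
  obtain ⟨s, hs⟩ := exists_el (ok_packOf (el c * H916.RG.R22.φ (φ a⁻¹)))
    (by rw [papp_packOf_im _ (by norm_num), im_mul, h3, im_el hc (by norm_num), h2])
    (by rw [papp_packOf_im _ (by norm_num), im_mul, h4, im_el hc (by norm_num), h1])
  obtain ⟨k, rfl⟩ := H.surj s
  refine ⟨k, k.2, ?_⟩
  rw [map_mul, th_coe H, hs, el_packOf, map_inv, map_inv]
  exact inv_mul_cancel_right _ _

theorem cv22 : Cv π := cv_of H (center_dvd H (j := 2) S2036.result)

theorem le22 : ∀ B ≤ K, IsElementaryAbelian 2 B → Nat.card B ≤ 16 := fun _ h hB =>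
  (card_map_π H hB h).2 ▸ card_le (card_map_π H hB h).1

theorem cub22 {B : Subgroup Y} (h : B ≤ K) (hB : Off 2 ρ B) : Cub ρ B := by
  have h1 := cub_of_oneCl (ρ := ρ.comp K.subtype) (H.faithful.comp K.subtype_injective) ((cv22 H).dat (dat22 E22))
    ((cv22 H).oneCl oneCl22) (SpB.off_comap _ K.subtype_injective (by rwa [range_subtype]) hB)
    ((Nat.card_congr (subgroupOfEquivOfLe h).toEquiv).trans_le (le22 H B h hB.1))
  rwa [cub_comp, map_comap_eq_self (by rwa [range_subtype])] at h1

/-- `K = M22` -/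
theorem key_one (hZ : center K = ⊥) {A : Subgroup Y} (hA : Off 2 ρ A) (hK : ¬ A ≤ K) : ∃ B ≤ K, Off 2 ρ B := by
  have h0 : Function.Injective (H916.RG.R22.φ.comp φ) := H916.RG.R22.φ_inj.comp ((MonoidHom.ker_eq_bot_iff φ).1
    (by rw [H.ker_φ, H.toStp.centralizer_eq, hZ, Subgroup.map_bot]))
  have h1 : ∀ c, (Wd.c c).chk g22 = true → ∃ x : K, (H916.RG.R22.φ.comp φ) x = el c := fun c hc => by
    obtain ⟨x, hx⟩ := H.surj (E22.l c)
    exact ⟨x, by rw [th_coe H, hx]; exact (E22.spec _ hc).2⟩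
  obtain ⟨a, -, haK⟩ := SetLike.not_le_iff_exists.1 hK
  let E : Emb Y gA := ⟨_, h0, fun c h2 h3 => (Bool.or_eq_true_iff.1 h3).elim
    (fun h => (h1 c (and₂ h2 h)).elim fun x hx => ⟨x, hx⟩) fun h =>
      (th_out H haK h2 (Nat.eq_of_beq_eq_true (Bool.and_eq_true_iff.1 h).1)
        (Nat.eq_of_beq_eq_true (Bool.and_eq_true_iff.1 h).2)).elim fun _ hk => ⟨_, hk.2⟩⟩
  let EK : Emb K g22 := ⟨E.ψ.comp K.subtype, h0.comp K.subtype_injective, fun c h2 h3 => h1 c (and₂ h2 h3)⟩
  have h2 : ∀ c, (Wd.c c).chk g22 = true → (EK.l c : Y) = E.l c := fun c hc => E.l_eq (EK.spec _ hc).2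
  have C : Ctx K E :=
    { index := index_two H S2062.result hK
      inn := fun x hx => by
        rw [show E.ψ x = _ from th_coe H ⟨x, hx⟩]
        exact ⟨im_none _, im_zero _⟩
      mem := fun c hc => h2 c hc ▸ (EK.l c).2
      cj := fun s hs h3 h4 => by
        obtain ⟨k, hk⟩ := isConj_iff.1 ((cv22 H).oneCl oneCl22 ⟨s, hs⟩ (EK.l t0) (Subtype.ext h3)
          (fun e => h4 (congrArg Subtype.val e)) (EK.pow _ _ (by decide +kernel)) (EK.ne_one (.c _) (by decide +kernel)))
        exact ⟨k, (congrArg Subtype.val hk).trans (h2 _ (by decide +kernel))⟩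
      le := le22 H }
  obtain ⟨h3, h4, h5⟩ := res_facts H.toStp
  rcases cases_eleven (ρ := ρ.comp K.subtype) (H.faithful.comp K.subtype_injective) (x11 EK) (x1 EK) with hc | hc
  · obtain ⟨B, hB⟩ := small_case EK (fun x => by rw [show EK.ψ x = _ from th_coe H x]; exact (π x).2) h3 h4 hc
    exact off_res hB
  rw [cod_res, h2 _ (by decide +kernel)] at hc
  have := H.normal
  obtain ⟨t, k1, k2, k3, k4, k5⟩ := exists_cent hA.1 (C.mem t0 (by decide +kernel)) (E.pow _ _ (by decide +kernel))
    (E.ne_one (.c _) (by decide +kernel))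
  obtain ⟨k, hk⟩ := C.cj t k1 k2 k3
  have k6 : ∀ a, k * a * k⁻¹ ∈ K → a ∈ K := fun a h => by simpa [mul_assoc] using this.conj_mem' _ h k
  refine C.large hc (hA.conj k) (fun h => hK fun a ha => k6 a (h ⟨a, ha, rfl⟩)) ?_ (k5.imp (fun h => ⟨t, h, hk⟩) fun h => ?_)
  · rintro _ ⟨a, ha, rfl⟩
    rw [← hk]
    exact (conj_mul.trans (congrArg (k * · * k⁻¹) (k4 a ha))).trans conj_mul.symm
  · refine eq_bot_iff.2 ?_
    rintro _ ⟨⟨a, ha, rfl⟩, h'⟩
    exact conj_eq_one_iff.2 (mem_bot.1 (h ▸ mem_inf.2 ⟨ha, k6 a h'⟩))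

/-- `K = 3.M22` -/
theorem key_three (hZ : center K ≠ ⊥) {A : Subgroup Y} (hA : Off 2 ρ A) (hK : ¬ A ≤ K) : ∃ B ≤ K, Off 2 ρ B := by
  have C := cv22 H
  have hN := H.normal
  have : Finite Spor.M22 := Finite.of_surjective π H.surj
  obtain ⟨q, hq⟩ := H.surj (E22.l cq)
  obtain ⟨y, hy⟩ := H.surj (E22.l cr)
  obtain ⟨u, hu⟩ := H.surj (E22.l ci)
  have hR := E22.elemAb_sub 3 [cq, cr] (by decide +kernel)
  have m1 : E22.l cq ∈ E22.sub [cq, cr] := E22.mem_sub (by simp)
  have m2 : E22.l cr ∈ E22.sub [cq, cr] := E22.mem_sub (by simp)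
  obtain ⟨z, hz⟩ : ∃ z, z = q * y * q⁻¹ * y⁻¹ := ⟨_, rfl⟩
  have z0 : π z = 1 := by
    rw [hz, map_mul, map_mul, map_mul, map_inv, map_inv, hq, hy, elemAb_comm hR m1 m2]; group
  have z1 : z ≠ 1 := fun e => by
    have h1 : 9 ∣ Nat.card (E22.sub [cq, cr]) := by
      obtain ⟨j, hj⟩ := (elemAb_isPGroup hR).exists_card_eq
      have h2 := E22.length_le (L := LR) (by decide +kernel) (H := E22.sub [cq, cr]) fun c hc =>
        (E22.prods_mem (gl := [cq, cq, cr, cr]) (by decide +kernel) (by simpa using ⟨m1, m2⟩) c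
          (List.mem_of_elem_eq_true (List.all_eq_true.1 (by decide +kernel : LR.all (Emb.prods [cq, cq, cr, cr]).elem = true)
            c hc))).2.2
      rw [hj] at h2 ⊢
      refine pow_dvd_pow 3 (show 2 ≤ j from not_lt.1 fun h => ?_)
      have := h2.trans (Nat.pow_le_pow_right (by norm_num) (Nat.le_of_lt_succ h))
      exact absurd this (by decide)
    let P := ((elemAb_isPGroup hR).toSylow fun h => absurd (mul_dvd_mul h1 h) (by
      rw [card_mul_index, card_M22]; norm_num)).comapOfKerIsPGroup π (fun w => ⟨1, Subtype.ext (C.exp w w.2)⟩)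
      (by rw [MonoidHom.range_eq_top.2 H.surj]; exact le_top)
    have h2 : E22.sub [cq, cr] ≤ (zpowers q ⊔ zpowers y).map π := E22.sub_le fun c hc => by
      rcases List.mem_pair.1 hc with rfl | rfl
      · exact ⟨q, mem_sup_left (mem_zpowers q), hq⟩
      · exact ⟨y, mem_sup_right (mem_zpowers y), hy⟩
    refine H333.QS6.Lift.not_dvd_center_of_comm H.toStp.perfect.commutator_eq_top P ⟨⟨fun a b => Subtype.ext ?_⟩⟩
      (((Nat.dvd_prime Nat.prime_three).1 (center_dvd H (j := 2) S2036.result)).resolve_left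
        fun e => hZ (card_eq_one.1 e)).symm.dvd
    obtain ⟨a', h3, h4⟩ := h2 a.2
    obtain ⟨b', h5, h6⟩ := h2 b.2
    have h7 := C.comm_congr h4 h6
    rw [comm_sup_zpowers (mul_inv_eq_iff_eq_mul.1 (mul_inv_eq_one.1 (hz.symm.trans e))).symm a' h3 b' h5,
      mul_inv_cancel_right, mul_inv_cancel] at h7
    exact mul_inv_eq_iff_eq_mul.1 (mul_inv_eq_one.1 h7.symm)
  have y3 : y ^ 3 = 1 := by
    have h1 : π (y ^ 3) = 1 := by rw [map_pow, hy]; exact hR.2 _ m2
    have h2 : π (u * y * u⁻¹ * y) = 1 := by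
      rw [map_mul, map_mul, map_mul, map_inv, hu, hy, show E22.l ci * E22.l cr * (E22.l ci)⁻¹ = (E22.l cr)⁻¹ from
        E22.inv (.c ci) (.c cr) (by decide +kernel), inv_mul_cancel]
    have h3 := Commute.mul_pow (C.cent _ h2 y⁻¹) 3
    rw [mul_inv_cancel_right, conj_pow, ← C.cent _ h1 u, mul_inv_cancel_right, C.exp _ h2, one_mul, inv_pow] at h3
    have h4 := C.exp _ h1
    rwa [pow_succ, pow_two, show y ^ 3 * y ^ 3 = 1 from mul_eq_one_iff_eq_inv.2 h3, one_mul] at h4
  have zc : ∀ k ∈ K, k * z * k⁻¹ = z := fun k hk =>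
    mul_inv_eq_of_eq_mul (congrArg Subtype.val (C.cent z z0 ⟨k, hk⟩).symm)
  have z3 : (z : Y) ^ 3 = 1 := congrArg Subtype.val (C.exp z z0)
  have zi : ∀ a ∉ K, a * z * a⁻¹ = (z : Y)⁻¹ := fun a ha => by
    obtain ⟨k, hk, h1⟩ := th_out H ha (c := g1) (by decide +kernel) (by decide +kernel) (by decide +kernel)
    have h2 : ∀ (x w : K) (c d : ℕ), π x = E22.l c → π w = E22.l d → (Wd.c c).chk g22 = true → (Wd.c d).chk g22 = true →
        E24.l g1 * E24.l c * (E24.l g1)⁻¹ = E24.l d → π ⟨k * a * x * (k * a)⁻¹, hN.conj_mem _ x.2 _⟩ = π w :=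
      fun x w c d e1 e2 e3 e4 e5 => inc_injective (by
        rw [← th_coe H, map_mul, map_mul _ (k * a), map_inv, h1, th_coe H, e1, e2,
          show inc (E22.l c) = el c from (E22.spec _ e3).2, show inc (E22.l d) = el d from (E22.spec _ e4).2]
        simpa only [E24_l] using e5)
    have h3 := congrArg Subtype.val (C.comm_congr
      (h2 q y cq cr hq hy (by decide +kernel) (by decide +kernel) (E24.conj (.c _) (.c _) (.c _) (by decide +kernel)))
      (h2 y q cr cq hy hq (by decide +kernel) (by decide +kernel) (E24.conj (.c _) (.c _) (.c _) (by decide +kernel))))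
    have h4 : k * (a * z * a⁻¹) * k⁻¹ = (z : Y)⁻¹ := by
      rw [hz]
      simp only [coe_mul, coe_inv] at h3 ⊢
      exact Eq.trans (by group) (h3.trans (by group))
    rw [mul_inv_eq_iff_eq_mul, ← eq_inv_mul_iff_mul_eq, ← mul_assoc] at h4
    have h5 := zc k⁻¹ (inv_mem hk)
    rw [h4, ← h5]
    nth_rewrite 1 [h5]
    group
  have z2 : (z : Y)⁻¹ = z ^ 2 := inv_eq_of_mul_eq_one_right (by rw [← pow_succ', z3])
  have hn : cod ρ (zpowers (z : Y)) = finrank (ZMod 2) V := cod_of_fx_eq_bot (H.irr.fx_eq_bot H.faithful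
    (fun g _ => (em (g ∈ K)).elim (fun h => mem_normalizer_of_pow (n := 1) ((zc g h).trans (pow_one _).symm))
      fun h => mem_normalizer_of_pow ((zi g h).trans z2))
    (fun e => z1 (Subtype.ext (zpowers_eq_bot.1 e))))
  have h12 : 12 ≤ finrank (ZMod 2) V := by
    have h1 := heis_cod_eq (ρ := ρ) (y := y) (z := z) (q := q) (congrArg Subtype.val (C.cent z z0 y).symm)
      (congrArg Subtype.val (C.cent z z0 q).symm) (congrArg Subtype.val (show q * y * q⁻¹ = y * z by
        rw [← C.cent z z0 y, hz, inv_mul_cancel_right])) Nat.prime_three (by decide) (congrArg Subtype.val y3) z3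
    have h2 := two_dvd_cod (ρ := ρ) z3
    obtain ⟨x, -, -, h3, h4, -⟩ := C.dat (dat22 E22)
    have h5 := cases_eleven H.faithful (x := (x : Y)) (congrArg Subtype.val h3) fun e => h4 (Subtype.ext e)
    have h6 := cod_le_finrank (ρ := ρ) (zpowers (x : Y))
    (clear * - hn h1 h5 h6; omega)
  obtain ⟨a, ha, haK⟩ := SetLike.not_le_iff_exists.1 hK
  obtain ⟨r, g0, g1, g2⟩ := hA.exists_card
  have g3 := card_of_index (index_two H S2062.result hK) hK
  have g4 := elemAb_of_le hA.1 (inf_le_left (b := K))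
  have g5 := le22 H _ inf_le_right g4
  have h1 := cod_sup_add_inf (ρ := ρ) A (A.map (MulAut.conj (z : Y)).toMonoidHom)
  have h2 : cod ρ (A ⊓ K) ≤ cod ρ (A ⊓ A.map (MulAut.conj (z : Y)).toMonoidHom) := cod_mono fun b hb =>
    ⟨hb.1, b, hb.1, mul_inv_eq_of_eq_mul (mul_inv_eq_iff_eq_mul.1 (zc b hb.2)).symm⟩
  have h3 := XL.cod_le_of_mem (ρ := ρ) (mul_mem_sup ha (show z * a * (z : Y)⁻¹ ∈ A.map (MulAut.conj (z : Y)).toMonoidHom
    from ⟨a, ha, rfl⟩))
  rw [show a * (z * a * (z : Y)⁻¹) = z by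
    rw [← mul_assoc, ← mul_assoc, mul_inv_eq_iff_eq_mul.1 (zi a haK), mul_assoc _ a a, ← pow_two, hA.1.2 a ha, mul_one,
      ← mul_inv_rev, ← pow_two, ← z2, inv_inv], hn] at h3
  rw [cod_conj] at h1
  obtain ⟨r, rfl⟩ : ∃ s, r = s + 1 := ⟨r - 1, by omega⟩
  rw [g1, pow_succ] at g3
  have h4 : r ≤ 4 := (Nat.pow_le_pow_iff_right one_lt_two).1 (by omega)
  exact ⟨_, inf_le_right, off_of_le g4 (r := r) (by omega) (by omega) (by omega)⟩

end Cfsg.Agent.TwoF.SpA.M22

namespace Cfsg.Agent.TwoF.SpA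

theorem rowM22 (p : ℕ) [Fact p.Prime] : Row p Spor.M22 := by
  by_cases h : p = 2
  · subst h
    exact row_of_key fun Y _ _ V _ _ _ K ρ π φ H => ⟨fun A hA hK => (em (Subgroup.center K = ⊥)).elim
      (fun h => M22.key_one H h hA hK) fun h => M22.key_three H h hA hK, fun B => M22.cub22 H⟩
  · exact row_odd24 h _ M22.E22.inj S2062.result.dvd

end Cfsg.Agent.TwoF.SpA
end

-- part: TwoF/SpB/Tl
section
/-!
# TwoF SP-B: non-cubic offenders in characteristic two, trace sums in `Co0` (helper24)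
-/

set_option autoImplicit false

namespace Cfsg.Agent.TwoF.SpB

open Module Gen Subgroup
open Cfsg.Agent.Co2Type.Mono (tr8 tr8_conj)

section

variable {Y : Type} [Group Y] {V : Type} [AddCommGroup V] [Module (ZMod 2) V] [Finite V]
  {ρ : Representation (ZMod 2) Y V}

/-- a non-cubic offender -/
theorem nc_data [Finite Y] {A : Subgroup Y} (hA : Off 2 ρ A) (h : ¬ Cub ρ A) :
    ∃ r, 4 ≤ r ∧ Nat.card A = 2 ^ r ∧ ∀ d ∈ A, cod ρ (zpowers d) + 3 ≤ 2 * r := by
  obtain ⟨r, -, h1, h2⟩ := hA.exists_card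
  refine ⟨r, ?_, h1, fun d hd => (cod_add_three_le_of_not_cub hA.1 h hd).trans h2⟩
  have := seven_le_cod hA.1 h
  omega

theorem le_cod_of_dimGe {x : Y} {n : ℕ} (h : H282.FF.DimGe.{0} x n) (hf : Function.Injective ρ) :
    n ≤ cod ρ (zpowers x) := by
  let _ : MulDistribMulAction Y (Multiplicative V) :=
    { smul := fun g m => Multiplicative.ofAdd (ρ g m.toAdd)
      one_smul := fun m => congrArg Multiplicative.ofAdd (rho_one ρ m.toAdd)
      mul_smul := fun a b m => congrArg Multiplicative.ofAdd (rho_mul ρ a b m.toAdd)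
      smul_mul := fun a m n => congrArg Multiplicative.ofAdd (map_add (ρ a) m.toAdd n.toAdd)
      smul_one := fun a => congrArg Multiplicative.ofAdd (map_zero (ρ a)) }
  have h1 := h (Multiplicative V) (fun m => by
    have : (2 : ZMod 2) • m.toAdd = 0 := by rw [show (2 : ZMod 2) = 0 from rfl, zero_smul]
    rw [two_smul] at this
    exact congrArg Multiplicative.ofAdd this) fun g hg => hf (by
      rw [map_one]
      exact LinearMap.ext fun v => congrArg Multiplicative.toAdd (hg (Multiplicative.ofAdd v)))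
  have h2 := (ClassTwoFusion.Quad.cv (Multiplicative V) ({x} : Set Y)).card_mul_index
  have h3 : Nat.card (ClassTwoFusion.Quad.cv (Multiplicative V) ({x} : Set Y)) = Nat.card (fx ρ (zpowers x)) :=
    Nat.card_congr ⟨fun m => ⟨m.1.toAdd, mem_fx_zpowers.2 (congrArg Multiplicative.toAdd (m.2 x rfl))⟩,
      fun v => ⟨Multiplicative.ofAdd v.1, fun a ha => by
        rw [Set.mem_singleton_iff.1 ha]
        exact congrArg Multiplicative.ofAdd (mem_fx_zpowers.1 v.2)⟩, fun _ => rfl, fun _ => rfl⟩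
  have h4 : Nat.card (Multiplicative V) = Nat.card V := rfl
  rw [h3, h4, natCard_eq_pow_finrank (K := ZMod 2), natCard_eq_pow_finrank (K := ZMod 2) (V := V), Nat.card_zmod,
    ← cod_add (ρ := ρ) (zpowers x), pow_add, mul_comm] at h2
  rw [Nat.eq_of_mul_eq_mul_right (Nat.two_pow_pos _) h2] at h1
  exact (Nat.pow_le_pow_iff_right (by norm_num)).1 h1

/-- two conjugate generators -/
theorem finrank_le_of_gen (hf : Function.Injective ρ) (hi : Irr ρ ⊤) {x g : Y} (hx : x ≠ 1)
    (h : Subgroup.closure {x, g * x * g⁻¹} = ⊤) : finrank (ZMod 2) V ≤ 2 * cod ρ (zpowers x) := by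
  have h1 : fx ρ ⊤ = ⊥ := hi.fx_eq_bot hf (by rw [normalizer_eq_top]) fun e => hx (by
    rw [← mem_bot, ← e]; exact mem_top x)
  rw [← cod_of_fx_eq_bot h1, ← h, ← Set.singleton_union, Subgroup.closure_union, ← zpowers_eq_closure,
    ← zpowers_eq_closure, two_mul]
  exact (cod_sup_le _ _).trans (by rw [cod_zpowers_conj])

omit [Finite V] in
theorem cod_isConj {s t : Y} (h : IsConj s t) : cod ρ (zpowers s) = cod ρ (zpowers t) := by
  obtain ⟨g, rfl⟩ := isConj_iff.1 h
  rw [cod_zpowers_conj]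

end

section

variable {A : Type} [Group A] [Finite A] (φ : A →* Co0)

omit [Finite A] in
theorem sum_two (g : A → ℤ) [Fintype A] {c : ℤ} {z : A} (hz : z ≠ 1) (h : ∀ a, a ≠ 1 → a ≠ z → g a = c) :
    ∑ a, g a = g 1 + g z + (Nat.card A - 2) * c := by
  classical
  rw [← Finset.add_sum_erase _ _ (Finset.mem_univ 1),
    ← Finset.add_sum_erase _ _ (Finset.mem_erase.2 ⟨hz, Finset.mem_univ z⟩),
    Finset.sum_congr rfl fun a ha => h a (Finset.mem_erase.1 (Finset.mem_erase.1 ha).2).1 (Finset.mem_erase.1 ha).1,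
    Finset.sum_const, nsmul_eq_mul, add_assoc]
  have h1 := Finset.card_erase_add_one (Finset.mem_univ (1 : A))
  have h2 := Finset.card_erase_add_one (Finset.mem_erase.2 ⟨hz, Finset.mem_univ z⟩)
  rw [Nat.card_eq_fintype_card, ← Finset.card_univ, ← h1, ← h2]
  push_cast
  ring

omit [Finite A] in
theorem sum_one (g : A → ℤ) [Fintype A] {c : ℤ} (h : ∀ a, a ≠ 1 → g a = c) :
    ∑ a, g a = g 1 + (Nat.card A - 1) * c := by
  classical
  rw [← Finset.add_sum_erase _ _ (Finset.mem_univ 1),
    Finset.sum_congr rfl fun a ha => h a (Finset.mem_erase.1 ha).1, Finset.sum_const, nsmul_eq_mul]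
  have h1 := Finset.card_erase_add_one (Finset.mem_univ (1 : A))
  rw [Nat.card_eq_fintype_card, ← Finset.card_univ, ← h1]
  push_cast
  ring

theorem le_of_pow_dvd {r n : ℕ} {c : ℤ} (h : ((2 ^ r : ℕ) : ℤ) ∣ c) (hc : ¬ 2 ^ (n + 1) ∣ c) : r ≤ n := by
  by_contra h1
  push_cast at h
  exact hc ((pow_dvd_pow 2 (by omega)).trans h)

/-- constant trace -/
theorem dvd_of_tr {τ : ℤ} (h : ∀ a, a ≠ 1 → tr8 (φ a) = 8 * τ) : (Nat.card A : ℤ) ∣ 24 - τ := by
  have := Fintype.ofFinite A
  obtain ⟨f, hf⟩ := H831.FF.exists_sum φ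
  rw [sum_one _ h, map_one, SigZeroCo2.Lin.tr8_one] at hf
  exact ⟨f - τ, by linarith⟩

/-- trace `± 8` -/
theorem dvd_of_sq (h : ∀ a, a ≠ 1 → tr8 (φ a) ^ 2 = 4096) : (Nat.card A : ℤ) ∣ 512 := by
  have := Fintype.ofFinite A
  obtain ⟨f, hf⟩ := H831.FF.exists_sum_sq φ
  rw [sum_one _ h, map_one, SigZeroCo2.Lin.tr8_one] at hf
  exact ⟨f - 64, by linarith⟩

theorem dvd_of_sq' {z : A} (hz : z ≠ 1) (h1 : tr8 (φ z) = -192) (h : ∀ a, a ≠ 1 → a ≠ z → tr8 (φ a) ^ 2 = 4096) :
    (Nat.card A : ℤ) ∣ 1024 := by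
  have := Fintype.ofFinite A
  obtain ⟨f, hf⟩ := H831.FF.exists_sum_sq φ
  rw [sum_two _ hz h, map_one, SigZeroCo2.Lin.tr8_one, h1] at hf
  exact ⟨f - 64, by linarith⟩

theorem tr_cases {t : Co0} (ht : t * t = 1) (h1 : t ≠ 1) :
    tr8 t = 8 * 8 ∨ tr8 t = 8 * 0 ∨ tr8 t = 8 * (-8) ∨ tr8 t = 8 * (-24) := by
  obtain ⟨g, c, hg⟩ := CoOneType.InvMain.conj_sign_of_sq_one t ht
  have h2 : tr8 t = 8 * (24 - 2 * (CoOneType.SignFacts.wt c : ℤ)) := by rw [← H950.FF.CoTr.tr8_sign, ← hg, tr8_conj]
  rcases CoOneType.SignFacts.wt_cases c with h | h | h | h | h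
  · rw [CoOneType.ClosingFacts.eq_zero_of_wt h, SporadicA.Co0Mono.signCo0_zero, mul_inv_eq_one, mul_eq_left] at hg
    exact absurd hg h1
  all_goals rw [h2, h]; norm_num

end

end Cfsg.Agent.TwoF.SpB
end

-- part: TwoF/SpB/Wd
section
/-!
# TwoF SP-B: words in explicit elements of `Co0` (helper24)
-/

set_option autoImplicit false

namespace Cfsg.Agent.TwoF.SpB.Wd

open Cfsg.Agent.SporadicA Cfsg.Agent.SporadicStructure.Co0Matrix Cfsg.Agent.CoOneType.CoEval
open Cfsg.Agent.LThreeCo1 Cfsg.Agent.LThreeCo1.Ev Cfsg.Agent.H861.Gen.CoEv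
open Cfsg.Agent.H388.CoMat (eL e8_vec)
open Cfsg.Agent.Co2Type.Mono (tr8)

section

variable {e : ℕ → Co0} {M : ℕ → List (List ℤ)}

/-- the value of a word -/
def W (e : ℕ → Co0) (w : List ℕ) : Co0 := (w.map e).prod

theorem W_append (u v : List ℕ) : W e (u ++ v) = W e u * W e v := by
  rw [W, List.map_append, List.prod_append]; rfl

theorem W_one (i : ℕ) : W e [i] = e i := mul_one _

theorem G_rev (w : List ℕ) : G e w.reverse = W e w := by
  induction w with
  | nil => rfl
  | cons i w ih =>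
    rw [List.reverse_cons, G_append, ih, show G e [i] = 1 * e i from rfl, one_mul]
    rfl

theorem W_flat (F : ℕ → List ℕ) (w : List ℕ) : W e (w.flatMap F) = (w.map fun j => W e (F j)).prod := by
  induction w with
  | nil => rfl
  | cons i w ih => rw [List.flatMap_cons, W_append, ih, List.map_cons, List.prod_cons]

/-- the code of a list -/
def cdL (l : List ℤ) : ℕ := Nat.ofDigits BB ((List.range 24).map fun i => (l.getD i 0 + HH).toNat)

theorem E_vec (l : List ℤ) : E (vec l) = cdL l := by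
  unfold E cdL dl
  exact congrArg _ (List.map_congr_left fun i hi => by rw [vec_apply, GolayBase.idx_pt (List.mem_range.1 hi)])

/-- small entries -/
def smB (l : List ℤ) : Bool := l.all fun x => Nat.blt x.natAbs 9

theorem sm_of_smB {l : List ℤ} (h : smB l = true) : Sm (vec l) := fun p => by
  rw [vec_apply]
  have h1 : (l.getD (GolayBase.idx p) 0).natAbs < 9 := by
    rcases lt_or_ge (GolayBase.idx p) l.length with h2 | h2
    · exact Nat.blt_eq.mp (List.all_eq_true.1 h _ (getD_mem_of_lt l 0 h2))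
    · rw [List.getD_eq_default _ _ h2]; decide
  rw [Int.abs_eq_natAbs]
  exact Int.ofNat_lt.2 (h1.trans (by decide +kernel))

/-- the word maps the first vector to the second -/
def mapB (M : ℕ → List (List ℤ)) (w : List ℕ) (l l' : List ℤ) : Bool :=
  smB l' && Nat.beq (run M w.reverse (cdL l)) (cdL l')

theorem map_of_mapB (hM : ∀ i, CoOneType.CoEval.Rep (e i) (M i)) {w : List ℕ} {l l' : List ℤ} (h : mapB M w l l' = true)
    {u : leechLattice} (hu : (u : GolayPt → ℤ) = vec l) (hs : SmO u) :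
    (((W e w).1 u : leechLattice) : GolayPt → ℤ) = vec l' := by
  rw [mapB, Bool.and_eq_true] at h
  have h1 := Nat.eq_of_beq_eq_true h.2
  rw [← E_vec, ← E_vec, ← hu, run_spec hM _ hs, G_rev] at h1
  exact E_inj (hs _) (sm_of_smB h.1) h1

/-- the matrix of a word -/
def repB (M : ℕ → List (List ℤ)) (w : List ℕ) (R : List (List ℤ)) : Bool :=
  Nat.beq R.length 24 && allTo (fun i => mapB M w (eL i) (R.map fun r => r.getD i 0)) 24

theorem rep_of_repB (hM : ∀ i, CoOneType.CoEval.Rep (e i) (M i)) {w : List ℕ} {R : List (List ℤ)} (h : repB M w R = true) :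
    CoOneType.CoEval.Rep (W e w) R := by
  rw [repB, Bool.and_eq_true] at h
  have hl := Nat.eq_of_beq_eq_true h.1
  refine H861.Gen.CoOne.rep_of_e8 hl fun i p => ?_
  rw [map_of_mapB hM ((allTo_iff _ _).1 h.2 _ (GolayBase.idx_lt i)) (u := Co0Basic.e8 i) (e8_vec i)
    (smO_of_norm (by rw [sqNorm_e8]; decide +kernel)), show row R p = vec (R.getD (GolayBase.idx p) []) from rfl,
    vec_apply, vec_apply,
    List.getD_eq_getElem _ _ (by rw [List.length_map, hl]; exact GolayBase.idx_lt p), List.getElem_map,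
    List.getD_eq_getElem R _ (by rw [hl]; exact GolayBase.idx_lt p)]

/-- equality of words -/
def eqP (M : ℕ → List (List ℤ)) (w w' : List ℕ) : Bool := Nat.beq (run M w.reverse Eb) (run M w'.reverse Eb)

theorem run_beta (hM : ∀ i, CoOneType.CoEval.Rep (e i) (M i)) (w : List ℕ) :
    run M w.reverse Eb = E (((W e w).1 CoOneType.CoEval.beta : leechLattice) : GolayPt → ℤ) := by
  have h := run_spec hM w.reverse smO_beta
  rwa [beta_coe, E_beta, G_rev] at h

theorem eq_of_eqP (hM : ∀ i, CoOneType.CoEval.Rep (e i) (M i)) {w w' : List ℕ} (h : eqP M w w' = true) : W e w = W e w' := by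
  have h1 := Nat.eq_of_beq_eq_true h
  rw [run_beta hM, run_beta hM] at h1
  exact eq_of_fix (Subtype.ext (E_inj (smO_beta _) (smO_beta _) h1))

/-- a power of the word is trivial -/
def powP (M : ℕ → List (List ℤ)) (w : List ℕ) (n : ℕ) : Bool := Nat.beq (H861.Gen.CoEv.itr M w.reverse n Eb) Eb

theorem pow_iff (hM : ∀ i, CoOneType.CoEval.Rep (e i) (M i)) (w : List ℕ) (n : ℕ) : powP M w n = true ↔ W e w ^ n = 1 := by
  rw [powP, Nat.beq_eq, itr_beta hM, G_rev, ← E_beta]
  exact ⟨fun h => eq_one_of_fix (Subtype.ext (E_inj (smO_beta _) (smO_beta 1) h)), fun h => by rw [h]; rfl⟩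

/-- the word has prime order -/
theorem ord_of (hM : ∀ i, CoOneType.CoEval.Rep (e i) (M i)) {w : List ℕ} {p : ℕ} (hp : p.Prime)
    (h : (powP M w p && !powP M w 1) = true) : orderOf (W e w) = p := by
  have : Fact p.Prime := ⟨hp⟩
  rw [Bool.and_eq_true, Bool.not_eq_true', ← Bool.not_eq_true, pow_iff hM, pow_iff hM, pow_one] at h
  exact orderOf_eq_prime h.1 h.2

/-- the relations of a normalising element -/
def rlB (M : ℕ → List (List ℤ)) (F : ℕ → List ℕ) (m : ℕ) (hw : List ℕ) (ws : List (List ℕ)) : Bool :=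
  allTo (fun j => (ws.getD j []).all (fun i => Nat.blt i m) && eqP M (F j ++ hw) (hw ++ (ws.getD j []).flatMap F)) m

theorem rl_of_rlB (hM : ∀ i, CoOneType.CoEval.Rep (e i) (M i)) {F : ℕ → List ℕ} {m : ℕ} {hw : List ℕ} {ws : List (List ℕ)}
    (h : rlB M F m hw ws = true) : Rl (fun j => W e (F j)) m (W e hw) ws := fun j hj => by
  have h1 := (allTo_iff _ _).1 h j hj
  rw [Bool.and_eq_true] at h1
  refine ⟨fun i hi => Nat.blt_eq.mp (List.all_eq_true.1 h1.1 i hi), ?_⟩
  have h2 := eq_of_eqP hM h1.2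
  rwa [W_append, W_append, W_flat] at h2

/-- commuting elements of order three -/
def comB (M : ℕ → List (List ℤ)) (F : ℕ → List ℕ) (m : ℕ) : Bool :=
  allTo (fun i => powP M (F i) 3 && allTo (fun j => eqP M (F i ++ F j) (F j ++ F i)) i) m

theorem com_of_comB (hM : ∀ i, CoOneType.CoEval.Rep (e i) (M i)) {F : ℕ → List ℕ} {m : ℕ} (h : comB M F m = true) :
    (∀ i < m, ∀ j < m, W e (F i) * W e (F j) = W e (F j) * W e (F i)) ∧ ∀ i < m, W e (F i) ^ 3 = 1 := by
  have h1 : ∀ i < m, W e (F i) ^ 3 = 1 ∧ ∀ j < i, W e (F i) * W e (F j) = W e (F j) * W e (F i) := fun i hi => by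
    have h2 := (allTo_iff _ _).1 h i hi
    rw [Bool.and_eq_true] at h2
    refine ⟨(pow_iff hM _ _).1 h2.1, fun j hj => ?_⟩
    have h3 := eq_of_eqP hM ((allTo_iff _ _).1 h2.2 j hj)
    rwa [W_append, W_append] at h3
  refine ⟨fun i hi j hj => ?_, fun i hi => (h1 i hi).1⟩
  rcases lt_trichotomy i j with h2 | rfl | h2
  · exact ((h1 j hj).2 i h2).symm
  · rfl
  · exact (h1 i hi).2 j h2

/-- the trace -/
def trR (R : List (List ℤ)) : ℤ := ((List.range 24).map fun i => (R.getD i []).getD i 0).sum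

theorem tr8_eq {g : Co0} {R : List (List ℤ)} (h : CoOneType.CoEval.Rep g R) : tr8 g = trR R := by
  rw [H950.FF.CoTr.tr8_rep h]
  exact Multiset.sum_coe _

end

/-- the matrices of the letters -/
def M (i : ℕ) : List (List ℤ) := cond (Nat.blt i 50) (RelQ.M i) (tr (RelQ.M (i - 50)))

/-- the letters -/
noncomputable def e (i : ℕ) : Co0 := cond (Nat.blt i 50) (RelQ.e i) (RelQ.e (i - 50))⁻¹

theorem hM (i : ℕ) : CoOneType.CoEval.Rep (e i) (M i) := by
  unfold e M
  cases Nat.blt i 50
  · exact rep_inv (RelQ.okM _)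
  · exact RelQ.rep i

/-- transport of the relations -/
theorem rl_map {G H : Type} [Group G] [Group H] (π : G →* H) {f : ℕ → G} {m : ℕ} {h : G} {ws : List (List ℕ)}
    (H1 : Rl f m h ws) : Rl (fun j => π (f j)) m (π h) ws := fun j hj => ⟨(H1 j hj).1, by
  have := congrArg π (H1 j hj).2
  rwa [map_mul, map_mul, map_list_prod, List.map_map] at this⟩

theorem rl_of_map {G H : Type} [Group G] [Group H] (π : G →* H) (hπ : Function.Injective π) {f : ℕ → G} {m : ℕ}
    {h : G} {ws : List (List ℕ)} (H1 : Rl (fun j => π (f j)) m (π h) ws) : Rl f m h ws := fun j hj =>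
  ⟨(H1 j hj).1, hπ (by rw [map_mul, map_mul, map_list_prod, List.map_map]; exact (H1 j hj).2)⟩

end Cfsg.Agent.TwoF.SpB.Wd
end

section
set_option autoImplicit false
namespace Cfsg.Agent.CoEvF63
open Cfsg.Agent.H861.Gen.CoEv

/-! ### a faster evaluation -/

private noncomputable def cT : ℕ := Nat.shiftLeft (nat_lit 1) (nat_lit 3843)
private noncomputable def cM : ℕ := Nat.pred (Nat.shiftLeft (nat_lit 1) (nat_lit 160))
private noncomputable def cU : ℕ := Nat.pred cT
private noncomputable def cH : ℕ := Nat.sub cT (Nat.shiftLeft (nat_lit 1) (nat_lit 159))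
private noncomputable def cK : ℕ :=
  Nat.rec (motive := fun _ => ℕ) 0 (fun _ r => Nat.add (Nat.shiftLeft (nat_lit 1) (nat_lit 162)) (Nat.shiftLeft r (nat_lit 160))) 24
private noncomputable def en (z : ℤ) : ℕ :=
  Int.rec (motive := fun _ => ℕ) (fun n => n) (fun n => Nat.sub cU (Nat.mod n cT)) z
private noncomputable def zw (cs : List ℕ) : List ℤ → List ℕ :=
  List.rec (motive := fun _ => List ℤ → List ℕ) (fun _ => []) (fun c _ ih r =>
    List.rec (motive := fun _ => List ℕ) (Nat.shiftLeft c (nat_lit 160) :: ih [])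
      (fun z t _ => Nat.add (en z) (Nat.shiftLeft c (nat_lit 160)) :: ih t) r) cs
private noncomputable def colA (R : List (List ℤ)) : List ℕ :=
  List.rec (motive := fun _ => List ℕ) (List.replicate 24 0) (fun r _ cs => zw cs r) R
private noncomputable def red (cs : List ℕ) : List ℕ :=
  List.rec (motive := fun _ => List ℕ) [] (fun c _ r => Nat.land c cU :: r) cs
private noncomputable def col (R : List (List ℤ)) : List ℕ := red (colA R)
private noncomputable def sm (cs : List ℕ) : ℕ := List.rec (motive := fun _ => ℕ) 0 (fun c _ r => Nat.add c r) cs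
private noncomputable def kk (R : List (List ℤ)) : ℕ := Nat.land (Nat.add cK (Nat.mul cH (sm (col R)))) cU
private noncomputable def lp (cs : List ℕ) : ℕ → ℕ → ℕ :=
  List.rec (motive := fun _ => ℕ → ℕ → ℕ) (fun a _ => a)
    (fun c _ ih a r => ih (Nat.add a (Nat.mul (Nat.land r cM) c)) (Nat.shiftRight r (nat_lit 160))) cs
private noncomputable def stp (R : List (List ℤ)) (X : ℕ) : ℕ :=
  Nat.shiftRight (Nat.land (lp (col R) (kk R) X) cU) (nat_lit 3)
private noncomputable def sal (v : ℕ) : ℕ :=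
  Nat.add (Nat.shiftLeft v (nat_lit 64)) (Nat.mod v (nat_lit 18446744073709551557))
private noncomputable def goF (M : ℕ → List (List ℤ)) (t : List ℕ) : ℕ → ℕ :=
  List.rec (motive := fun _ => ℕ → ℕ) (fun P => Nat.shiftRight P (nat_lit 64)) (fun i _ ih P =>
    Nat.rec (motive := fun _ => ℕ) 0 (fun n _ => ih (Nat.succ n)) (sal (stp (M i) (Nat.shiftRight P (nat_lit 64))))) t
private noncomputable def runF (M : ℕ → List (List ℤ)) (t : List ℕ) (X : ℕ) : ℕ := goF M t (sal X)
private noncomputable def itrF (M : ℕ → List (List ℤ)) (w : List ℕ) (n : ℕ) : ℕ → ℕ :=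
  Nat.rec (motive := fun _ => ℕ → ℕ) (fun X => X) (fun _ ih X =>
    Nat.rec (motive := fun _ => ℕ) 0 (fun k _ => ih (Nat.succ k)) (runF M w X)) n

private theorem cT_eq : cT = TT := by decide +kernel
private theorem land_pow (r n a b : ℕ) (ha : a = Nat.pow 2 n - 1) (hb : b = Nat.pow 2 n) : Nat.land r a = r % b := by
  rw [ha, hb]
  exact Nat.and_two_pow_sub_one_eq_mod r n
private theorem land_cU (r : ℕ) : Nat.land r cU = r % TT :=
  land_pow r 3843 _ _ (by decide +kernel) (by decide +kernel)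
private theorem land_cM (r : ℕ) : Nat.land r cM = r % BB :=
  (congrArg (Nat.land r) (by decide +kernel : cM = 2 ^ 160 - 1)).trans (Nat.and_two_pow_sub_one_eq_mod r 160)
private theorem shl (c : ℕ) : ((Nat.shiftLeft c (nat_lit 160) : ℕ) : ℤ) = BB * c :=
  (congrArg Nat.cast ((Nat.shiftLeft_eq c 160).trans (Nat.mul_comm c BB))).trans (Nat.cast_mul _ _)
private theorem TT_pos : 0 < TT := by decide +kernel

private theorem lp_eq : ∀ (cs : List ℕ) (a r : ℕ), lp cs a r = go cs r a
  | [], _, _ => rfl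
  | c :: cs, a, r => (lp_eq cs (a + Nat.land r cM * c) (r >>> 160)).trans (by
      rw [land_cM, Nat.shiftRight_eq_div_pow]
      rfl)

private theorem en_mod (z : ℤ) : (en z : ℤ) ≡ z [ZMOD TT] := by
  cases z with
  | ofNat n => exact Int.ModEq.refl _
  | negSucc n =>
    have h0 := Nat.mod_lt n TT_pos
    have h1 : n % TT ≤ TT - 1 := Nat.le_sub_one_of_lt h0
    show ((cT - 1 - n % cT : ℕ) : ℤ) ≡ _ [ZMOD TT]
    rw [cT_eq, Nat.cast_sub h1, Nat.cast_sub TT_pos, Int.negSucc_eq, Int.natCast_mod]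
    refine Int.modEq_iff_dvd.2 ⟨-1 - n / TT, ?_⟩
    rw [Int.emod_def]
    push_cast
    ring

private theorem zw_spec : ∀ (cs : List ℕ) (r : List ℤ), (zw cs r).length = cs.length ∧
    ∀ j, j < cs.length → (((zw cs r).getD j 0 : ℕ) : ℤ) ≡ r.getD j 0 + BB * (cs.getD j 0 : ℕ) [ZMOD TT]
  | [], _ => ⟨rfl, fun _ h => absurd h (Nat.not_lt_zero _)⟩
  | c :: cs, [] => ⟨congrArg Nat.succ (zw_spec cs []).1, fun j h => by
      cases j with
      | zero =>
        show ((Nat.shiftLeft c (nat_lit 160) : ℕ) : ℤ) ≡ 0 + BB * c [ZMOD TT]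
        rw [shl, zero_add]
      | succ j => exact (zw_spec cs []).2 j (Nat.lt_of_succ_lt_succ h)⟩
  | c :: cs, z :: t => ⟨congrArg Nat.succ (zw_spec cs t).1, fun j h => by
      cases j with
      | zero =>
        show ((en z + Nat.shiftLeft c (nat_lit 160) : ℕ) : ℤ) ≡ z + BB * c [ZMOD TT]
        rw [Nat.cast_add, shl]
        exact (en_mod z).add_right _
      | succ j => exact (zw_spec cs t).2 j (Nat.lt_of_succ_lt_succ h)⟩

private theorem colA_spec : ∀ R : List (List ℤ), (colA R).length = 24 ∧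
    ∀ j, j < 24 → (((colA R).getD j 0 : ℕ) : ℤ) ≡ colZ R j [ZMOD TT]
  | [] => ⟨rfl, fun j h => by
      show (((List.replicate 24 0).getD j 0 : ℕ) : ℤ) ≡ 0 [ZMOD TT]
      rw [List.getD_eq_getElem _ _ (by rwa [List.length_replicate]), List.getElem_replicate]
      rfl⟩
  | r :: R => ⟨(zw_spec (colA R) r).1.trans (colA_spec R).1, fun j h =>
      ((zw_spec (colA R) r).2 j ((colA_spec R).1.symm ▸ h)).trans ((((colA_spec R).2 j h).mul_left _).add_left _)⟩

private theorem red_eq : ∀ cs : List ℕ, red cs = cs.map (· % TT)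
  | [] => rfl
  | c :: cs => congrArg₂ List.cons (land_cU c) (red_eq cs)

private theorem toNat_mod {a : ℕ} {z : ℤ} (h : (a : ℤ) ≡ z [ZMOD TT]) : a % TT = (z % TT).toNat := by
  rw [← show (a : ℤ) % TT = z % TT from h, ← Int.natCast_mod, Int.toNat_natCast]

private theorem col_eq (R : List (List ℤ)) : col R = colsN R := by
  refine (red_eq _).trans (List.ext_getElem ?_ fun j h1 h2 => ?_)
  · rw [List.length_map, (colA_spec R).1]
    rfl
  · rw [List.length_map] at h1
    rw [List.getElem_map, ← List.getD_eq_getElem _ 0 h1]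
    rw [(colA_spec R).1] at h1
    refine (toNat_mod ((colA_spec R).2 j h1)).trans ?_
    exact ((List.getElem_map (fun j => (colZ R j % TT).toNat) (l := List.range 24) (h := h2)).trans
      (congrArg (fun j => (colZ R j % TT).toNat) (List.getElem_range _))).symm

private theorem sm_mod (f : ℕ → ℤ) : ∀ l : List ℕ,
    ((sm (l.map fun j => (f j % TT).toNat) : ℕ) : ℤ) ≡ (l.map f).sum [ZMOD TT]
  | [] => Int.ModEq.refl _
  | j :: l => by
    show (((f j % TT).toNat + sm (l.map fun j => (f j % TT).toNat) : ℕ) : ℤ) ≡ _ [ZMOD TT]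
    rw [Nat.cast_add, List.map_cons, List.sum_cons,
      Int.toNat_of_nonneg (Int.emod_nonneg _ (Int.natCast_ne_zero.2 TT_pos.ne'))]
    exact (Int.mod_modEq _ _).add (sm_mod f l)

private theorem kk_eq (R : List (List ℤ)) : kk R = (kZ R % TT).toNat := by
  refine (land_cU _).trans (toNat_mod ?_)
  show ((cK + cH * sm (col R) : ℕ) : ℤ) ≡ _ - _ [ZMOD TT]
  rw [col_eq, Nat.cast_add, Nat.cast_mul, sub_eq_add_neg, ← neg_mul]
  exact Int.ModEq.add (by decide +kernel) (Int.ModEq.mul (by decide +kernel) (sm_mod _ _))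

private theorem stp_eq (R : List (List ℤ)) (X : ℕ) : stp R X = step R X := by
  show Nat.land (lp (col R) (kk R) X) cU >>> 3 = _
  rw [land_cU, lp_eq, col_eq, kk_eq, Nat.shiftRight_eq_div_pow]
  rfl

private theorem sal_shr (v : ℕ) : Nat.shiftRight (sal v) (nat_lit 64) = v := by
  show (v <<< 64 + v % 18446744073709551557) >>> 64 = v
  rw [Nat.shiftRight_eq_div_pow, Nat.shiftLeft_eq]
  omega

private theorem runF_eq (M : ℕ → List (List ℤ)) : ∀ (t : List ℕ) (X : ℕ), run M t X = runF M t X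
  | [], X => (sal_shr X).symm
  | i :: t, X => by
    show run M (i :: t) X = Nat.rec (motive := fun _ => ℕ) 0 (fun n _ => goF M t (Nat.succ n))
      (sal (stp (M i) (Nat.shiftRight (sal X) (nat_lit 64))))
    rw [sal_shr, stp_eq]
    have h : ∀ y, step (M i) X = y → run M (i :: t) X = Nat.rec (motive := fun _ => ℕ) 0 (fun n _ => run M t (n + 1)) y :=
      fun y hy => by
        subst hy
        show (match step (M i) X with | 0 => 0 | n + 1 => run M t (n + 1)) = _
        cases step (M i) X <;> rfl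
    rw [h _ rfl]
    cases step (M i) X with
    | zero => rfl
    | succ n =>
      have h1 := sal_shr (n + 1)
      refine (runF_eq M t (n + 1)).trans ?_
      show goF M t (sal (n + 1)) = _
      revert h1
      cases sal (n + 1) with
      | zero => exact fun h1 => absurd h1 (Nat.succ_ne_zero n).symm
      | succ k => exact fun _ => rfl

private theorem run_F : run = runF := funext fun M => funext fun t => funext (runF_eq M t)

private theorem itrF_eq (M : ℕ → List (List ℤ)) (w : List ℕ) : ∀ n X : ℕ, H861.Gen.CoEv.itr M w n X = itrF M w n X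
  | 0, _ => rfl
  | n + 1, X => by
    show (match run M w X with | 0 => 0 | k + 1 => H861.Gen.CoEv.itr M w n (k + 1)) =
      Nat.rec (motive := fun _ => ℕ) 0 (fun k _ => itrF M w n (Nat.succ k)) (runF M w X)
    rw [runF_eq]
    cases runF M w X with
    | zero => rfl
    | succ k => exact itrF_eq M w n (k + 1)

private theorem itr_F : H861.Gen.CoEv.itr = itrF := funext fun M => funext fun w => funext fun n => funext (itrF_eq M w n)

end Cfsg.Agent.CoEvF63
end

section
set_option autoImplicit false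
namespace Cfsg.Agent.TwoF.SpB.Wd
open Cfsg.Agent.CoEvF63 Cfsg.Agent.H861.Gen.CoEv

private theorem powP_F : powP = fun M w n => Nat.beq (itrF M w.reverse n Eb) Eb := by
  delta powP; rewrite [itr_F]; rfl
private theorem eqP_F : eqP = fun M w w' => Nat.beq (runF M w.reverse Eb) (runF M w'.reverse Eb) := by
  delta eqP; rewrite [run_F]; rfl
private theorem relP_F : relP = fun M w n => Nat.beq (itrF M w n Eb) Eb || Nat.beq (itrF M w n Eb) En := by
  delta relP; rewrite [itr_F]; rfl
private theorem neP_F : neP = fun M w n => !(Nat.beq (itrF M w n Eb) Eb) && !(Nat.beq (itrF M w n Eb) En) := by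
  delta neP; rewrite [itr_F]; rfl

private noncomputable def cdA (n : ℕ) : List ℤ → ℕ :=
  Nat.rec (motive := fun _ => List ℤ → ℕ) (fun _ => 0) (fun _ ih l => List.rec (motive := fun _ => ℕ)
    (Nat.add HH (Nat.mul BB (ih []))) (fun z t _ => Nat.add (Int.toNat (Int.add z (Int.ofNat HH))) (Nat.mul BB (ih t))) l) n

private theorem cdA_eq : ∀ (n : ℕ) (l : List ℤ),
    Nat.ofDigits BB ((List.range n).map fun i => (l.getD i 0 + HH).toNat) = cdA n l
  | 0, _ => rfl
  | n + 1, l => by
    rw [List.range_succ_eq_map, List.map_cons, List.map_map, Nat.ofDigits_cons]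
    cases l with
    | nil => exact congrArg₂ Nat.add (by decide +kernel) (congrArg (Nat.mul BB) (cdA_eq n []))
    | cons z t => exact congrArg (Nat.add _) (congrArg (Nat.mul BB) (cdA_eq n t))

private theorem mapB_F : mapB = fun M w l l' => smB l' && Nat.beq (runF M w.reverse (cdA 24 l)) (cdA 24 l') := by
  delta mapB cdL; rewrite [run_F]
  exact funext fun M => funext fun w => funext fun l => funext fun l' => by rw [cdA_eq, cdA_eq]

end Cfsg.Agent.TwoF.SpB.Wd
end

section
set_option autoImplicit false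
namespace Cfsg.Agent.TwoF.SpB

private noncomputable def ipF (l u : ℕ) (w : List ℕ) : ℕ :=
  List.rec (motive := fun _ => ℕ) 0 (fun i _ r => Nat.add (Nat.mod (Nat.div u (Nat.pow l i)) l) r) w
private noncomputable def twsF (l m : ℕ) (ws : List (List ℕ)) (u : ℕ) : ℕ :=
  Nat.rec (motive := fun _ => ℕ) 0 (fun j r => Nat.add r (Nat.mul (Nat.pow l j) (Nat.mod (ipF l u (ws.getD j [])) l))) m

private theorem ipF_eq (l u : ℕ) : ∀ w, ip l u w = ipF l u w
  | [] => rfl
  | _ :: w => congrArg (Nat.add _) (ipF_eq l u w)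

private theorem tws_F : tws = twsF := funext fun l => funext fun m => funext fun ws => funext fun u => by
  show pk l (fun j => ip l u (ws.getD j [])) m = _
  induction m with
  | zero => rfl
  | succ j ih => exact congrArg₂ Nat.add ih (congrArg (fun x => l ^ j * (x % l)) (ipF_eq l u _))

end Cfsg.Agent.TwoF.SpB
end

-- part: TwoF/SpB/C2Wt
section
/-!
# TwoF SP-B: the weights of `3 ^ 4` in `Co2`, kernel checks (helper24)
-/

set_option autoImplicit false
set_option Elab.async false
set_option maxRecDepth 100000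

namespace Cfsg.Agent.TwoF.SpB.C2W

open Wd Cfsg.Agent.LThreeCo1.Ev Cfsg.Agent.SporadicStructure.Co0Matrix

/-- a minimal vector -/
def U : List ℤ := [-2, -2, 0, -2, 0, 0, 0, 0, 0, 0, 0, 2, 2, 2, 0, 0, 2, -2, 0, 0, 0, 0, 0, 0]

/-- the generators of `3 ^ 4` -/
def F : ℕ → List ℕ
  | 0 => [5]
  | 1 => [6]
  | 2 => [1, 3]
  | _ => [1, 4]

/-- the action of an involution of trace 8 -/
def w1 : List (List ℕ) := [[0, 1, 2, 3, 3], [1, 1], [1, 2], [1, 2, 2, 3, 3]]
/-- the action of an element of order 8 -/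
def w2 : List (List ℕ) := [[0, 0, 1, 2, 3], [1, 2], [0, 1, 1, 3, 3], [0, 0, 3, 3]]
/-- inversion -/
def w3 : List (List ℕ) := [[0, 0], [1, 1], [2, 2], [3, 3]]
/-- the generators of the orbits -/
def Ws : List (List (List ℕ) × ℕ) := [(w1, 1), (w2, 7)]
/-- the orbit of length 20 -/
def v1 : ℕ := 165285222824583819833416
/-- the orbit of length 60 -/
def v2 : ℕ := 2252566416404674529578934
/-- a conjugate of the letter 5 -/
def nY : ℕ := 475825461926244250248227387048716434174326102841144702383421352419550577446542734323207616972500021427978194185398348958122669784639336326740082429442397699417264425574809687634600648105883131163943516655786490083716478601276913012382902970574479939951730062115134336072952055779072157635955089834466383681040626487478065866873918557152496575050743212990256945073921216193676137136125712017444249520473221658126728688349536753501753138147133433392543646999766557247226062520916621324392658163488665917670191097793193806377035467028011943188702354035704277082901730824651344224793298187299500089379572356855938501622790811642848507906804870124526427483076825103965507195585266650188456252276995412788638597318223670323035248768280767471821074570494526260520252648084396296013808701554513969041094014782006999497494633042736528562337060483898695145562085110888373242452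
/-- an element of order 5 and trace -1 -/
def nA : ℕ := 418036670922359449730366014386521602628783969035387347757343238117529749922563969242839160075978995840430695944354183901128214780313928769179371040644913951672340036028915388139684471062560320783890227432470399031100393692942321730722419392220624671061070209507892118191379124891507201897890502585711019250199961769054860479591218449467200611018687015991944333608695013044087063976004827331325147037307994434618149408881776881099435730963555179816512883541821115828735962305713573038482600788345291727705913310245301792977782152808766179184570026191693215980852191588673081694308261331696524031995604060984127473107112408030527815419025784782497144280170721281004763359676439232287724562489051820868840304756232161941041480732473190609273235747015517290254015740262511950337814134444728358544217910520862556072525620953054513292677231807947334101004172843746104850960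
/-- an element of order 5 and trace 4 -/
def nB : ℕ := 505677532304476780120514559748730682298447986830497575268712246775362869248221403894312422257161670701709760240768487612214334307178736244678627147772132407098506438846456637857894089726964686448933509034849814184479879637415687255077154374271866880931533962912248976475984078190516304009955040010370524599325674845561740579541251004641797481989852773806132394147496152899046795473444156704265870562828039225638464525887842913419641524677385779702338352708176740866385583334436617875708507905159706452396423335624638461612002812405589554142282391106786756337621015498526679545900921772791261032850438118866025148831636961087007124786747628421132963910889119413453826069111758334336454484037540086134046514758427736374656826655168171826406151821493119665280487225677598662409196528072592155637939866093776856192548271412354108952039423605854669114427141990981521950321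
/-- the two generators -/
def M2 (i : ℕ) : List (List ℤ) := cond (Nat.beq i 0) (M 5) (dec nY)

theorem kU : leechB U = true ∧ dotL U U = 32 := by decide +kernel
theorem kX : [[5], [6], [1, 3], [1, 4], [31, 59], [59, 8, 7, 11], [10], [59, 80, 10, 25]].all
    (fun w => mapB M w U U) = true := by
  rewrite [mapB_F]
  decide +kernel
theorem kF : comB M F 4 = true := by
  delta comB; rewrite [powP_F, eqP_F]
  decide +kernel
theorem k1 : rlB M F 4 [31, 59] w1 = true := by
  delta rlB; rewrite [eqP_F]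
  decide +kernel
theorem k2 : rlB M F 4 [59, 8, 7, 11] w2 = true := by
  delta rlB; rewrite [eqP_F]
  decide +kernel
theorem k3 : rlB M F 4 [10] w3 = true := by
  delta rlB; rewrite [eqP_F]
  decide +kernel
theorem kO : chkO 3 4 Ws = true := by
  delta chkO; rewrite [tws_F]
  decide +kernel
theorem kV1 : chkV 3 4 Ws 3 v1 = true := by decide +kernel
theorem kV2 : chkV 3 4 Ws 1 v2 = true := by decide +kernel

/-- the counts -/
def cls (p : ℕ → Bool) : List ℕ := [cl v1 v2 0 p (3 ^ 4) 0, cl v1 v2 0 p (3 ^ 4) 1, cl v1 v2 0 p (3 ^ 4) 2,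
  cl v1 v2 0 p (3 ^ 4) 3]

theorem kx : cls (fun u => !Nat.beq (ip 3 u [0] % 3) 0) = [0, 12, 42, 0] := by decide +kernel
theorem kD1 : cls (fun u => Nat.blt u (tws 3 4 w1 u)) = [0, 8, 28, 0] := by decide +kernel
theorem kD3 : cls (fun u => Nat.blt u (tws 3 4 w3 u)) = [0, 10, 30, 0] := by decide +kernel
theorem kI1 : allTo (fun u => Nat.beq (tws 3 4 w1 (tws 3 4 w1 u)) u) (3 ^ 4) = true := by decide +kernel
theorem kI3 : allTo (fun u => Nat.beq (tws 3 4 w3 (tws 3 4 w3 u)) u) (3 ^ 4) = true := by decide +kernel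
theorem kA : (powP M [31, 59] 2 && powP M [10] 2 && powP M [59, 80, 10, 25, 75, 10, 30, 9] 1 && !powP M [5] 1) =
    true := by
  rewrite [powP_F]
  decide +kernel
private noncomputable def _root_.Cfsg.Agent.LsF.f7c8ea3_31 : {f // @Int.subNatNat = f} := ⟨_, by first | (delta Int.subNatNat; rewrite [Cfsg.Agent.LsF.nsub_pat]; (try delta Int.negOfNat.match_1); (try delta Nat.casesOn); exact rfl) | exact rfl⟩
private noncomputable def _root_.Cfsg.Agent.LsF.f7c8ea3_32 : {f // @Cfsg.Agent.LThreeCo1.Ev.decRow = f} := ⟨_, by first | (delta Cfsg.Agent.LThreeCo1.Ev.decRow Nat.brecOn.go Nat.brecOn Cfsg.Agent.LThreeCo1.Ev.decRow._f; rewrite [Cfsg.Agent.LsF.f7c8ea3_31.2, Cfsg.Agent.LsF.ndiv_pat, Cfsg.Agent.LsF.nmod_pat]; (try delta Cfsg.Agent.LThreeCo1.Ev.decRow.match_1); (try delta Nat.casesOn); first | dsimp -zeta only | exact rfl) | exact rfl⟩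
private noncomputable def _root_.Cfsg.Agent.LsF.f7c8ea3_33 : {f // @Cfsg.Agent.LThreeCo1.Ev.decRows = f} := ⟨_, by first | (delta Cfsg.Agent.LThreeCo1.Ev.decRows Nat.brecOn.go Cfsg.Agent.LThreeCo1.Ev.decRows._f Nat.brecOn; rewrite [Cfsg.Agent.LsF.f7c8ea3_32.2, Cfsg.Agent.LsF.ndiv_pat, Cfsg.Agent.LsF.nmod_pat, Cfsg.Agent.LsF.npow_pat]; (try delta Cfsg.Agent.LThreeCo1.Ev.decRow.match_1); (try delta Nat.casesOn); first | dsimp -zeta only | exact rfl) | exact rfl⟩
private noncomputable def _root_.Cfsg.Agent.LsF.f7c8ea3_34 : {f // @Cfsg.Agent.LThreeCo1.Ev.dec = f} := ⟨_, by first | (delta Cfsg.Agent.LThreeCo1.Ev.dec; rewrite [Cfsg.Agent.LsF.f7c8ea3_33.2]; exact rfl) | exact rfl⟩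
private noncomputable def _root_.Cfsg.Agent.LsF.f7c8ea3_35 : {f // @Cfsg.Agent.TwoF.SpB.allTo = f} := ⟨_, by first | (delta Cfsg.Agent.TwoF.SpB.allTo Nat.brecOn.go Nat.brecOn Cfsg.Agent.TwoF.SpB.allTo._f; rewrite [Cfsg.Agent.LsF.and_eq]; (try delta Cfsg.Agent.TwoF.SpB.allTo.match_1); (try delta Nat.casesOn); first | dsimp -zeta only | exact rfl) | exact rfl⟩
private noncomputable def _root_.Cfsg.Agent.LsF.f7c8ea3_5 : {f // @Cfsg.Agent.TwoF.SpB.Wd.smB = f} := ⟨_, by first | (delta Cfsg.Agent.TwoF.SpB.Wd.smB; rewrite [Cfsg.Agent.LsF.all_eq, Cfsg.Agent.LsF.natAbs_eq]; exact rfl) | exact rfl⟩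
private noncomputable def _root_.Cfsg.Agent.LsF.f7c8ea3_6 : {f // @Nat.pred = f} := ⟨_, by first | (delta Nat.pred; (try delta Nat.pow.match_1); (try delta Nat.casesOn); exact rfl) | exact rfl⟩
private noncomputable def _root_.Cfsg.Agent.LsF.f7c8ea3_7 : {f // @Cfsg.Agent.CoEvF63.cM = f} := ⟨_, by first | (delta Cfsg.Agent.CoEvF63.cM; rewrite [Cfsg.Agent.LsF.f7c8ea3_6.2]; exact rfl) | exact rfl⟩
private noncomputable def _root_.Cfsg.Agent.LsF.f7c8ea3_8 : {f // @Cfsg.Agent.CoEvF63.lp = f} := ⟨_, by first | (delta Cfsg.Agent.CoEvF63.lp; rewrite [Cfsg.Agent.LsF.f7c8ea3_7.2]; exact rfl) | exact rfl⟩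
private noncomputable def _root_.Cfsg.Agent.LsF.f7c8ea3_9 : {f // @Cfsg.Agent.CoEvF63.cU = f} := ⟨_, by first | (delta Cfsg.Agent.CoEvF63.cU; rewrite [Cfsg.Agent.LsF.f7c8ea3_6.2]; exact rfl) | exact rfl⟩
private noncomputable def _root_.Cfsg.Agent.LsF.f7c8ea3_10 : {f // @Cfsg.Agent.CoEvF63.red = f} := ⟨_, by first | (delta Cfsg.Agent.CoEvF63.red; rewrite [Cfsg.Agent.LsF.f7c8ea3_9.2]; exact rfl) | exact rfl⟩
private noncomputable def _root_.Cfsg.Agent.LsF.f7c8ea3_11 : {f // @Cfsg.Agent.CoEvF63.en = f} := ⟨_, by first | (delta Cfsg.Agent.CoEvF63.en; rewrite [Cfsg.Agent.LsF.f7c8ea3_9.2]; exact rfl) | exact rfl⟩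
private noncomputable def _root_.Cfsg.Agent.LsF.f7c8ea3_12 : {f // @Cfsg.Agent.CoEvF63.zw = f} := ⟨_, by first | (delta Cfsg.Agent.CoEvF63.zw; rewrite [Cfsg.Agent.LsF.f7c8ea3_11.2]; exact rfl) | exact rfl⟩
private noncomputable def _root_.Cfsg.Agent.LsF.f7c8ea3_13 : {f // @Cfsg.Agent.CoEvF63.colA = f} := ⟨_, by first | (delta Cfsg.Agent.CoEvF63.colA; rewrite [Cfsg.Agent.LsF.f7c8ea3_12.2, Cfsg.Agent.LsF.replicate_eq]; exact rfl) | exact rfl⟩
private noncomputable def _root_.Cfsg.Agent.LsF.f7c8ea3_14 : {f // @Cfsg.Agent.CoEvF63.col = f} := ⟨_, by first | (delta Cfsg.Agent.CoEvF63.col; rewrite [Cfsg.Agent.LsF.f7c8ea3_10.2, Cfsg.Agent.LsF.f7c8ea3_13.2]; exact rfl) | exact rfl⟩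
private noncomputable def _root_.Cfsg.Agent.LsF.f7c8ea3_15 : {f // @Cfsg.Agent.CoEvF63.kk = f} := ⟨_, by first | (delta Cfsg.Agent.CoEvF63.kk; rewrite [Cfsg.Agent.LsF.f7c8ea3_14.2, Cfsg.Agent.LsF.f7c8ea3_9.2]; exact rfl) | exact rfl⟩
private noncomputable def _root_.Cfsg.Agent.LsF.f7c8ea3_16 : {f // @Cfsg.Agent.CoEvF63.stp = f} := ⟨_, by first | (delta Cfsg.Agent.CoEvF63.stp; rewrite [Cfsg.Agent.LsF.f7c8ea3_8.2, Cfsg.Agent.LsF.f7c8ea3_14.2, Cfsg.Agent.LsF.f7c8ea3_15.2, Cfsg.Agent.LsF.f7c8ea3_9.2]; exact rfl) | exact rfl⟩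
private noncomputable def _root_.Cfsg.Agent.LsF.f7c8ea3_17 : {f // @Cfsg.Agent.CoEvF63.goF = f} := ⟨_, by first | (delta Cfsg.Agent.CoEvF63.goF; rewrite [Cfsg.Agent.LsF.f7c8ea3_16.2]; exact rfl) | exact rfl⟩
private noncomputable def _root_.Cfsg.Agent.LsF.f7c8ea3_18 : {f // @Cfsg.Agent.CoEvF63.runF = f} := ⟨_, by first | (delta Cfsg.Agent.CoEvF63.runF; rewrite [Cfsg.Agent.LsF.f7c8ea3_17.2]; exact rfl) | exact rfl⟩
private noncomputable def _root_.Cfsg.Agent.LsF.f7c8ea3_19 : {f // @Cfsg.Agent.H861.Gen.CoEv.HH = f} := ⟨_, by first | (delta Cfsg.Agent.H861.Gen.CoEv.HH; rewrite [Cfsg.Agent.LsF.npow_pat]; exact rfl) | exact rfl⟩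
private noncomputable def _root_.Cfsg.Agent.LsF.f7c8ea3_20 : {f // @Cfsg.Agent.H861.Gen.CoEv.BB = f} := ⟨_, by first | (delta Cfsg.Agent.H861.Gen.CoEv.BB; rewrite [Cfsg.Agent.LsF.npow_pat]; exact rfl) | exact rfl⟩
private noncomputable def _root_.Cfsg.Agent.LsF.f7c8ea3_21 : {f // @Cfsg.Agent.TwoF.SpB.Wd.cdA = f} := ⟨_, by first | (delta Cfsg.Agent.TwoF.SpB.Wd.cdA; rewrite [Cfsg.Agent.LsF.f7c8ea3_19.2, Cfsg.Agent.LsF.f7c8ea3_20.2, Cfsg.Agent.LsF.iadd_eq, Cfsg.Agent.LsF.toNat_eq]; exact rfl) | exact rfl⟩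
private noncomputable def _root_.Cfsg.Agent.LsF.f7c8ea3_22 : {f // @Cfsg.Agent.LThreeCo1.Rel.M = f} := ⟨_, by first | (delta Cfsg.Agent.LThreeCo1.Rel.M; (try delta Cfsg.Agent.LThreeCo1.Rel.M.match_1); (try rewrite [Cfsg.Agent.LsF.instDecEq_eq, Cfsg.Agent.LsF.dite_eq]); exact rfl) | exact rfl⟩
private noncomputable def _root_.Cfsg.Agent.LsF.f7c8ea3_23 : {f // @Cfsg.Agent.LThreeCo1.RelQ.M = f} := ⟨_, by first | (delta Cfsg.Agent.LThreeCo1.RelQ.M; rewrite [Cfsg.Agent.LsF.f7c8ea3_22.2]; (try delta Cfsg.Agent.LThreeCo1.RelQ.M.match_1); (try rewrite [Cfsg.Agent.LsF.instDecEq_eq, Cfsg.Agent.LsF.dite_eq]); exact rfl) | exact rfl⟩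
private noncomputable def _root_.Cfsg.Agent.LsF.f7c8ea3_24 : {f // @Cfsg.Agent.CoOneType.CoFast.hd = f} := ⟨_, by first | (delta Cfsg.Agent.CoOneType.CoFast.hd; rewrite [Cfsg.Agent.LsF.map_eq, Cfsg.Agent.LsF.headD_eq]; exact rfl) | exact rfl⟩
private noncomputable def _root_.Cfsg.Agent.LsF.f7c8ea3_25 : {f // @Cfsg.Agent.CoOneType.CoFast.tl = f} := ⟨_, by first | (delta Cfsg.Agent.CoOneType.CoFast.tl; rewrite [Cfsg.Agent.LsF.map_eq, Cfsg.Agent.LsF.tail_eq]; exact rfl) | exact rfl⟩
private noncomputable def _root_.Cfsg.Agent.LsF.f7c8ea3_26 : {f // @Cfsg.Agent.LThreeCo1.Ev.trAux = f} := ⟨_, by first | (delta Cfsg.Agent.LThreeCo1.Ev.trAux Nat.brecOn.go Nat.brecOn Cfsg.Agent.LThreeCo1.Ev.trAux._f; rewrite [Cfsg.Agent.LsF.f7c8ea3_24.2, Cfsg.Agent.LsF.f7c8ea3_25.2]; (try delta Cfsg.Agent.LThreeCo1.Ev.trAux.match_1); (try delta Nat.casesOn); first | dsimp -zeta only | exact rfl) | exact rfl⟩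
private noncomputable def _root_.Cfsg.Agent.LsF.f7c8ea3_27 : {f // @Cfsg.Agent.LThreeCo1.Ev.tr = f} := ⟨_, by first | (delta Cfsg.Agent.LThreeCo1.Ev.tr; rewrite [Cfsg.Agent.LsF.f7c8ea3_26.2]; exact rfl) | exact rfl⟩
private noncomputable def _root_.Cfsg.Agent.LsF.f7c8ea3_28 : {f // @Cfsg.Agent.TwoF.SpB.Wd.M = f} := ⟨_, by first | (delta Cfsg.Agent.TwoF.SpB.Wd.M; rewrite [Cfsg.Agent.LsF.f7c8ea3_23.2, Cfsg.Agent.LsF.f7c8ea3_27.2, Cfsg.Agent.LsF.nsub_pat, Cfsg.Agent.LsF.cond_eq]; exact rfl) | exact rfl⟩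
private noncomputable def _root_.Cfsg.Agent.LsF.f7c8ea3_36 : {f // @Cfsg.Agent.H388.CoMat.eL = f} := ⟨_, by first | (delta Cfsg.Agent.H388.CoMat.eL; rewrite [Cfsg.Agent.LsF.instDecEq_eq, Cfsg.Agent.LsF.map_eq, Cfsg.Agent.LsF.range_eq, Cfsg.Agent.LsF.ite_eq]; exact rfl) | exact rfl⟩
theorem kY : repB M [59, 80, 10, 25, 5, 75, 10, 30, 9] (dec nY) = true := by
  delta repB; rewrite [mapB_F]
  ((try (rewrite [Cfsg.Agent.LsF.f7c8ea3_34.2, Cfsg.Agent.LsF.f7c8ea3_35.2, Cfsg.Agent.LsF.f7c8ea3_5.2, Cfsg.Agent.LsF.f7c8ea3_18.2, Cfsg.Agent.LsF.f7c8ea3_21.2, Cfsg.Agent.LsF.f7c8ea3_28.2, Cfsg.Agent.LsF.f7c8ea3_36.2, Cfsg.Agent.LsF.and_eq, Cfsg.Agent.LsF.map_eq, Cfsg.Agent.LsF.reverse_eq, Cfsg.Agent.LsF.getD_eq, Cfsg.Agent.LsF.length_eq])); decide +kernel)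
private noncomputable def _root_.Cfsg.Agent.LsF.f7c8ea3_37 : {f // @Cfsg.Agent.TwoF.SpB.C2W.M2 = f} := ⟨_, by first | (delta Cfsg.Agent.TwoF.SpB.C2W.M2; rewrite [Cfsg.Agent.LsF.f7c8ea3_28.2, Cfsg.Agent.LsF.f7c8ea3_34.2, Cfsg.Agent.LsF.cond_eq]; exact rfl) | exact rfl⟩
theorem kR : (repB M2 [0, 1, 1, 0, 1, 1, 0, 1, 1] (dec nA) && repB M2 [0, 1, 0, 0, 1, 0, 1, 1] (dec nB)) = true := by
  delta repB; rewrite [mapB_F]
  ((try (rewrite [Cfsg.Agent.LsF.f7c8ea3_34.2, Cfsg.Agent.LsF.f7c8ea3_35.2, Cfsg.Agent.LsF.f7c8ea3_5.2, Cfsg.Agent.LsF.f7c8ea3_18.2, Cfsg.Agent.LsF.f7c8ea3_21.2, Cfsg.Agent.LsF.f7c8ea3_37.2, Cfsg.Agent.LsF.f7c8ea3_36.2, Cfsg.Agent.LsF.and_eq, Cfsg.Agent.LsF.map_eq, Cfsg.Agent.LsF.reverse_eq, Cfsg.Agent.LsF.getD_eq, Cfsg.Agent.LsF.length_eq])); decide +kernel)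
theorem kT : trR (dec nA) = -8 ∧ trR (dec nB) = 32 ∧ trR (M 10) = 0 := by decide +kernel
theorem k23 : (powP M2 [0, 1] 23 && !powP M2 [0, 1] 1) = true := by
  rewrite [powP_F]
  decide +kernel
theorem k5A : (powP M2 [0, 1, 1, 0, 1, 1, 0, 1, 1] 5 && !powP M2 [0, 1, 1, 0, 1, 1, 0, 1, 1] 1) = true := by
  rewrite [powP_F]
  decide +kernel
theorem k5B : (powP M2 [0, 1, 0, 0, 1, 0, 1, 1] 5 && !powP M2 [0, 1, 0, 0, 1, 0, 1, 1] 1) = true := by
  rewrite [powP_F]
  decide +kernel
/-- the involution of trace 8 -/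
def nD : ℕ := 537287725676285232308174764115880480386115373227663772211182307213359790790064520476875951121623018617418843417212196245102329815083204052604781983457676168049517624731961274397961713846311187864507249944011457775853105439540157268597405659827502343416659566035194650960292794508885608360582965659790732442202269175654051502717926105628614479494117437199313310511748156054661439963458435654749500395638225582110699269429661823407241905598308997181114179378923275783958690277426854108394335688013358934890563380855143338760992504652491523174701047207654029172106768660784456070995177122852089820880671510463901737638230356780805553529480272692738940832511385463653210232693922696765005184222742085582083181641204855217169943518131955437878367331507503795097379677397420293994783140034063616934084578302774760093662729050783735424766964116416122001010488748127000543702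
private noncomputable def _root_.Cfsg.Agent.LsF.f7c8ea3_38 : {f // @Cfsg.Agent.TwoF.SpB.Wd.trR = f} := ⟨_, by first | (delta Cfsg.Agent.TwoF.SpB.Wd.trR; rewrite [Cfsg.Agent.LsF.map_eq, Cfsg.Agent.LsF.range_eq, Cfsg.Agent.LsF.sum_eq, Cfsg.Agent.LsF.getD_eq, Cfsg.Agent.LsF.instIAdd_eq]; exact rfl) | exact rfl⟩
theorem kD : repB M [31, 59] (dec nD) = true ∧ trR (dec nD) = 64 := by
  delta repB; rewrite [mapB_F]
  (refine of_decide_eq_true ?_; (try (rewrite [Cfsg.Agent.LsF.f7c8ea3_34.2, Cfsg.Agent.LsF.f7c8ea3_35.2, Cfsg.Agent.LsF.f7c8ea3_5.2, Cfsg.Agent.LsF.f7c8ea3_18.2, Cfsg.Agent.LsF.f7c8ea3_21.2, Cfsg.Agent.LsF.f7c8ea3_28.2, Cfsg.Agent.LsF.f7c8ea3_36.2, Cfsg.Agent.LsF.f7c8ea3_38.2, Cfsg.Agent.LsF.and_eq, Cfsg.Agent.LsF.map_eq, Cfsg.Agent.LsF.reverse_eq, Cfsg.Agent.LsF.getD_eq, Cfsg.Agent.LsF.instIDecEq_eq, Cfsg.Agent.LsF.dAnd_eq, Cfsg.Agent.LsF.dBoolEq_eq, Cfsg.Agent.LsF.length_eq, Cfsg.Agent.LsF.decide_eq])); decide +kernel)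

end Cfsg.Agent.TwoF.SpB.C2W
end

-- part: TwoF/SpB/C1Wt
section
/-!
# TwoF SP-B: the weights of `3 ^ 6` in `Co1`, kernel checks (helper24)
-/

set_option autoImplicit false
set_option Elab.async false
set_option maxRecDepth 100000

namespace Cfsg.Agent.TwoF.SpB.C1W

open Wd Cfsg.Agent.H861.Gen.CoEv

/-- the generators of `3 ^ 6` -/
def F (j : ℕ) : List ℕ := [j + 1]

/-- the action of the letter `8` -/
def w8 : List (List ℕ) := [[0, 0, 1, 3, 3, 4, 4], [2], [3], [1], [0, 1, 3, 5], [1, 3, 3, 5]]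
/-- the action of the letter `11` -/
def w11 : List (List ℕ) := [[0], [0, 2, 3, 3, 4, 5], [1, 1, 4, 4, 5, 5], [1, 1], [5], [1, 1, 3, 4, 4]]
/-- the action of the letter `31` -/
def w31 : List (List ℕ) := [[0], [1], [3], [2], [2, 2, 3, 4], [1, 1, 2, 2, 3, 3, 5, 5]]
/-- the generators of the orbits -/
def Ws : List (List (List ℕ) × ℕ) := [(w8, 2), (w11, 10)]
/-- the orbit of length 24 -/
def v1 : ℕ := 172365448255912490178722565781744272486995659026020097431807869092141942143915669777931859576915917241784708256858968822364427740162947473420233692064721337567802604327812293045793224282420921771435543106095274786816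
/-- the orbit of length 264 -/
def v2 : ℕ := 693811966581408847560384828200915464828547441125387667396125065448068649858945278252021488465800252039637792663039003285964591119341111306765546413741797949328606470723416437005972730180501577731887014831408462826334
/-- the orbit of length 440 -/
def v3 : ℕ := 2823147781293380175611369734810645203614038368751426116918573997928153619769195638957843967647187280801616442997364098606014967847018886888846367308381139587143899682407664891842580306538240605224254036920897026628121760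
/-- an element of square `-1` -/
def wJ : List ℕ := [4, 34, 10, 4, 34, 10, 4, 34, 10, 4, 34, 10, 4, 34, 10, 4, 34, 10, 4, 34, 10]

theorem kF : comB M F 6 = true := by
  delta comB; rewrite [powP_F, eqP_F]
  decide +kernel
theorem k8 : rlB M F 6 [8] w8 = true := by
  delta rlB; rewrite [eqP_F]
  decide +kernel
theorem k11 : rlB M F 6 [11] w11 = true := by
  delta rlB; rewrite [eqP_F]
  decide +kernel
theorem k31 : rlB M F 6 [31] w31 = true := by
  delta rlB; rewrite [eqP_F]
  decide +kernel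
private noncomputable def _root_.Cfsg.Agent.LsF.f7c8ea3_39 : {f // @Cfsg.Agent.TwoF.SpB.itr = f} := ⟨_, by first | (delta Cfsg.Agent.TwoF.SpB.itr Cfsg.Agent.TwoF.SpB.frc Nat.brecOn.go Nat.brecOn Cfsg.Agent.TwoF.SpB.itr._f; rewrite [Cfsg.Agent.LsF.nadd_pat]; (try delta Cfsg.Agent.TwoF.SpB.itr.match_1); (try delta Nat.casesOn); first | dsimp -zeta only | exact rfl) | exact rfl⟩
private noncomputable def _root_.Cfsg.Agent.LsF.f7c8ea3_40 : {f // @Cfsg.Agent.TwoF.SpB.twsF = f} := ⟨_, by first | (delta Cfsg.Agent.TwoF.SpB.twsF; rewrite [Cfsg.Agent.LsF.getD_eq]; exact rfl) | exact rfl⟩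
theorem kO : chkO 3 6 Ws = true := by
  delta chkO; rewrite [tws_F]
  ((try (rewrite [Cfsg.Agent.LsF.f7c8ea3_35.2, Cfsg.Agent.LsF.f7c8ea3_39.2, Cfsg.Agent.LsF.f7c8ea3_40.2, Cfsg.Agent.LsF.nadd_pat, Cfsg.Agent.LsF.npow_pat, Cfsg.Agent.LsF.all_eq])); decide +kernel)
theorem kV1 : chkV 3 6 Ws 40 v1 = true := by
  delta chkV; rewrite [tws_F]
  decide +kernel
theorem kV2 : chkV 3 6 Ws 1 v2 = true := by
  delta chkV; rewrite [tws_F]
  decide +kernel
theorem kV3 : chkV 3 6 Ws 5 v3 = true := by
  delta chkV; rewrite [tws_F]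
  decide +kernel

/-- the counts -/
def cls (p : ℕ → Bool) : List ℕ := [cl v1 v2 v3 p (3 ^ 6) 0, cl v1 v2 v3 p (3 ^ 6) 1, cl v1 v2 v3 p (3 ^ 6) 2,
  cl v1 v2 v3 p (3 ^ 6) 3]

theorem kz : cls (fun u => !Nat.beq (ip 3 u [0] % 3) 0) = [0, 24, 132, 330] := by decide +kernel
theorem kx : cls (fun u => !Nat.beq (ip 3 u [0, 1] % 3) 0) = [0, 12, 174, 300] := by decide +kernel
private noncomputable def _root_.Cfsg.Agent.LsF.f7c8ea3_43 : {f // @Cfsg.Agent.TwoF.SpB.cnt = f} := ⟨_, by first | (delta Cfsg.Agent.TwoF.SpB.cnt Cfsg.Agent.TwoF.SpB.cnt._f Nat.brecOn.go Nat.brecOn; rewrite [Cfsg.Agent.LsF.nadd_pat, Cfsg.Agent.LsF.cond_eq]; (try delta Cfsg.Agent.TwoF.SpB.pk.match_1); (try delta Nat.casesOn); first | dsimp -zeta only | exact rfl) | exact rfl⟩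
private noncomputable def _root_.Cfsg.Agent.LsF.f7c8ea3_44 : {f // @Cfsg.Agent.TwoF.SpB.lab = f} := ⟨_, by first | (delta Cfsg.Agent.TwoF.SpB.lab; rewrite [Cfsg.Agent.LsF.cond_eq, Cfsg.Agent.LsF.testBit_eq]; exact rfl) | exact rfl⟩
private noncomputable def _root_.Cfsg.Agent.LsF.f7c8ea3_45 : {f // @Cfsg.Agent.TwoF.SpB.cl = f} := ⟨_, by first | (delta Cfsg.Agent.TwoF.SpB.cl; rewrite [Cfsg.Agent.LsF.f7c8ea3_43.2, Cfsg.Agent.LsF.f7c8ea3_44.2, Cfsg.Agent.LsF.and_eq]; exact rfl) | exact rfl⟩
private noncomputable def _root_.Cfsg.Agent.LsF.f7c8ea3_46 : {f // @Cfsg.Agent.TwoF.SpB.C1W.cls = f} := ⟨_, by first | (delta Cfsg.Agent.TwoF.SpB.C1W.cls; rewrite [Cfsg.Agent.LsF.f7c8ea3_45.2, Cfsg.Agent.LsF.npow_pat]; exact rfl) | exact rfl⟩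
theorem kD : cls (fun u => Nat.blt u (tws 3 6 w31 u)) = [0, 8, 116, 200] := by
  rewrite [tws_F]
  (refine of_decide_eq_true ?_; (try (rewrite [Cfsg.Agent.LsF.f7c8ea3_46.2, Cfsg.Agent.LsF.f7c8ea3_40.2, Cfsg.Agent.LsF.instDecEq_eq, Cfsg.Agent.LsF.dListEq_eq, Cfsg.Agent.LsF.decide_eq])); decide +kernel)
theorem kD' : allTo (fun u => Nat.beq (tws 3 6 w31 (tws 3 6 w31 u)) u) (3 ^ 6) = true := by
  rewrite [tws_F]
  decide +kernel
theorem kA : (powP M [31] 2 && powP M [10] 2 && eqP M [10, 1] [1, 1, 10] && powP M [14, 9, 59, 64] 1) = true := by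
  rewrite [powP_F, eqP_F]
  decide +kernel
theorem kT : trR (M 31) = 64 ∧ trR (M 10) = 0 := by decide +kernel
theorem kJ : (relP M wJ.reverse 2 && !powP M wJ 2 && eqP M (wJ ++ [1]) ([1, 1] ++ wJ)) = true := by
  rewrite [powP_F, eqP_F, relP_F]
  decide +kernel
private noncomputable def _root_.Cfsg.Agent.LsF.f7c8ea3_29 : {f // @Cfsg.Agent.CoEvF63.itrF = f} := ⟨_, by first | (delta Cfsg.Agent.CoEvF63.itrF; rewrite [Cfsg.Agent.LsF.f7c8ea3_18.2]; exact rfl) | exact rfl⟩
private noncomputable def _root_.Cfsg.Agent.LsF.f7c8ea3_30 : {f // @Cfsg.Agent.H861.Gen.CoEv.Eb = f} := ⟨_, by first | (delta Cfsg.Agent.H861.Gen.CoEv.Eb List.brecOn List.brecOn.go Nat.ofDigits Nat.ofDigits._f; rewrite [Cfsg.Agent.LsF.f7c8ea3_20.2, Cfsg.Agent.LsF.f7c8ea3_19.2, Cfsg.Agent.LsF.nadd_pat, Cfsg.Agent.LsF.nmul_pat, Cfsg.Agent.LsF.npow_pat, Cfsg.Agent.LsF.map_eq, Cfsg.Agent.LsF.range_eq]; (try delta Nat.ofDigits.match_1); (try delta List.casesOn); first | dsimp -zeta only | exact rfl) | exact rfl⟩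
private noncomputable def _root_.Cfsg.Agent.LsF.f7c8ea3_47 : {f // @Cfsg.Agent.H861.Gen.CoEv.En = f} := ⟨_, by first | (delta Cfsg.Agent.H861.Gen.CoEv.En List.brecOn List.brecOn.go Nat.ofDigits Nat.ofDigits._f; rewrite [Cfsg.Agent.LsF.f7c8ea3_20.2, Cfsg.Agent.LsF.f7c8ea3_19.2, Cfsg.Agent.LsF.nadd_pat, Cfsg.Agent.LsF.nmul_pat, Cfsg.Agent.LsF.nsub_pat, Cfsg.Agent.LsF.npow_pat, Cfsg.Agent.LsF.map_eq, Cfsg.Agent.LsF.range_eq]; (try delta Nat.ofDigits.match_1); (try delta List.casesOn); first | dsimp -zeta only | exact rfl) | exact rfl⟩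
private noncomputable def _root_.Cfsg.Agent.LsF.f7c8ea3_48 : {f // @Cfsg.Agent.H861.Gen.CoOne.sub = f} := ⟨_, by first | (delta Cfsg.Agent.H861.Gen.CoOne.sub List.brecOn List.brecOn.go Cfsg.Agent.H861.Gen.CoOne.sub._f; rewrite [Cfsg.Agent.LsF.lappend_pat, Cfsg.Agent.LsF.dBoolEq_eq, Cfsg.Agent.LsF.ite_eq]; (try delta Cfsg.Agent.H861.Gen.CoOne.sub.match_1); (try delta List.casesOn); first | dsimp -zeta only | exact rfl) | exact rfl⟩
theorem kG : H861.Gen.CoOne.chk M [1, 2].reverse [14, 9, 1, 2, 59, 64].reverse [false, true, false, true, true]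
    [false, true] 3 = true := by
  delta H861.Gen.CoOne.chk; rewrite [relP_F, neP_F]
  ((try (rewrite [Cfsg.Agent.LsF.f7c8ea3_29.2, Cfsg.Agent.LsF.f7c8ea3_30.2, Cfsg.Agent.LsF.f7c8ea3_47.2, Cfsg.Agent.LsF.f7c8ea3_28.2, Cfsg.Agent.LsF.f7c8ea3_48.2, Cfsg.Agent.LsF.nmul_pat, Cfsg.Agent.LsF.and_eq, Cfsg.Agent.LsF.or_eq, Cfsg.Agent.LsF.not_eq, Cfsg.Agent.LsF.reverse_eq])); decide +kernel)

end Cfsg.Agent.TwoF.SpB.C1W
end

-- part: TwoF/SpB/C1Big
section
/-!
# TwoF SP-B: `Co1` in characteristic two (helper24)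
-/

set_option autoImplicit false

namespace Cfsg.Agent.TwoF.SpB

open Module Gen Subgroup

section

variable {k : Type} [Field k] {G : Type} [Group G] {V : Type} [AddCommGroup V] [Module k V]
  {ρ : Representation k G V} {f : ℕ → G} {l m : ℕ} {μ : ℕ → ℕ} {v1 v2 v3 a b c n1 n2 n3 : ℕ}

theorem Mu.eq' (H : Mu ρ f l m μ) (h1 : ∀ u, v1.testBit u = true → μ u = a) (h2 : ∀ u, v2.testBit u = true → μ u = b)
    (h3 : ∀ u, v3.testBit u = true → μ u = c) {w : List ℕ} (hw : ∀ i ∈ w, i < m) {p : ℕ → Bool}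
    (hp : p = fun u => !Nat.beq (ip l u w % l) 0)
    (h : [cl v1 v2 v3 p (l ^ m) 0, cl v1 v2 v3 p (l ^ m) 1, cl v1 v2 v3 p (l ^ m) 2, cl v1 v2 v3 p (l ^ m) 3] =
      [0, n1, n2, n3]) : cod ρ (zpowers (w.map f).prod) = n1 * a + n2 * b + n3 * c := by
  simp only [List.cons.injEq] at h
  rw [H.eq w hw, ← hp, (sm_lab h1 h2 h3 p _).2 h.1, h.2.1, h.2.2.1, h.2.2.2.1]

theorem Mu.lo' (H : Mu ρ f l m μ) (h1 : ∀ u, v1.testBit u = true → μ u = a) (h2 : ∀ u, v2.testBit u = true → μ u = b)
    (h3 : ∀ u, v3.testBit u = true → μ u = c) {t : G} {ws : List (List ℕ)} (R : Rl f m t ws)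
    (hi : allTo (fun u => Nat.beq (tws l m ws (tws l m ws u)) u) (l ^ m) = true) {p : ℕ → Bool}
    (hp : p = fun u => Nat.blt u (tws l m ws u))
    (h : [cl v1 v2 v3 p (l ^ m) 0, cl v1 v2 v3 p (l ^ m) 1, cl v1 v2 v3 p (l ^ m) 2, cl v1 v2 v3 p (l ^ m) 3] =
      [0, n1, n2, n3]) : n1 * a + n2 * b + n3 * c ≤ cod ρ (zpowers t) := by
  simp only [List.cons.injEq] at h
  have h4 := (sm_lab h1 h2 h3 p (l ^ m)).1
  rw [h.2.1, h.2.2.1, h.2.2.2.1] at h4
  refine h4.trans (H.lo t ws R p fun u hu h5 => ?_)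
  rw [hp] at h5 ⊢
  have h6 := Nat.eq_of_beq_eq_true ((allTo_iff _ _).1 hi u hu)
  have h7 := Nat.blt_eq.mp h5
  rw [← Bool.not_eq_true]
  intro h8
  have h9 := Nat.blt_eq.mp h8
  omega

theorem cod_le_of_rel [FiniteDimensional k V] {t z : G} (hz : z ^ 3 = 1) (h : t * z = z * z * t) :
    cod ρ (zpowers z) ≤ 2 * cod ρ (zpowers t) :=
  cod_le_of_inverts (Odd.of_dvd_nat (by decide) (orderOf_dvd_of_pow_eq_one hz)) (by
    rw [h, mul_inv_cancel_right, eq_inv_iff_mul_eq_one, ← hz, pow_three'])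

end

namespace C1W

open Wd Cfsg.Agent.H861.Gen Cfsg.Agent.H950.FF.CoTr
open Cfsg.Agent.CoOneType.ClosingFacts (mk mk_eq mk_eq_one exists_mk)
open Cfsg.Agent.Co2Type.Mono (tr8 tr8_conj)
open Cfsg.Agent.StdG24.ExInst (z)
open Cfsg.Agent.SporadicA.Co0Mono (signCo0)
open Cfsg.Agent.SporadicA.Co1Simple (allOne)

/-- the projection -/
noncomputable def π : Co0 →* Spor.Co1 := QuotientGroup.mk' (center Co0)

theorem V_rev (w : List ℕ) : CoEv.V e w.reverse = π (W e w) := congrArg π (G_rev w)

theorem facts : e 31 * e 31 = 1 ∧ e 10 * e 10 = 1 ∧ e 10 * e 1 = e 1 * e 1 * e 10 ∧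
    W e [59, 64] = (W e [14, 9])⁻¹ := by
  have h := kA
  simp only [Bool.and_eq_true, pow_iff hM] at h
  obtain ⟨⟨⟨h1, h2⟩, h3⟩, h4⟩ := h
  rw [W_one, pow_two] at h1 h2
  have h5 := eq_of_eqP hM h3
  rw [show [10, 1] = [10] ++ [1] from rfl, show [1, 1, 10] = [1] ++ [1] ++ [10] from rfl] at h5
  simp only [W_append, W_one] at h5
  rw [pow_one, show [14, 9, 59, 64] = [14, 9] ++ [59, 64] from rfl, W_append] at h4
  exact ⟨h1, h2, h5, (eq_inv_of_mul_eq_one_right h4 :)⟩

theorem factsJ : W e wJ * W e wJ = signCo0 allOne ∧ W e wJ * e 1 = e 1 * e 1 * W e wJ := by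
  have h := kJ
  rw [Bool.and_eq_true, Bool.and_eq_true, Bool.not_eq_true', ← Bool.not_eq_true, pow_iff hM, pow_two] at h
  have h1 := CoEv.pow_eq_one_of_relP hM h.1.1
  have h2 := eq_of_eqP hM h.2
  rw [V_rev, pow_two] at h1
  rw [show [1, 1] = [1] ++ [1] from rfl, W_append, W_append, W_append, W_one] at h2
  exact ⟨(sq_cases h1).resolve_left h.1.2, h2⟩

theorem conj31 : IsConj z (π (e 31)) := conj_z_of_tr facts.1 (by rw [tr8_eq (hM 31), kT.1]; norm_num)

theorem tr_of_conj {t : Co0} (h : IsConj z (π t)) : tr8 t ^ 2 = 4096 := by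
  obtain ⟨g, hg⟩ := isConj_iff.1 (conj31.symm.trans h)
  obtain ⟨g, rfl⟩ := exists_mk g
  have h1 : _root_.Cfsg.Agent.CoOneType.ClosingFacts.mk t = _root_.Cfsg.Agent.CoOneType.ClosingFacts.mk (g * e 31 * g⁻¹) := hg.symm
  rcases (mk_eq _ _).1 h1 with h2 | h2
  · rw [h2, tr8_conj, tr8_eq (hM 31), kT.1]; norm_num
  · rw [h2, tr8_neg_mul, tr8_conj, tr8_eq (hM 31), kT.1]; norm_num

theorem rank_pure {A : Subgroup Spor.Co1} (h : ∀ a ∈ A, a ≠ 1 → IsConj z a) {r : ℕ} (hr : Nat.card A = 2 ^ r) :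
    r ≤ 9 := by
  have := C1.fin
  have : Finite Co0 := CoOneType.FrameFix.finite_co0
  have h1 : signCo0 allOne ∈ A.comap π := by
    have : π (signCo0 allOne) = 1 := (mk_eq_one _).2 (Or.inr rfl)
    rw [mem_comap, this]
    exact A.one_mem
  have h2 := dvd_of_sq' (A.comap π).subtype (z := ⟨_, h1⟩)
    (fun e => CoOneType.CoOneE.allOne_ne (congrArg Subtype.val e)) tr8_allOne fun a h3 h4 =>
      tr_of_conj (h _ a.2 fun e => ((mk_eq_one _).1 e).elim (fun e => h3 (Subtype.ext e)) fun e => h4 (Subtype.ext e))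
  have h5 : Nat.card (A.comap π) = Nat.card A * 2 := by
    have h6 := (A.comap π).card_mul_index
    have h7 := A.card_mul_index
    rw [index_comap_of_surjective A (f := π) (QuotientGroup.mk'_surjective _), S0397.result] at h6
    rw [S0399.result.2] at h7
    refine Nat.eq_of_mul_eq_mul_right (Nat.pos_of_ne_zero (index_ne_zero_of_finite (H := A))) ?_
    rw [h6, mul_assoc, mul_comm 2, ← mul_assoc, h7]
    norm_num
  rw [h5, hr, ← pow_succ] at h2
  have := le_of_pow_dvd (n := 10) h2 (by decide)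
  omega

theorem inverts {d : Spor.Co1} (h : d * d = 1) (h1 : d ≠ 1) (h2 : ¬ IsConj z d) :
    ∃ t : Co0, IsConj (π t) d ∧ t * e 1 = e 1 * e 1 * t := by
  obtain ⟨t, rfl⟩ := exists_mk d
  rcases sq_cases h with h3 | h3
  · exact ⟨e 10, (isConj_e2 facts.2.1 (by rw [tr8_eq (hM 10), kT.2])).symm.trans
      (isConj_e2 h3 ((cls_one h3 h1).resolve_left fun e => h2 e.1).1), facts.2.2.1⟩
  · exact ⟨W e wJ, (isConj_e1 factsJ.1).symm.trans (isConj_e1 h3), factsJ.2⟩

theorem gen (B : H940.Eng.Base) : π (W e [1, 2]) ≠ 1 ∧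
    Subgroup.closure {π (W e [1, 2]), π (W e [14, 9]) * π (W e [1, 2]) * (π (W e [14, 9]))⁻¹} = ⊤ := by
  obtain ⟨h1, -, h2, -⟩ := CoOne.gen_of_chk B hM kG
  rw [V_rev] at h1
  rw [V_rev, V_rev, show [14, 9, 1, 2, 59, 64] = [14, 9] ++ [1, 2] ++ [59, 64] from rfl, W_append, W_append,
    facts.2.2.2, map_mul, map_mul, map_inv] at h2
  exact ⟨h1, h2⟩

theorem core (B : H940.Eng.Base) : Core 2 Spor.Co1 := fun V _ _ _ ρ hf hi A hA => by
  have := C1.fin
  by_cases h : Cub ρ A
  · exact ⟨A, hA, h⟩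
  obtain ⟨r, -, h1, h2⟩ := nc_data hA h
  have hr : r ≤ 11 := (Nat.pow_le_pow_iff_right (by norm_num)).1 (h1 ▸ C1.main.1 A hA.1)
  obtain ⟨c1, c2⟩ := com_of_comB hM kF
  obtain ⟨μ, H⟩ := exists_mu ρ (f := fun j => π (W e (F j))) (l := 3) (m := 6) Nat.prime_three (by decide)
    (fun i hi j hj => by rw [← map_mul, c1 i hi j hj, map_mul]) fun i hi => by rw [← map_pow, c2 i hi, map_one]
  have hW : ∀ p ∈ Ws, ∃ h, Rl (fun j => π (W e (F j))) 6 h p.1 :=
    List.forall_mem_cons.2 ⟨⟨_, rl_map π (rl_of_rlB hM k8)⟩,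
      List.forall_mem_singleton.2 ⟨_, rl_map π (rl_of_rlB hM k11)⟩⟩
  have o1 := H.orb (by norm_num) hW kO kV1
  have o2 := H.orb (by norm_num) hW kO kV2
  have o3 := H.orb (by norm_num) hW kO kV3
  have hz : cod ρ (zpowers (π (W e [1]) * 1)) = _ := H.eq' o1 o2 o3 (w := [0]) (by decide) rfl kz
  have hx : cod ρ (zpowers (π (W e [1]) * (π (W e [2]) * 1))) = _ := H.eq' o1 o2 o3 (w := [0, 1]) (by decide) rfl kx
  have hD := H.lo' o1 o2 o3 (rl_map π (rl_of_rlB hM k31)) kD' rfl kD
  rw [mul_one, W_one] at hz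
  rw [mul_one, ← map_mul, ← W_append] at hx
  rw [W_one] at hD
  have key : μ 40 ≤ 1 ∧ μ 1 = 0 ∧ μ 5 = 0 := by
    by_cases hp : ∀ a ∈ A, a ≠ 1 → IsConj z a
    · obtain ⟨⟨d, hd⟩, h3⟩ := ne_bot_iff_exists_ne_one.1 hA.2.1
      have h4 := rank_pure hp h1
      have h5 := h2 d hd
      rw [← cod_isConj (conj31.symm.trans (hp d hd fun e => h3 (Subtype.ext e)))] at h5
      omega
    · push Not at hp
      obtain ⟨d, hd, h3, h4⟩ := hp
      obtain ⟨t, h5, h6⟩ := inverts (by rw [← pow_two]; exact hA.1.2 d hd) h3 h4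
      have h7 := cod_le_of_rel (ρ := ρ) (t := π t) (z := π (e 1))
        (by rw [← map_pow, ← W_one (e := e) 1, show W e [1] ^ 3 = 1 from c2 0 (by norm_num), map_one])
        (by rw [← map_mul, h6, map_mul, map_mul])
      have h8 := h2 d hd
      rw [← cod_isConj h5] at h8
      omega
  have h9 := finrank_le_of_gen hf hi (gen B).1 (gen B).2
  have h10 : cod ρ (zpowers (π (W e [1, 2]))) = _ := hx
  exact C1.main.2 V ρ (h9.trans (by omega)) A hA

end C1W

end Cfsg.Agent.TwoF.SpB
end

-- part: TwoF/SpB/C2Big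
section
/-!
# TwoF SP-B: `Co2` in characteristic two (helper24)
-/

set_option autoImplicit false

namespace Cfsg.Agent.TwoF.SpB.C2W

open Module Gen Subgroup Wd Cfsg.Agent.SporadicStructure.Co0Matrix Cfsg.Agent.CoOneType.CoEval
open Cfsg.Agent.Co2Type.Mono (tr8 tr8_conj toCo0 toCo0_injective exists_toCo0 tr tr_conj)
open Cfsg.Agent.Co2Type.FactsClass
open Cfsg.Agent.SigZeroCo2.Lin (rep)

theorem exists_psi : ∃ ψ : Spor.Co2 →* Co0, Function.Injective ψ ∧ (∀ g, tr8 (ψ g) = tr8 (toCo0 g)) ∧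
    ∀ w, mapB M w U U = true → ∃ g, ψ g = W e w := by
  have h1 : sqNorm (vec U) = 32 := by rw [sqNorm_eq_dot, dotInt_vec _ _ (by decide), kU.2]
  obtain ⟨c, hc⟩ := S0400.result Spor.leechU ⟨vec U, vec_mem_of_leechB kU.1⟩ (by decide) h1
  refine ⟨(MulAut.conj c).toMonoidHom.comp toCo0, (MulAut.conj c).injective.comp toCo0_injective,
    fun g => tr8_conj c _, fun w hw => ?_⟩
  have h2 : W e w • (⟨vec U, vec_mem_of_leechB kU.1⟩ : leechLattice) = ⟨vec U, vec_mem_of_leechB kU.1⟩ :=
    Subtype.ext (map_of_mapB hM hw rfl (H861.Gen.CoEv.smO_of_norm (h1.trans_lt (by decide +kernel))))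
  obtain ⟨g, hg⟩ := exists_toCo0 (g := c⁻¹ * W e w * c) (by rw [mul_smul, mul_smul, hc, h2, ← hc, inv_smul_smul])
  refine ⟨g, ?_⟩
  change c * toCo0 g * c⁻¹ = _
  rw [hg]
  group

/-- the two generators -/
noncomputable def e2 (i : ℕ) : Co0 := cond (Nat.beq i 0) (e 5) (W e [59, 80, 10, 25, 5, 75, 10, 30, 9])

theorem hM2 (i : ℕ) : CoOneType.CoEval.Rep (e2 i) (M2 i) := by
  unfold e2 M2
  cases Nat.beq i 0
  · exact rep_of_repB hM kY
  · exact hM 5

theorem facts : W e [31, 59] ^ 2 = 1 ∧ W e [10] ^ 2 = 1 ∧ W e [5] ≠ 1 ∧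
    W e [59, 80, 10, 25, 5, 75, 10, 30, 9] = W e [59, 80, 10, 25] * W e [5] * (W e [59, 80, 10, 25])⁻¹ := by
  have h := kA
  rw [Bool.and_eq_true, Bool.and_eq_true, Bool.and_eq_true, Bool.not_eq_true', ← Bool.not_eq_true, pow_iff hM,
    pow_iff hM, pow_iff hM, pow_iff hM, pow_one, pow_one,
    show [59, 80, 10, 25, 75, 10, 30, 9] = [59, 80, 10, 25] ++ [75, 10, 30, 9] from rfl, W_append] at h
  refine ⟨h.1.1.1, h.1.1.2, h.2, ?_⟩
  rw [← eq_inv_of_mul_eq_one_right h.1.2, ← W_append, ← W_append]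
  rfl

theorem gen (B : H940.Eng.Base) {ψ : Spor.Co2 →* Co0} (hψ : Function.Injective ψ) {x g : Spor.Co2}
    (hx : ψ x = W e [5]) (hg : ψ g = W e [59, 80, 10, 25]) : Subgroup.closure {x, g * x * g⁻¹} = ⊤ := by
  have := C2.fin
  by_contra hne
  generalize hH : Subgroup.closure {x, g * x * g⁻¹} = H at hne
  have h1 : ∀ w : List ℕ, ∃ s : H, ψ s = W e2 w := fun w => by
    induction w with
    | nil => exact ⟨1, map_one _⟩
    | cons i w ih =>
      obtain ⟨s, hs⟩ := ih
      have h2 : ∃ t : H, ψ t = e2 i := by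
        unfold e2
        cases Nat.beq i 0
        · exact ⟨⟨g * x * g⁻¹, hH ▸ Subgroup.subset_closure (Or.inr rfl)⟩, by
            rw [map_mul, map_mul, map_inv, hx, hg, ← facts.2.2.2]; rfl⟩
        · exact ⟨⟨x, hH ▸ Subgroup.subset_closure (Or.inl rfl)⟩, hx.trans (W_one 5)⟩
      obtain ⟨t, ht⟩ := h2
      exact ⟨t * s, by rw [coe_mul, map_mul, ht, hs]; rfl⟩
  have ho : ∀ s : H, orderOf s = orderOf (ψ s) := fun s => by rw [orderOf_injective ψ hψ, orderOf_coe]
  obtain ⟨s, hs⟩ := h1 [0, 1]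
  have h2 := H147.Gen.orders2 (H89.SepCo2.ctx B) ⟨23, 23, [(11, 1), (23, 1)]⟩ (List.mem_cons_of_mem _ List.mem_cons_self) _ 20
    H966.Gen.CoTwo.ho23 H (by
      rw [← ord_of hM2 (by norm_num) k23, ← hs, ← ho]
      exact _root_.orderOf_dvd_natCard s) hne
  obtain ⟨a, ha⟩ := h1 [0, 1, 1, 0, 1, 1, 0, 1, 1]
  obtain ⟨b, hb⟩ := h1 [0, 1, 0, 0, 1, 0, 1, 1]
  have oa : orderOf (ψ a) = 5 := by rw [ha]; exact ord_of hM2 Nat.prime_five k5A
  have ob : orderOf (ψ b) = 5 := by rw [hb]; exact ord_of hM2 Nat.prime_five k5B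
  have : Fact (Nat.Prime 5) := ⟨Nat.prime_five⟩
  have h3 := SpA.cod_eq_of_order (ρ := (rep.comp (ψ.comp H.subtype) : Representation ℚ H SigZeroCo2.Lin.Sp))
    (s := 5)
    ((by decide : ∀ n ∈ H966.Gen.CoTwo.os23, ¬ 5 ^ 2 ∣ n) _ h2) (a := a) (b := b)
    (by rw [← oa, ← ho, pow_orderOf_eq_one]) (fun e => by rw [← ho, e, orderOf_one] at oa; cases oa)
    (by rw [← ob, ← ho, pow_orderOf_eq_one]) (fun e => by rw [← ho, e, orderOf_one] at ob; cases ob)
  have h4 := cod_add (ρ := (rep.comp (ψ.comp H.subtype) : Representation ℚ H SigZeroCo2.Lin.Sp)) (zpowers a)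
  have h5 := cod_add (ρ := (rep.comp (ψ.comp H.subtype) : Representation ℚ H SigZeroCo2.Lin.Sp)) (zpowers b)
  rw [fx_zpowers] at h4 h5
  have h6 : finrank ℚ (SigZeroCo2.Rank.fix (rep (ψ a))) = finrank ℚ (SigZeroCo2.Rank.fix (rep (ψ b))) :=
    Nat.add_left_cancel ((h3 ▸ h4).trans h5.symm)
  have h7 := CoFive.Dims.five_finrank oa
  have hR := kR
  rw [Bool.and_eq_true] at hR
  rw [h6, CoFive.Dims.five_finrank ob, ha, hb, tr8_eq (rep_of_repB hM2 hR.1), tr8_eq (rep_of_repB hM2 hR.2), kT.1,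
    kT.2.1] at h7
  norm_num at h7

theorem tr_inv {d : Spor.Co2} (h : d ^ 2 = 1) (h1 : d ≠ 1) :
    tr8 (toCo0 d) = 64 ∨ tr8 (toCo0 d) = 0 ∨ tr8 (toCo0 d) = 8 * (-8) := by
  rw [pow_two] at h
  rcases tr_cases (t := toCo0 d) (by rw [← map_mul, h, map_one])
    (fun e => h1 ((map_eq_one_iff _ toCo0_injective).1 e)) with e | e | e | e
  · exact Or.inl e
  · exact Or.inr (Or.inl e)
  · exact Or.inr (Or.inr e)
  have h2 : ∀ s, IsConj s d → tr s = -24 := fun s hs => by
    obtain ⟨g, rfl⟩ := isConj_iff.1 hs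
    rw [← tr_conj g s]
    exact congrArg (· / 8) e
  rcases classes h h1 with h3 | h3 | h3
  · exact absurd (tr_z.symm.trans (h2 _ h3)) (by decide)
  · exact absurd (tr_y.symm.trans (h2 _ h3)) (by decide)
  · exact absurd (tr_v.symm.trans (h2 _ h3)) (by decide)

theorem conj_of {s t : Spor.Co2} (hs : s ^ 2 = 1) (ht : t ^ 2 = 1) :
    (tr8 (toCo0 s) = 64 → tr8 (toCo0 t) = 64 → IsConj s t) ∧ (tr8 (toCo0 s) = 0 → tr8 (toCo0 t) = 0 → IsConj s t) := by
  rw [pow_two] at hs ht
  exact ⟨fun h1 h2 => (conj_y_of_tr hs (congrArg (· / 8) h1)).symm.trans (conj_y_of_tr ht (congrArg (· / 8) h2)),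
    fun h1 h2 => (conj_v_of_tr hs (congrArg (· / 8) h1)).symm.trans (conj_v_of_tr ht (congrArg (· / 8) h2))⟩

theorem card_le_four {A : Type} [Group A] [Finite A] (φ : A →* Co0) (h : ∀ a, a ≠ 1 → tr8 (φ a) = 8 * (-8)) :
    Nat.card A ≤ 4 := by
  have := Fintype.ofFinite A
  obtain ⟨f, hf⟩ := H831.FF.exists_sum φ
  rw [sum_one _ h, map_one, SigZeroCo2.Lin.tr8_one] at hf
  have h1 : (0 : ℤ) ≤ f * Nat.card A := by positivity
  omega

theorem core (B : H940.Eng.Base) : Core 2 Spor.Co2 := fun V _ _ _ ρ hf hi A hA => by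
  have := C2.fin
  by_cases h : Cub ρ A
  · exact ⟨A, hA, h⟩
  obtain ⟨r, h0, h1, h2⟩ := nc_data hA h
  have hr : r ≤ 10 := (Nat.pow_le_pow_iff_right (by norm_num)).1 (h1 ▸ C2.main.1 A hA.1)
  obtain ⟨ψ, hψ, ht, hw⟩ := exists_psi
  have hX := kX
  simp only [List.all_cons, Bool.and_eq_true] at hX
  obtain ⟨x0, x1, x2, x3, x4, x5, x6, x7, -⟩ := hX
  have hF : ∀ j, ∃ g, ψ g = W e (F j)
    | 0 => hw _ x0
    | 1 => hw _ x1
    | 2 => hw _ x2
    | _ + 3 => hw _ x3
  choose f hf' using hF
  obtain ⟨t1, e1⟩ := hw _ x4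
  obtain ⟨t2, e2⟩ := hw _ x5
  obtain ⟨t3, e3⟩ := hw _ x6
  obtain ⟨g, eg⟩ := hw _ x7
  obtain ⟨c1, c2⟩ := com_of_comB hM kF
  obtain ⟨μ, H⟩ := exists_mu ρ (f := f) (l := 3) (m := 4) Nat.prime_three (by decide)
    (fun i hi j hj => hψ (by rw [map_mul, map_mul, hf', hf', c1 i hi j hj]))
    fun i hi => hψ (by rw [map_pow, hf', c2 i hi, map_one])
  have R : ∀ {t w ws}, ψ t = W e w → rlB M F 4 w ws = true → Rl f 4 t ws := fun e1 e2 =>
    rl_of_map ψ hψ (by rw [e1, funext hf']; exact rl_of_rlB hM e2)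
  have hW : ∀ p ∈ Ws, ∃ h, Rl f 4 h p.1 :=
    List.forall_mem_cons.2 ⟨⟨_, R e1 k1⟩, List.forall_mem_singleton.2 ⟨_, R e2 k2⟩⟩
  have o1 := H.orb (by norm_num) hW kO kV1
  have o2 := H.orb (by norm_num) hW kO kV2
  have o3 : ∀ u, (0 : ℕ).testBit u = true → μ u = 0 := fun u hu => by simp at hu
  have hx : cod ρ (zpowers (f 0 * 1)) = _ := H.eq' o1 o2 o3 (w := [0]) (by decide) rfl kx
  have hD1 := H.lo' o1 o2 o3 (R e1 k1) kI1 rfl kD1
  have hD3 := H.lo' o1 o2 o3 (R e3 k3) kI3 rfl kD3
  rw [mul_one] at hx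
  have key : μ 3 ≤ 1 ∧ μ 1 = 0 := by
    by_cases p1 : ∃ d ∈ A, tr8 (toCo0 d) = 0
    · obtain ⟨d, hd, h3⟩ := p1
      have h4 := h2 d hd
      rw [← cod_isConj ((conj_of (hψ (by rw [map_pow, e3, facts.2.1, map_one])) (hA.1.2 d hd)).2
        (by rw [← ht, e3, W_one, tr8_eq (hM 10), kT.2.2]) h3)] at h4
      omega
    by_cases p2 : ∃ d ∈ A, tr8 (toCo0 d) = 64
    · obtain ⟨d, hd, h3⟩ := p2
      have h4 := h2 d hd
      rw [← cod_isConj ((conj_of (hψ (by rw [map_pow, e1, facts.1, map_one])) (hA.1.2 d hd)).1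
        (by rw [← ht, e1, tr8_eq (rep_of_repB hM kD.1), kD.2]) h3)] at h4
      have h5 := dvd_of_sq (toCo0.comp A.subtype) fun a ha => by
        rcases tr_inv (hA.1.2 a a.2) fun e => ha (Subtype.ext e) with e | e | e
        · exact (congrArg (· ^ 2) e).trans (by norm_num)
        · exact absurd ⟨a, a.2, e⟩ p1
        · exact (congrArg (· ^ 2) e).trans (by norm_num)
      rw [h1] at h5
      have h6 := le_of_pow_dvd (n := 9) h5 (by decide)
      omega
    have h5 := card_le_four (toCo0.comp A.subtype) fun a ha =>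
      ((tr_inv (hA.1.2 a a.2) fun e => ha (Subtype.ext e)).resolve_left fun e => p2 ⟨a, a.2, e⟩).resolve_left
        fun e => p1 ⟨a, a.2, e⟩
    have h6 := Nat.pow_le_pow_right (n := 2) (by norm_num) h0
    omega
  have h9 := finrank_le_of_gen hf hi (fun e => facts.2.2.1 (by rw [← show ψ (f 0) = W _ [5] from hf' 0, e, map_one]))
    (gen B hψ (hf' 0) eg)
  exact C2.main.2 V ρ (h9.trans (by omega)) A hA

end Cfsg.Agent.TwoF.SpB.C2W
end

-- part: TwoF/SpB/C3
section
/-!
# TwoF SP-B: `Co3` in characteristic two (helper24)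
-/

set_option autoImplicit false

namespace Cfsg.Agent.TwoF.SpB.C3

open Module Gen Subgroup
open Cfsg.Agent.Co2Type.Mono (tr8 tr8_conj)
open Cfsg.Agent.H831.FF.RowCo3 (toCo0 toCo0_inj)

theorem ord_two {G : Type} [Group G] {a : G} (h : a ^ 2 = 1) (h1 : a ≠ 1) : orderOf a = 2 := orderOf_eq_prime h h1

/-- a group with an involution whose centraliser maps to a group of rank three -/
theorem card_le_of_hom {G U : Type} [Group G] [Finite G] [Group U] (hU : PRankLE 2 3 U) {w : G}
    (f : centralizer ({w} : Set G) →* U) (hf : ∀ x, f x = 1 → x = 1 ∨ (x : G) = w) {A : Subgroup G}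
    (hA : IsElementaryAbelian 2 A) (hw : w ∈ A) : Nat.card A ≤ 16 := by
  have hle : A ≤ centralizer ({w} : Set G) := fun a ha => mem_centralizer_singleton_iff.2 (elemAb_comm hA ha hw)
  let g : A →* U := f.comp (inclusion hle)
  have h1 : Nat.card g.range ≤ 2 ^ 3 := by
    have := elemAb_map (elemAb_of (p := 2) (E := (⊤ : Subgroup A))
      (fun a _ b _ => Subtype.ext (elemAb_comm hA a.2 b.2)) fun a _ => Subtype.ext (hA.2 a a.2)) g
    rw [← MonoidHom.range_eq_map] at this
    exact hU _ this.1 this.2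
  have h2 : Nat.card g.ker ≤ 2 := by
    have h3 : (g.ker : Set A) ⊆ {1, ⟨w, hw⟩} := fun x hx => by
      rcases hf _ hx with e | e
      · exact Or.inl (Subtype.ext (congrArg Subtype.val e :))
      · exact Or.inr (Subtype.ext e)
    exact (Set.ncard_le_ncard h3 (Set.toFinite _)).trans ((Set.ncard_insert_le _ _).trans (by rw [Set.ncard_singleton]))
  rw [← g.ker.card_mul_index, index_ker]
  exact Nat.mul_le_mul h2 h1

theorem rank {A : Subgroup Spor.Co3} (hA : IsElementaryAbelian 2 A) {r : ℕ} (hr : Nat.card A = 2 ^ r) : r ≤ 5 := by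
  obtain ⟨w, D⟩ := CTwoTab.Co3.exists_data
  have hf := CTwoTab.Co3.finite_G3
  have F : Spor.Co3 ≃* SporRec.Co3.Chain.G3 := SporRec.Co3.Model.equivCo3.symm
  have hf' : Finite Spor.Co3 := Finite.of_equiv _ F.symm.toEquiv
  by_cases h : ∃ a ∈ A, IsConj w (F a)
  · obtain ⟨a, ha, h⟩ := h
    obtain ⟨g, hg⟩ := isConj_iff.1 h.symm
    obtain ⟨f, -, hk⟩ := D.hom
    have h1 := card_le_of_hom (SevenLow.MTwelve.low D.iso) f hk
      (elemAb_map (elemAb_map hA F.toMonoidHom) (MulAut.conj g).toMonoidHom) ⟨F a, ⟨a, ha, rfl⟩, hg⟩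
    rw [card_map_of_injective (MulAut.conj g).injective, card_map_of_injective F.injective, hr] at h1
    exact ((Nat.pow_le_pow_iff_right (by norm_num)).1 (h1.trans_eq (by norm_num : 16 = 2 ^ 4))).trans (by norm_num)
  have h1 : ∀ a : A, a ≠ 1 → tr8 (toCo0.comp A.subtype a) = tr8 (toCo0 (F.symm SporRec.Co3.Ident.Z)) := fun a h1 => by
    obtain ⟨g, h2 | h2⟩ := D.cls (F a) (ord_two (by rw [← map_pow, hA.2 a a.2, map_one])
      fun e => h1 (Subtype.ext ((map_eq_one_iff F F.injective).1 e)))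
    · have h3 := congrArg (fun x => tr8 (toCo0 (F.symm x))) h2
      simp only [map_mul, map_inv, tr8_conj, MulEquiv.symm_apply_apply] at h3
      exact h3
    · exact absurd ⟨a, a.2, isConj_iff.2 ⟨g, h2.symm⟩⟩ h
  have h2 : orderOf (toCo0 (F.symm SporRec.Co3.Ident.Z)) = 2 := by
    rw [orderOf_injective _ toCo0_inj, MulEquiv.orderOf_eq, D.t2]
  rcases tr_cases (t := toCo0 (F.symm SporRec.Co3.Ident.Z)) (by rw [← pow_two, ← h2, pow_orderOf_eq_one])
    (fun e => by rw [e, orderOf_one] at h2; cases h2) with e | e | e | e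
  all_goals
    rw [e] at h1
    have h3 := dvd_of_tr _ h1
    rw [hr] at h3
    exact le_of_pow_dvd h3 (by decide)

theorem core : Core 2 Spor.Co3 := fun V _ _ _ ρ hf _ A hA => by
  have : Finite Spor.Co3 := @Finite.of_equiv _ _ CTwoTab.Co3.finite_G3 SporRec.Co3.Model.equivCo3.toEquiv
  refine ⟨A, hA, by_contra fun h => ?_⟩
  obtain ⟨r, -, h1, h2⟩ := nc_data hA h
  obtain ⟨⟨d, hd⟩, h3⟩ := ne_bot_iff_exists_ne_one.1 hA.2.1
  have h4 := le_cod_of_dimGe (H831.FF.RowCo3.cls (ord_two (hA.1.2 d hd) fun e => h3 (Subtype.ext e))).1 hf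
  have h5 := h2 d hd
  have h6 := rank hA.1 h1
  omega

end Cfsg.Agent.TwoF.SpB.C3
end

-- part: TwoF/SpB/Main
section
/-!
# TwoF SP-B: the rows of the Conway groups (helper24)
-/

set_option autoImplicit false

namespace Cfsg.Agent.TwoF.SpB

/-- **the row of `Co1`** -/
theorem row_Co1 (p : ℕ) [Fact p.Prime] : Row p Spor.Co1 := by
  by_cases hp : p = 2
  · subst hp
    exact row_of_core S2069.result S2043.result
      (fun d h1 h2 => ((Nat.dvd_prime Nat.prime_two).1 h1).resolve_right fun e => h2 (e ▸ dvd_rfl))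
      (C1W.core BMx.engBase)
  · exact SpO.row1 p hp

/-- **the row of `Co2`** -/
theorem row_Co2 (p : ℕ) [Fact p.Prime] : Row p Spor.Co2 := by
  by_cases hp : p = 2
  · subst hp
    exact row_of_core S2070.result S2044.result (fun d h _ => Nat.dvd_one.1 h) (C2W.core BMx.engBase)
  · exact SpO.row2 p hp

/-- **the row of `Co3`** -/
theorem row_Co3 (p : ℕ) [Fact p.Prime] : Row p Spor.Co3 := by
  by_cases hp : p = 2
  · subst hp
    exact row_of_core S2071.result S2045.result (fun d h _ => Nat.dvd_one.1 h) C3.core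
  · exact SpO.row3 p hp

end Cfsg.Agent.TwoF.SpB
end

private theorem dce_bacfbc15d938 : _root_.True := by
  try have : _root_.True := by simp only [_root_.Cfsg.Agent.TwoF.SpB.Wd.W.eq_1]
  try have : _root_.True := by simp only [_root_.Cfsg.Agent.TwoF.SpB.Wd.mapB.eq_1]
  try have : _root_.True := by simp only [_root_.Cfsg.Agent.TwoF.SpB.Wd.repB.eq_1]
  try have : _root_.True := by simp only [_root_.Cfsg.Agent.TwoF.SpB.Wd.powP.eq_1]
  exact _root_.True.intro
end

-- part: TwoF/SpA/M12
section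
prune_inst 0xb0302144442202000004051260001dc7fa0001000028000008400d02048adf4200000120ec801c02080a800400310028161810342010000020000400411d00a080aa5206b248a10426000f010006000000000000000000000000000000051004000000000
set_option linter.all false
open scoped Cfsg.Agent.FastGrp

/-!
# TwoF SP-A: the row `M12` (helper86)
-/

set_option autoImplicit false
set_option linter.unusedSectionVars false

namespace Cfsg.Agent.TwoF.SpA.M12

open Cfsg Module Gen Subgroup
open SporadicA.GolayBase SporadicA.GolayPerm SporadicStructure.M24El H729.Trans H729.MData H729.Count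
open J4.M24InvolData (P1 P2)
open scoped Pointwise

/-- the tables of elements of `M12` -/
def g12 (c : ℕ) : Bool := Nat.beq (pimg c 340831) 340831

/-- order 11 -/
def bx : ℕ := 735345505913612299192078699640062984
/-- a generator -/
def bX : ℕ := 818085329412963220387295629014214147
/-- a generator -/
def bY : ℕ := 477096268699603215719203957497858098
/-- an involution -/
def bd : ℕ := 230597461170820594591133681248833936
/-- order 3 -/
def bz : ℕ := 238263376278893385256826514887160384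
/-- order 3 -/
def bu : ℕ := 984644637122988982120502427423999488
/-- order 3 -/
def bz2 : ℕ := 984736747096243141453600946036867120
/-- order 3 -/
def bu2 : ℕ := 861422228340458470363505976489877554
/-- order 4 -/
def bi : ℕ := 305622300574010086570291784952596512
/-- order 4 -/
def bj : ℕ := 641554612260318451397381532556534816
/-- order 3 -/
def bw : ℕ := 305962337750339822429160486439340068
/-- interchanges two points -/
def be : ℕ := 305844377127812113134607728153761793
/-- interchanges two points -/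
def bs : ℕ := 305906413049823230703633028695037984
/-- a group of order 9 -/
def LR : List ℕ := [238263376278893385256826514887160384, 238332941169900283208122778148718688, 238409080524485082010973074457038208,
  921033928770474594201627819832811808, 921131378252173686388476600262337728, 921201196678770549392253329009088768,
  984644637122988982120502427423999488, 984720548920155097964205567319294016, 984818244535754528103549039458486304]
/-- a group of order 9 -/
def LR2 : List ℕ := [861057588226323351967154318249838633, 861422228340458470363505976489877554, 861503710764089936464288251617223720,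
  940241368003154801372902122626223142, 940606018205733377029232081584304163, 940687521621007569355100151093991468,
  984372098276488002915335088130900002, 984736747096243141453600946036867120, 984818244535754528103549039458486304]
/-- a quaternion group -/
def LQ : List ℕ := [305622300574010086570291784952596512, 466624011076989159304336436353177632, 601476417386228018602842719357766688,
  641554612260318451397381532556534816, 817435223784192840973166532989493280, 897875307309307564905936909826076704,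
  944496878599615485569661386094854176, 984818244535754528103549039458486304]
/-- generators of the offender -/
def gE : List ℕ := [217372073407925671434666431008056844, 217644956185435062498802276664681516, 236681085738091196965317018400171200]
/-- its elements -/
def LE : List ℕ := [217372073407925671434666431008056844, 217644956185435062498802276664681516, 236681085738091196965317018400171200,
  237035019059890633598361414335538432, 964889292800394141643853137663559884, 965266080816606811053007015647480076,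
  984522506754647797731288993272236544, 984818244535754528103549039458486304]
/-- elements of order 11 inverted by `P2` -/
def CW : List ℕ := [107105769189833700565771763600036224, 111929758108876672167770977692852629, 679770107746751870436250384596458058,
  633039766676757582287179060448633122, 778335433524662481093697664410195271, 142144526768565973849144977520137238,
  776359159316534935571506546191014535, 66210798482430204626247975258174159, 626244869843862105890481023834672672,
  976379339115984428186987419186616781, 914503522443358660169314870518013515, 958890455830487422451811885222570532,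
  551953735335934004303846224508913713, 344058677914586216653148282862064241, 48504436800365630886127957911876038,
  569148067470514549114608554369324550, 926967741550938693660644038617108968, 960619377285381612334857797369549395,
  601320979187607680183108559496554672, 970319914892972704704593940898624627, 384446870739315765843187634537009356,
  982057368113694692383355829394972068, 193962874564929157562997800597686326, 836449315682103431940678846769644214,
  652936729031224025933060156780251187, 319449754374881464482827285914866694, 486158002018431817843484030192994594,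
  231731032695091628865942943810673677, 633587896037308224555963278941520486, 722351974662981208867924670520908901,
  960870333551916042248123208260667765, 819130678099716484840630349470585027]
/-- generators of the stabiliser of a pair of points -/
def gH : List ℕ := [bz, bu, bz2, bu2, bs, bi, bj]

theorem scan : allR 12 0 (fun i => !Nat.beq (pimg P2 (enc i)) (enc i ^^^ 16777215) ||
    CW.any fun w => Nat.beq (pimg w (enc i)) (enc i)) = true := by (rewrite [Cfsg.Agent.GolayF.pimg_eq, Cfsg.Agent.GolayF.enc_eq]; decide +kernel)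

theorem fin_D : fin 340831 = Spor.squareDodecad := by decide +kernel

/-- the embedding of `M12` -/
noncomputable def E12 : Emb Spor.M12 g12 := ⟨inclusion inf_le_left, inclusion_injective _, fun c h1 h2 =>
  ⟨⟨el c, (el c).2, MulAction.mem_stabilizer_iff.2 (by
    rw [← fin_D]
    exact (el_smul_fin h1 _).trans (congrArg fin (Nat.eq_of_beq_eq_true h2)))⟩, rfl⟩⟩

section

variable {G : Type*} [Group G] [Finite G] {V : Type*} [AddCommGroup V] [Module (ZMod 2) V] [Finite V]
  {ρ : Representation (ZMod 2) G V}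

theorem two_dim {w : G} (hw : w ^ 3 = 1) {W U : Submodule (ZMod 2) V} (hW : Inv ρ (zpowers w) W)
    (h2 : finrank (ZMod 2) W = 2) (h1 : U ≤ W) (h3 : U ≤ fx ρ (zpowers w)) (h0 : U ≠ ⊥) : W ≤ fx ρ (zpowers w) :=
  fun v hv => mem_fx_zpowers.2 (eq_of_sub_one_sq (p := 2) hw (by norm_num) (mem_fx_zpowers.1 (h3
    (triv_of_lt Nat.prime_three (by norm_num) (n := 2) (fun d h1 h2 => by interval_cases d; decide) hw h1 (inv_of_le_fx h3) hW (by
      have := Submodule.one_le_finrank_iff.2 h0
      omega) v hv))))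

/-- a quaternion group normalised by an element of order 3 centralises a plane -/
theorem le_fx_quat {w i j : G} {Q : Subgroup G} (hQ : IsPGroup 2 Q) (hi : i ∈ Q) (hj : j ∈ Q) (hw : w ^ 3 = 1)
    (hn : w ∈ normalizer (Q : Set G)) (e1 : w * i * w⁻¹ = j) (e2 : w * j * w⁻¹ = i * j) {W : Submodule (ZMod 2) V}
    (hW : Inv ρ (zpowers w) W) (hW' : Inv ρ Q W) (h2 : finrank (ZMod 2) W = 2) {v : V} (hv : v ∈ W) :
    ρ i v = v ∧ ρ j v = v := by
  have h0 := inf_fx_ne_bot hQ hW' (fun e => by rw [e, finrank_bot] at h2; omega)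
  by_cases h : finrank (ZMod 2) ↥(W ⊓ fx ρ Q) < 2
  · have h3 := two_dim hw hW h2 inf_le_left (fun u hu => mem_fx_zpowers.2 (sub_eq_zero.1 ((Submodule.mem_bot _).1
      (triv_of_lt Nat.prime_three (by norm_num) (n := 2) (fun d h1 h2 => by interval_cases d; decide) hw bot_le (inv_bot _)
        (hW.inf (inv_fx (zpowers_le.2 hn))) (by rwa [finrank_bot, zero_add]) u hu)))) h0
    have h4 : ∀ a ∈ Q, ρ (w * a * w⁻¹) v = ρ a v := fun a ha => by
      rw [rho_mul, rho_mul, h3 hv _ (inv_mem (mem_zpowers w)), h3 (hW' a ha v hv) _ (mem_zpowers w)]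
    have h5 := h4 i hi
    have h6 := h4 j hj
    rw [e1] at h5
    rw [e2, rho_mul, h5] at h6
    have h7 := rho_injective ρ i h6
    exact ⟨h7, h5.trans h7⟩
  · have h3 : v ∈ W ⊓ fx ρ Q := (Submodule.eq_of_le_of_finrank_le inf_le_left (h2.trans_le (not_lt.1 h))).ge hv
    exact ⟨h3.2 i hi, h3.2 j hj⟩

variable (E : Emb G g12)

private noncomputable def _root_.Cfsg.Agent.GolayF.f0 : {f // @Cfsg.Agent.TwoF.SpA.M12.g12 = f} :=
  ⟨_, by delta Cfsg.Agent.TwoF.SpA.M12.g12; rewrite [Cfsg.Agent.GolayF.pimg_eq]; exact rfl⟩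

theorem same {v : V} (hv : ∀ c ∈ gH, E.l c ∈ stab ρ v) (a b : Wd) (w : List ℕ)
    (h : (a.chk g12 && (b.chk g12 && Nat.beq a.val (pcomp b.val (prodW gH w)))) = true) :
    ρ (a.ev E.l) v = ρ (b.ev E.l) v := by
  rw [Bool.and_eq_true, Bool.and_eq_true, Nat.beq_eq] at h
  have h0 : (gH.all fun c => ok c && g12 c) = true := by (rewrite [Cfsg.Agent.GolayF.f0.2, Cfsg.Agent.GolayF.ok_eq]; decide +kernel)
  obtain ⟨x, h1, h2⟩ := E.prod_mem h0 hv w
  rw [show a.ev E.l = b.ev E.l * x from E.inj (by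
    rw [map_mul, (E.spec a h.1).2, (E.spec b h.2.1).2, h.2.2, h2, el_pcomp (E.spec b h.2.1).1
      (ok_prodW (fun P hP => (Bool.and_eq_true_iff.1 (List.all_eq_true.1 h0 P hP)).1) w)]), rho_mul, mem_stab.1 h1]

private noncomputable def _root_.Cfsg.Agent.GolayF.f1 : {f // @Cfsg.Agent.TwoF.SpA.Wd.chk = f} :=
  ⟨_, by delta Cfsg.Agent.TwoF.SpA.Wd.chk Cfsg.Agent.TwoF.SpA.Wd.chk._f; rewrite [Cfsg.Agent.GolayF.ok_eq]; exact rfl⟩

private noncomputable def _root_.Cfsg.Agent.GolayF.f2 : {f // @Cfsg.Agent.TwoF.SpA.Wd.val = f} :=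
  ⟨_, by delta Cfsg.Agent.H729.MData.ppow Cfsg.Agent.H729.MData.ppow._f Cfsg.Agent.TwoF.SpA.Wd.val Cfsg.Agent.TwoF.SpA.Wd.val._f; rewrite [Cfsg.Agent.GolayF.pcomp_eq]; exact rfl⟩

theorem x11 : E.l bx ^ 11 = 1 := E.pow _ _ (by (rewrite [Cfsg.Agent.GolayF.f0.2, Cfsg.Agent.GolayF.f1.2, Cfsg.Agent.GolayF.f2.2]; decide +kernel))
theorem x1 : E.l bx ≠ 1 := E.ne_one (.c _) (by (rewrite [Cfsg.Agent.GolayF.f0.2, Cfsg.Agent.GolayF.f1.2, Cfsg.Agent.GolayF.f2.2, Cfsg.Agent.GolayF.pcomp_eq]; decide +kernel))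

private noncomputable def _root_.Cfsg.Agent.GolayF.f3 : {f // @Cfsg.Agent.SporadicStructure.M24El.prodW = f} :=
  ⟨_, by delta Cfsg.Agent.SporadicStructure.M24El.prodW Cfsg.Agent.SporadicStructure.M24El.prodW._f; rewrite [Cfsg.Agent.GolayF.pcomp_eq]; exact rfl⟩

private noncomputable def _root_.Cfsg.Agent.GolayF.f4 : {f // @Cfsg.Agent.H729.MData.ppow = f} :=
  ⟨_, by delta Cfsg.Agent.H729.MData.ppow Cfsg.Agent.H729.MData.ppow._f; rewrite [Cfsg.Agent.GolayF.pcomp_eq]; exact rfl⟩

private noncomputable def _root_.Cfsg.Agent.GolayF.f5 : {f // @Cfsg.Agent.TwoF.SpA.Emb.prods = f} :=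
  ⟨_, by delta Cfsg.Agent.TwoF.SpA.Emb.prods Cfsg.Agent.TwoF.SpA.Emb.prods._f; rewrite [Cfsg.Agent.GolayF.pcomp_eq]; exact rfl⟩

private noncomputable def _root_.Cfsg.Agent.GolayF.f6 : {f // @Cfsg.Agent.TwoF.SpA.Emb.lst = f} :=
  ⟨_, by delta Cfsg.Agent.TwoF.SpA.Emb.lst; rewrite [Cfsg.Agent.GolayF.pcomp_eq, Cfsg.Agent.GolayF.ok_eq]; exact rfl⟩

/-- the case of dimension 10 -/
theorem small_case (hM : ∀ x, (E.ψ x : Equiv.Perm GolayPt) ∈ Spor.M12) (hf : Function.Injective ρ)
    (h1 : fx ρ ⊤ = ⊥) (h2 : cm ρ ⊤ ⊤ = ⊤) (hc : cod ρ (zpowers (E.l bx)) = 10) : ∃ B, Off 2 ρ B := by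
  have h0 : closure {E.l bX, E.l bY} = ⊤ :=
    E.gen_of (by (rewrite [Cfsg.Agent.GolayF.f0.2, Cfsg.Agent.GolayF.f1.2]; decide +kernel)) (by (rewrite [Cfsg.Agent.GolayF.f0.2, Cfsg.Agent.GolayF.f1.2]; decide +kernel)) (by
      rw [coe_el_eq (X := H994.TwoGen.M12.X) (by (rewrite [Cfsg.Agent.GolayF.ok_eq]; decide +kernel)) (by (rewrite [Cfsg.Agent.GolayF.papp_eq]; decide +kernel)),
        coe_el_eq (X := H994.TwoGen.M12.Y) (by (rewrite [Cfsg.Agent.GolayF.ok_eq]; decide +kernel)) (by (rewrite [Cfsg.Agent.GolayF.papp_eq]; decide +kernel))]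
      exact H994.TwoGen.M12.closure_eq) hM
  have n13 := dim_le_thirteen (E.not_dvd (by norm_num)) h1 h2 (E.gen₂ h0 bY bx [1, 1, 1, 1, 1, 1] [0] (by (rewrite [Cfsg.Agent.GolayF.f3.2, Cfsg.Agent.GolayF.f0.2, Cfsg.Agent.GolayF.f1.2, Cfsg.Agent.GolayF.ok_eq]; decide +kernel)))
    (E.pow _ _ (by (rewrite [Cfsg.Agent.GolayF.f0.2, Cfsg.Agent.GolayF.f1.2, Cfsg.Agent.GolayF.f2.2]; decide +kernel))) (x11 E) (x1 E) (E.one (.pw (.mul (.c _) (.c bx)) 11) (by (rewrite [Cfsg.Agent.GolayF.f0.2, Cfsg.Agent.GolayF.f1.2, Cfsg.Agent.GolayF.f2.2]; decide +kernel)))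
    (E.ne_one (.mul (.c _) (.c bx)) (by (rewrite [Cfsg.Agent.GolayF.f0.2, Cfsg.Agent.GolayF.f1.2, Cfsg.Agent.GolayF.f2.2, Cfsg.Agent.GolayF.pcomp_eq]; decide +kernel))) hc
  have hR := E.elemAb_sub 3 [bz, bu] (by (rewrite [Cfsg.Agent.GolayF.f4.2, Cfsg.Agent.GolayF.f0.2, Cfsg.Agent.GolayF.pcomp_eq, Cfsg.Agent.GolayF.ok_eq]; decide +kernel))
  have m1 : E.l bz ∈ E.sub [bz, bu] := E.mem_sub (by simp)
  have m2 : E.l bu ∈ E.sub [bz, bu] := E.mem_sub (by simp)
  have eR : zpowers (E.l bz) ⊔ zpowers (E.l bu) = E.sub [bz, bu] :=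
    le_antisymm (sup_le (zpowers_le.2 m1) (zpowers_le.2 m2)) (E.sub_le fun c hc => by
      rcases List.mem_pair.1 hc with rfl | rfl
      · exact mem_sup_left (mem_zpowers _)
      · exact mem_sup_right (mem_zpowers _))
  obtain ⟨c6, c8⟩ : cod ρ (zpowers (E.l bz)) = 6 ∧ cod ρ (E.sub [bz, bu]) = 8 := by
    have h3 := sum_cod_rank_two (ρ := ρ) (elemAb_comm hR m2 m1) Nat.prime_three (by decide) (hR.2 _ m2) (hR.2 _ m1)
    rw [Finset.sum_range_succ, Finset.sum_range_succ, Finset.sum_range_one, eR,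
      ← show E.l bi * E.l bz * (E.l bi)⁻¹ = E.l bu * E.l bz ^ 0 from
        E.conj (.c _) (.c _) (.mul (.c _) (.pw (.c _) 0)) (by (rewrite [Cfsg.Agent.GolayF.f0.2, Cfsg.Agent.GolayF.f1.2, Cfsg.Agent.GolayF.f2.2]; decide +kernel)),
      ← show E.l 817435223784192840973166532989493280 * E.l bz * (E.l _)⁻¹ = E.l bu * E.l bz ^ 1 from
        E.conj (.c _) (.c _) (.mul (.c _) (.pw (.c _) 1)) (by (rewrite [Cfsg.Agent.GolayF.f0.2, Cfsg.Agent.GolayF.f1.2, Cfsg.Agent.GolayF.f2.2]; decide +kernel)),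
      ← show E.l bj * E.l bz * (E.l bj)⁻¹ = E.l bu * E.l bz ^ 2 from
        E.conj (.c _) (.c _) (.mul (.c _) (.pw (.c _) 2)) (by (rewrite [Cfsg.Agent.GolayF.f0.2, Cfsg.Agent.GolayF.f1.2, Cfsg.Agent.GolayF.f2.2]; decide +kernel)),
      cod_zpowers_conj, cod_zpowers_conj, cod_zpowers_conj] at h3
    have h4 := two_dvd_cod (ρ := ρ) (hR.2 _ m1)
    have h5 := cod_pos hf fun e => E.ne_one (.c bz) (by (rewrite [Cfsg.Agent.GolayF.f0.2, Cfsg.Agent.GolayF.f1.2, Cfsg.Agent.GolayF.f2.2, Cfsg.Agent.GolayF.pcomp_eq]; decide +kernel)) (zpowers_eq_bot.1 e)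
    have h6 := cod_le_finrank (ρ := ρ) (E.sub [bz, bu])
    change 0 < cod ρ (zpowers (E.l bz)) at h5
    omega
  have n10 : finrank (ZMod 2) V = 10 := by
    have h3 := dim_le_of_gen h1 h2 (E.gen₂ h0 bd bx [1, 1, 1, 1, 1, 1]
      [0, 1, 0, 1, 1, 1, 0, 1, 1, 1, 1, 0, 1, 1, 1, 1, 0, 1, 1, 0, 1, 1, 1, 1, 1, 1] (by (rewrite [Cfsg.Agent.GolayF.f3.2, Cfsg.Agent.GolayF.f0.2, Cfsg.Agent.GolayF.f1.2, Cfsg.Agent.GolayF.ok_eq]; decide +kernel)))
      (E.pow _ _ (by (rewrite [Cfsg.Agent.GolayF.f0.2, Cfsg.Agent.GolayF.f1.2, Cfsg.Agent.GolayF.f2.2]; decide +kernel))) (x11 E) (l := 1) (m := 1) (by norm_num)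
    rw [← cod_zpowers_conj (E.l 236664826955334994097333266406181922) (E.l bd * _),
      show E.l 236664826955334994097333266406181922 * (E.l bd * E.l bx ^ 1) * (E.l _)⁻¹ = E.l bz from
        E.conj (.c _) (.mul (.c _) (.pw (.c _) 1)) (.c _) (by (rewrite [Cfsg.Agent.GolayF.f0.2, Cfsg.Agent.GolayF.f1.2, Cfsg.Agent.GolayF.f2.2]; decide +kernel))] at h3
    have h4 := cod_le_finrank (ρ := ρ) (zpowers (E.l bx))
    omega
  have lR : ∀ c ∈ LR, E.l c ∈ E.sub [bz, bu] := fun c hc =>
    (E.prods_mem (gl := [bz, bz, bu, bu]) (by (rewrite [Cfsg.Agent.GolayF.f0.2, Cfsg.Agent.GolayF.ok_eq]; decide +kernel)) (by simpa using ⟨m1, m2⟩) c (List.mem_of_elem_eq_true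
      (List.all_eq_true.1 (by (rewrite [Cfsg.Agent.GolayF.f5.2]; decide +kernel) : LR.all (Emb.prods [bz, bz, bu, bu]).elem = true) c hc))).2.2
  have lR2 : ∀ c ∈ LR2, E.l c ∈ E.sub [bz2, bu2] := fun c hc =>
    (E.prods_mem (gl := [bz2, bz2, bu2, bu2]) (by (rewrite [Cfsg.Agent.GolayF.f0.2, Cfsg.Agent.GolayF.ok_eq]; decide +kernel)) (fun c hc => E.mem_sub (by simpa using hc)) c
      (List.mem_of_elem_eq_true
        (List.all_eq_true.1 (by (rewrite [Cfsg.Agent.GolayF.f5.2]; decide +kernel) : LR2.all (Emb.prods [bz2, bz2, bu2, bu2]).elem = true) c hc))).2.2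
  have lQ : ∀ c ∈ LQ, E.l c ∈ E.sub [bi, bj] := fun c hc =>
    (E.prods_mem (gl := [bi, bi, bi, bj]) (by (rewrite [Cfsg.Agent.GolayF.f0.2, Cfsg.Agent.GolayF.ok_eq]; decide +kernel)) (fun c hc => E.mem_sub (by simpa using hc)) c
      (List.mem_of_elem_eq_true
        (List.all_eq_true.1 (by (rewrite [Cfsg.Agent.GolayF.f5.2]; decide +kernel) : LQ.all (Emb.prods [bi, bi, bi, bj]).elem = true) c hc))).2.2
  have eQ := fun x => E.enum (gl := [bi, bj]) (L := LQ) (x := x) (by (rewrite [Cfsg.Agent.GolayF.f6.2, Cfsg.Agent.GolayF.f0.2]; decide +kernel)) (by (rewrite [Cfsg.Agent.GolayF.f0.2, Cfsg.Agent.GolayF.pcomp_eq, Cfsg.Agent.GolayF.ok_eq]; decide +kernel))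
  have hQ : IsPGroup 2 (E.sub [bi, bj]) := fun g => ⟨2, Subtype.ext (by
    obtain ⟨c, h3, h4⟩ := eQ g g.2
    change (g : G) ^ 4 = 1
    rw [h4]
    exact E.pow c 4 (List.all_eq_true.1 (by (rewrite [Cfsg.Agent.GolayF.f0.2, Cfsg.Agent.GolayF.f1.2, Cfsg.Agent.GolayF.f2.2]; decide +kernel) : (LQ.all fun c => (Wd.pw (.c c) 4).chk g12 &&
      Nat.beq (Wd.pw (.c c) 4).val idP) = true) c h3))⟩
  have nQ : E.sub [bi, bj] ≤ normalizer (E.sub [bz, bu] : Set G) := E.sub_le fun c hc => by
    rcases List.mem_pair.1 hc with rfl | rfl <;> exact E.norm_sub lR _ (by (rewrite [Cfsg.Agent.GolayF.f0.2, Cfsg.Agent.GolayF.f1.2, Cfsg.Agent.GolayF.pcomp_eq]; decide +kernel))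
  have c7 : 7 ≤ cod ρ (E.sub [bi, bj]) := by
    have h3 := frobenius_bound (ρ := ρ) (fun a ha b hb => elemAb_comm hR ha hb)
      (card_ne_zero_of_exp Nat.prime_three (by decide) hR.2) nQ fun a ha a1 r hr e => by
        obtain ⟨c, h3, rfl⟩ := eQ a ha
        obtain ⟨d, h4, rfl⟩ := E.enum (gl := [bz, bu]) (L := LR) (by (rewrite [Cfsg.Agent.GolayF.f6.2, Cfsg.Agent.GolayF.f0.2]; decide +kernel)) (by (rewrite [Cfsg.Agent.GolayF.f0.2, Cfsg.Agent.GolayF.pcomp_eq, Cfsg.Agent.GolayF.ok_eq]; decide +kernel)) hr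
        rcases Bool.or_eq_true_iff.1 (List.all_eq_true.1 (List.all_eq_true.1 (by (rewrite [Cfsg.Agent.GolayF.f0.2, Cfsg.Agent.GolayF.f1.2, Cfsg.Agent.GolayF.f2.2, Cfsg.Agent.GolayF.pcomp_eq]; decide +kernel) :
          (LQ.all fun c => LR.all fun d => (Nat.beq c idP || Nat.beq d idP) || (((Wd.c c).mul (.c d)).chk g12 &&
            (((Wd.c d).mul (.c c)).chk g12 && !Nat.beq (pcomp ((Wd.c c).mul (.c d)).val idP)
              (pcomp ((Wd.c d).mul (.c c)).val idP)))) = true) c h3) d h4) with h | h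
        · rcases Bool.or_eq_true_iff.1 h with h | h
          · exact absurd (Nat.eq_of_beq_eq_true h ▸ E.l_idP) a1
          · exact Nat.eq_of_beq_eq_true h ▸ E.l_idP
        · exact absurd e (E.ne _ _ h)
    have h4 : 8 ≤ _ := E.length_le (L := LQ) (by (rewrite [Cfsg.Agent.GolayF.f6.2, Cfsg.Agent.GolayF.f0.2]; decide +kernel)) lQ
    by_contra! h
    have h5 := h3.trans (Nat.mul_le_mul_left _ (Nat.le_of_lt_succ h))
    rw [c8] at h5
    omega
  have hw : E.l bw ^ 3 = 1 := E.pow _ _ (by (rewrite [Cfsg.Agent.GolayF.f0.2, Cfsg.Agent.GolayF.f1.2, Cfsg.Agent.GolayF.f2.2]; decide +kernel))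
  have iW : Inv ρ (zpowers (E.l bw)) (fx ρ (E.sub [bz, bu])) :=
    inv_fx (zpowers_le.2 (E.norm_sub lR _ (by (rewrite [Cfsg.Agent.GolayF.f0.2, Cfsg.Agent.GolayF.f1.2, Cfsg.Agent.GolayF.pcomp_eq]; decide +kernel))))
  have dW : finrank (ZMod 2) (fx ρ (E.sub [bz, bu])) = 2 := by
    have := cod_add (ρ := ρ) (E.sub [bz, bu]); omega
  have WQ : fx ρ (E.sub [bz, bu]) ≤ fx ρ (E.sub [bi, bj]) := fun v hv => by
    obtain ⟨h3, h4⟩ := le_fx_quat hQ (E.mem_sub (c := bi) (by simp)) (E.mem_sub (c := bj) (by simp)) hw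
      (E.norm_sub lQ _ (by (rewrite [Cfsg.Agent.GolayF.f0.2, Cfsg.Agent.GolayF.f1.2, Cfsg.Agent.GolayF.pcomp_eq]; decide +kernel))) (E.conj (.c bw) (.c bi) (.c bj) (by (rewrite [Cfsg.Agent.GolayF.f0.2, Cfsg.Agent.GolayF.f1.2, Cfsg.Agent.GolayF.f2.2]; decide +kernel)))
      (E.conj (.c bw) (.c bj) (.mul (.c bi) (.c bj)) (by (rewrite [Cfsg.Agent.GolayF.f0.2, Cfsg.Agent.GolayF.f1.2, Cfsg.Agent.GolayF.f2.2]; decide +kernel))) iW (inv_fx nQ) dW hv
    exact mem_fx_iff_le.2 (E.sub_le fun c hc => by rcases List.mem_pair.1 hc with rfl | rfl <;> assumption)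
  have e1 : E.l be * E.l bz * (E.l be)⁻¹ = E.l bz2 := E.conj (.c _) (.c _) (.c _) (by (rewrite [Cfsg.Agent.GolayF.f0.2, Cfsg.Agent.GolayF.f1.2, Cfsg.Agent.GolayF.f2.2]; decide +kernel))
  have e2 : E.l be * E.l bu * (E.l be)⁻¹ = E.l bu2 := E.conj (.c _) (.c _) (.c _) (by (rewrite [Cfsg.Agent.GolayF.f0.2, Cfsg.Agent.GolayF.f1.2, Cfsg.Agent.GolayF.f2.2]; decide +kernel))
  have eR2 : fx ρ (E.sub [bz2, bu2]) = (fx ρ (E.sub [bz, bu])).map (ρ (E.l be)) := by
    rw [← fx_conj]
    refine congrArg _ (le_antisymm (E.sub_le fun c hc => ?_) (map_le_iff_le_comap.2 (E.sub_le fun c hc => ?_)))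
    · rcases List.mem_pair.1 hc with rfl | rfl
      · exact ⟨_, m1, e1⟩
      · exact ⟨_, m2, e2⟩
    · rcases List.mem_pair.1 hc with rfl | rfl
      · exact mem_comap.2 (e1.symm ▸ E.mem_sub (c := bz2) (by simp) : E.l be * _ * _ ∈ _)
      · exact mem_comap.2 (e2.symm ▸ E.mem_sub (c := bu2) (by simp) : E.l be * _ * _ ∈ _)
  have WQ2 : fx ρ (E.sub [bz2, bu2]) ≤ fx ρ (E.sub [bi, bj]) := by
    rw [eR2]
    rintro _ ⟨v, hv, rfl⟩
    exact inv_fx le_rfl _ (E.norm_sub lQ _ (by (rewrite [Cfsg.Agent.GolayF.f0.2, Cfsg.Agent.GolayF.f1.2, Cfsg.Agent.GolayF.pcomp_eq]; decide +kernel))) v (WQ hv)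
  obtain ⟨v, ⟨⟨v1, v2⟩, v3⟩, v0⟩ := (Submodule.ne_bot_iff _).1 (inf_fx_ne_bot (ρ := ρ)
    (elemAb_isPGroup (elemAb_zpowers (E.pow bs 2 (by (rewrite [Cfsg.Agent.GolayF.f0.2, Cfsg.Agent.GolayF.f1.2, Cfsg.Agent.GolayF.f2.2]; decide +kernel)))))
    ((inv_fx (zpowers_le.2 (E.norm_sub lR _ (by (rewrite [Cfsg.Agent.GolayF.f0.2, Cfsg.Agent.GolayF.f1.2, Cfsg.Agent.GolayF.pcomp_eq]; decide +kernel))))).inf
      (inv_fx (zpowers_le.2 (E.norm_sub lR2 _ (by (rewrite [Cfsg.Agent.GolayF.f0.2, Cfsg.Agent.GolayF.f1.2, Cfsg.Agent.GolayF.pcomp_eq]; decide +kernel)))))) fun e => by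
      have h3 := Submodule.finrank_sup_add_finrank_inf_eq (fx ρ (E.sub [bz, bu])) (fx ρ (E.sub [bz2, bu2]))
      have h4 := Submodule.finrank_mono (sup_le WQ WQ2)
      have h5 := cod_add (ρ := ρ) (E.sub [bi, bj])
      have h6 : finrank (ZMod 2) (fx ρ (E.sub [bz2, bu2])) = 2 := by rw [eR2, finrank_map_rho, dW]
      rw [e, finrank_bot, dW, h6] at h3
      omega)
  have hv : ∀ c ∈ gH, E.l c ∈ stab ρ v := fun c hc => by
    simp only [gH, List.mem_cons, List.not_mem_nil, or_false] at hc
    rcases hc with rfl | rfl | rfl | rfl | rfl | rfl | rfl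
    exacts [v1 _ m1, v1 _ m2, v2 _ (E.mem_sub (by simp)), v2 _ (E.mem_sub (by simp)), v3 _ (mem_zpowers _),
      WQ v1 _ (E.mem_sub (by simp)), WQ v1 _ (E.mem_sub (by simp))]
  have tri : v + ρ (E.l bw) v + ρ (E.l bw ^ 2) v = 0 := by
    by_contra h
    have h3 := two_dim hw iW dW inf_le_left inf_le_right ((Submodule.ne_bot_iff _).2 ⟨_, ⟨add_mem (add_mem v1
      (iW _ (mem_zpowers _) v v1)) (iW _ (pow_mem (mem_zpowers _) 2) v v1), mem_fx_zpowers.2 (by
        rw [map_add, map_add, ← rho_mul, ← rho_mul, ← pow_two, ← pow_succ', hw, rho_one]; abel)⟩, h⟩) v1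
    have h4 := E.gen h0 (gH ++ [bw]) (H := stab ρ v) (fun c hc => (List.mem_append.1 hc).elim (hv c) fun hc =>
      List.mem_singleton.1 hc ▸ mem_fx_zpowers.1 h3) [0, 4, 5, 2, 0, 7, 3] [2, 3, 6, 7, 3, 7, 3, 5] (by (rewrite [Cfsg.Agent.GolayF.f3.2, Cfsg.Agent.GolayF.f0.2, Cfsg.Agent.GolayF.f1.2, Cfsg.Agent.GolayF.ok_eq]; decide +kernel))
    exact v0 ((Submodule.mem_bot _).1 (h1 ▸ mem_fx_iff_le.2 h4.ge))
  let f : ℕ → V := fun k => ρ (E.l bx ^ k) v
  let u : Fin 6 → V := ![f 9, f 7, f 4, f 8, f 5, f 10]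
  let M := fx ρ (E.sub gE) ⊔ Submodule.span (ZMod 2) (Set.range u)
  have hu : ∀ i, u i ∈ M := fun i => Submodule.mem_sup_right (Submodule.subset_span ⟨i, rfl⟩)
  have pair : ∀ (g a b : ℕ) (w1 w2 : List ℕ) (ws : List (ℕ × List ℕ)),
      ((Wd.c g).chk g12 && ((Wd.pw (.c bx) a).chk g12 && Nat.beq g (pcomp (ppow bx a) (prodW gH w1)))) = true →
      (((Wd.c g).mul (.pw (.c bw) 2)).chk g12 && ((Wd.pw (.c bx) b).chk g12 &&
        Nat.beq (pcomp g (ppow bw 2)) (pcomp (ppow bx b) (prodW gH w2)))) = true →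
      (gE.all fun e => ws.any fun w => ((Wd.c e).mul ((Wd.c g).mul (.c bw))).chk g12 && (((Wd.c g).mul (.c bw)).chk g12 &&
        Nat.beq (pcomp e (pcomp g bw)) (pcomp (pcomp g bw) (prodW gH w.2)))) = true → f a ∈ M → f b ∈ M :=
    fun g a b w1 w2 ws k1 k2 k3 k4 => by
      have k5 := congrArg (ρ (E.l g)) tri
      rw [map_add, map_add, map_zero, ← rho_mul, ← rho_mul,
        show ρ (E.l g) v = f a from same E hv (.c g) (.pw (.c bx) a) w1 k1,
        show ρ (E.l g * E.l bw ^ 2) v = f b from same E hv (.mul (.c g) (.pw (.c bw) 2)) (.pw (.c bx) b) w2 k2] at k5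
      rw [eq_neg_of_add_eq_zero_right k5]
      refine neg_mem (add_mem k4 (Submodule.mem_sup_left (mem_fx_iff_le.2 (E.sub_le fun e he => ?_))))
      obtain ⟨w, -, k6⟩ := List.any_eq_true.1 (List.all_eq_true.1 k3 e he)
      exact (rho_mul ρ _ _ v).symm.trans (same E hv (.mul (.c e) (.mul (.c g) (.c bw))) (.mul (.c g) (.c bw)) w.2 k6)
  have f0 : f 0 ∈ M := Submodule.mem_sup_left (by
    rw [show f 0 = v by simp [f]]
    refine mem_fx_iff_le.2 (E.sub_le fun e he => ?_)
    simp only [gE, List.mem_cons, List.not_mem_nil, or_false] at he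
    rcases he with rfl | rfl | rfl
    exacts [E.mem gH hv [1, 1, 3, 0, 1] (.c _) (by (rewrite [Cfsg.Agent.GolayF.f3.2, Cfsg.Agent.GolayF.f0.2, Cfsg.Agent.GolayF.f1.2, Cfsg.Agent.GolayF.f2.2, Cfsg.Agent.GolayF.ok_eq]; decide +kernel)), E.mem gH hv [2, 3, 3, 4] (.c _) (by (rewrite [Cfsg.Agent.GolayF.f3.2, Cfsg.Agent.GolayF.f0.2, Cfsg.Agent.GolayF.f1.2, Cfsg.Agent.GolayF.f2.2, Cfsg.Agent.GolayF.ok_eq]; decide +kernel)),
      E.mem gH hv [5, 1, 4] (.c _) (by (rewrite [Cfsg.Agent.GolayF.f3.2, Cfsg.Agent.GolayF.f0.2, Cfsg.Agent.GolayF.f1.2, Cfsg.Agent.GolayF.f2.2, Cfsg.Agent.GolayF.ok_eq]; decide +kernel))])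
  have f6 := pair 818255129380137855644406305253277804 9 6 [0, 0, 3, 1] [2, 1, 1, 4]
    [(0, [5, 4]), (0, [1, 2, 5, 4]), (0, [5, 5, 2])] (by (rewrite [Cfsg.Agent.GolayF.f4.2, Cfsg.Agent.GolayF.f3.2, Cfsg.Agent.GolayF.f0.2, Cfsg.Agent.GolayF.f1.2, Cfsg.Agent.GolayF.pcomp_eq]; decide +kernel)) (by (rewrite [Cfsg.Agent.GolayF.f4.2, Cfsg.Agent.GolayF.f3.2, Cfsg.Agent.GolayF.f0.2, Cfsg.Agent.GolayF.f1.2, Cfsg.Agent.GolayF.pcomp_eq]; decide +kernel)) (by (rewrite [Cfsg.Agent.GolayF.f3.2, Cfsg.Agent.GolayF.f0.2, Cfsg.Agent.GolayF.f1.2, Cfsg.Agent.GolayF.pcomp_eq]; decide +kernel)) (hu 0)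
  have f2 := pair 588326409025382894010632392386293865 7 2 [2, 5, 2, 6] [2, 0, 2, 4]
    [(0, [4, 5]), (0, [0, 3, 4, 5]), (0, [5, 2, 4])] (by (rewrite [Cfsg.Agent.GolayF.f4.2, Cfsg.Agent.GolayF.f3.2, Cfsg.Agent.GolayF.f0.2, Cfsg.Agent.GolayF.f1.2, Cfsg.Agent.GolayF.pcomp_eq]; decide +kernel)) (by (rewrite [Cfsg.Agent.GolayF.f4.2, Cfsg.Agent.GolayF.f3.2, Cfsg.Agent.GolayF.f0.2, Cfsg.Agent.GolayF.f1.2, Cfsg.Agent.GolayF.pcomp_eq]; decide +kernel)) (by (rewrite [Cfsg.Agent.GolayF.f3.2, Cfsg.Agent.GolayF.f0.2, Cfsg.Agent.GolayF.f1.2, Cfsg.Agent.GolayF.pcomp_eq]; decide +kernel)) (hu 1)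
  have f1 := pair 843960858781243574766877032241502226 4 1 [0, 0, 3, 5] [2, 4, 6]
    [(0, [5, 1, 5]), (0, [3, 0, 4, 5]), (0, [3, 5, 5])] (by (rewrite [Cfsg.Agent.GolayF.f4.2, Cfsg.Agent.GolayF.f3.2, Cfsg.Agent.GolayF.f0.2, Cfsg.Agent.GolayF.f1.2, Cfsg.Agent.GolayF.pcomp_eq]; decide +kernel)) (by (rewrite [Cfsg.Agent.GolayF.f4.2, Cfsg.Agent.GolayF.f3.2, Cfsg.Agent.GolayF.f0.2, Cfsg.Agent.GolayF.f1.2, Cfsg.Agent.GolayF.pcomp_eq]; decide +kernel)) (by (rewrite [Cfsg.Agent.GolayF.f3.2, Cfsg.Agent.GolayF.f0.2, Cfsg.Agent.GolayF.f1.2, Cfsg.Agent.GolayF.pcomp_eq]; decide +kernel)) (hu 2)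
  have hx : fx ρ (zpowers (E.l bx)) = ⊥ := Submodule.finrank_eq_zero.1 (by
    have := cod_add (ρ := ρ) (zpowers (E.l bx)); omega)
  have fs : ∀ k, ρ (E.l bx) (f k) = f (k + 1) := fun k => by rw [← rho_mul, ← pow_succ']
  have f3 : f 3 ∈ M := by
    have h3 : ∑ k ∈ Finset.range 11, f k = 0 := (Submodule.mem_bot _).1 (hx ▸ mem_fx_zpowers.2 (by
      have := (Finset.sum_range_succ' f 11).symm.trans (Finset.sum_range_succ f 11)
      rw [show f 11 = f 0 by simp only [f, x11 E, pow_zero]] at this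
      rw [map_sum, Finset.sum_congr rfl fun k _ => fs k, add_right_cancel this]))
    simp only [Finset.sum_range_succ, Finset.sum_range_zero] at h3
    rw [show f 3 = -(f 0 + f 1 + f 2 + u 2 + u 4 + f 6 + u 1 + u 3 + u 0 + u 5) from
      eq_neg_of_add_eq_zero_left (Eq.trans (by simp only [u]; simp; abel) h3)]
    exact neg_mem (add_mem (add_mem (add_mem (add_mem (add_mem (add_mem (add_mem (add_mem (add_mem f0 f1) f2) (hu _))
      (hu _)) f6) (hu _)) (hu _)) (hu _)) (hu _))
  have h3 : Submodule.span (ZMod 2) (Set.range f) ≤ M := Submodule.span_le.2 (by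
    rintro _ ⟨k, rfl⟩
    rw [show f k = f (k % 11) from congrArg (ρ · v) (pow_eq_pow_mod k (x11 E))]
    have := Nat.mod_lt k (show 0 < 11 by norm_num)
    generalize k % 11 = m at this
    interval_cases m
    exacts [f0, f1, f2, f3, hu 2, hu 4, f6, hu 1, hu 3, hu 0, hu 5])
  have h4 : 10 ≤ finrank (ZMod 2) (Submodule.span (ZMod 2) (Set.range f)) := by
    by_contra! h
    have h5 := triv_of_lt (ρ := ρ) (s := 11) (n := 10) (by norm_num) (by norm_num)
      (fun d h1 h2 => by interval_cases d <;> decide) (x11 E) (W := Submodule.span (ZMod 2) (Set.range f)) bot_le (inv_bot _)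
      (fun b hb a ha => by
        obtain ⟨m, rfl⟩ := mem_powers_iff_mem_zpowers.2 hb
        refine (Submodule.map_span_le (ρ (E.l bx ^ m)) _ (Submodule.span (ZMod 2) (Set.range f))).2 ?_ ⟨a, ha, rfl⟩
        rintro _ ⟨k, rfl⟩
        exact Submodule.subset_span ⟨m + k, by simp only [f, pow_add, rho_mul]⟩)
      (by rwa [finrank_bot, zero_add]) v (Submodule.subset_span ⟨0, by simp [f]⟩)
    exact v0 ((Submodule.mem_bot _).1 (hx ▸ mem_fx_zpowers.2 (sub_eq_zero.1 ((Submodule.mem_bot _).1 h5))))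
  have h5 := h4.trans ((Submodule.finrank_mono h3).trans (Submodule.finrank_add_le_finrank_add_finrank _ _))
  have h6 : finrank (ZMod 2) (Submodule.span (ZMod 2) (Set.range u)) ≤ 6 := finrank_range_le_card u
  have h7 := cod_add (ρ := ρ) (E.sub gE)
  exact ⟨_, off_of_le (E.elemAb_sub 2 gE (by (rewrite [Cfsg.Agent.GolayF.f4.2, Cfsg.Agent.GolayF.f0.2, Cfsg.Agent.GolayF.pcomp_eq, Cfsg.Agent.GolayF.ok_eq]; decide +kernel))) (r := 3) (by norm_num)
    (E.length_le (L := LE) (by (rewrite [Cfsg.Agent.GolayF.f6.2, Cfsg.Agent.GolayF.f0.2]; decide +kernel)) (E.mem_of_prods (by (rewrite [Cfsg.Agent.GolayF.f5.2, Cfsg.Agent.GolayF.f0.2, Cfsg.Agent.GolayF.ok_eq]; decide +kernel)))) (by omega)⟩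

end

open H419.Spor.M12 in
/-- an outer automorphism of order two of `M12` inverts an element of order 11 -/
theorem exists_inv {α : MulAut Spor.M12} (h2 : α ^ 2 = 1) (h : α ∉ Inn Spor.M12) :
    ∃ w : Spor.M12, w ^ 11 = 1 ∧ w ≠ 1 ∧ α w = w⁻¹ := by
  obtain ⟨m, rfl⟩ := (mem_or α).resolve_left fun ⟨m, e⟩ => h ⟨m, e.symm⟩
  obtain ⟨γ, hγ⟩ : ∃ γ : M24, (γ : Equiv.Perm GolayPt) = m * projInv := ⟨⟨_, mul_mem m.2.1 I_mem⟩, rfl⟩
  have a1 : ∀ g, E12.ψ ((MulAut.conj m * bt) g) = γ * E12.ψ g * γ⁻¹ := fun g => Subtype.ext (by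
    change (m : Equiv.Perm GolayPt) * (projInv * g * projInv⁻¹) * (m : Equiv.Perm GolayPt)⁻¹ =
      γ * g * (γ : Equiv.Perm GolayPt)⁻¹
    rw [hγ]; group)
  have a2 : ∀ p, γ • p ∈ Spor.squareDodecad ↔ p ∉ Spor.squareDodecad := fun p => by
    rw [coe_smul_pt, hγ]
    exact (mem_iff (smul_eq m) _).trans ((by decide +kernel : ∀ p, projInv p ∈ Spor.squareDodecad ↔
      p ∉ Spor.squareDodecad) p)
  have a3 : γ ^ 2 = 1 := by
    obtain ⟨z, hz⟩ : ∃ z, E12.ψ z = γ * γ := ⟨⟨_, mem12 (γ * γ).2 fun p hp => (a2 _).2 fun e => (a2 p).1 e hp⟩, rfl⟩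
    have h3 : z ∈ center Spor.M12 := mem_center_iff.2 fun g => E12.inj (by
      have h4 := congrArg (fun β : MulAut Spor.M12 => E12.ψ (β g)) h2
      simp only [pow_two, MulAut.mul_apply (e₁ := MulAut.conj m * bt), a1, MulAut.one_apply] at h4
      rw [map_mul, map_mul, hz]
      nth_rewrite 1 [← h4]
      group)
    rw [Omega.TwoF.RowM12.center_eq, mem_bot] at h3
    rw [pow_two, ← hz, h3, map_one]
  have a4 : ∀ p, γ • p ≠ p := fun p e => iff_not_self (by simpa only [e] using a2 p)
  obtain ⟨k, hk⟩ := isConj_iff.1 ((kinds a3 fun e => a4 none (e ▸ one_smul _ _)).resolve_left fun e => by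
    have := e.2
    rw [nf, H866.InvolType.fx, Finset.filter_false_of_mem (p := fun p => γ.1 p = p) fun p _ => a4 p] at this
    exact absurd this (by decide)).1
  obtain ⟨i, hi, e⟩ := isCode_iff_exists.1 ((mem_dodecads_iff _).1
    ((smul_mem_dodecads k.2).2 Schreier.MEleven.squareDodecad_mem)).1
  have a5 : fin (enc i) = k • Spor.squareDodecad := e ▸ fin_maskOf _
  have a6 : pimg P2 (enc i) = enc i ^^^ 16777215 := by
    have h3 : ok P2 = true := by (rewrite [Cfsg.Agent.GolayF.ok_eq]; decide +kernel)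
    refine fin_injective (pimg_lt (ok_iff.1 h3).1 _) (Nat.xor_lt_two_pow (enc_lt i) (by norm_num)) ?_
    rw [← el_smul_fin h3, fin_xor, a5, ← hk, show fin 16777215 = Finset.univ by decide +kernel, ← mul_smul,
      inv_mul_cancel_right]
    ext p
    have h4 := a2 (γ⁻¹ • k⁻¹ • p)
    rw [smul_inv_smul] at h4
    simp only [Finset.mem_symmDiff, Finset.mem_univ, not_true, and_false, true_and, false_or,
      ← Finset.inv_smul_mem_iff, mul_smul, h4, not_not]
  have a7 := allR_zero_spec scan i hi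
  rw [a6, Nat.beq_refl, Bool.not_true, Bool.false_or] at a7
  obtain ⟨w, h3, h4⟩ := List.any_eq_true.1 a7
  have h5 := List.all_eq_true.1 (by (rewrite [Cfsg.Agent.GolayF.f1.2, Cfsg.Agent.GolayF.f2.2, Cfsg.Agent.GolayF.pcomp_eq, Cfsg.Agent.GolayF.ok_eq]; decide +kernel) : (CW.all fun w => ok w &&
    (((Wd.pw (.c w) 11).chk (fun _ => true) && Nat.beq (Wd.pw (.c w) 11).val idP) &&
      (((Wd.c w).chk (fun _ => true) && !Nat.beq (pcomp (Wd.c w).val idP) idP) &&
        (((Wd.c w).mul ((Wd.c P2).mul (.c w))).chk (fun _ => true) && ((Wd.c P2).chk (fun _ => true) &&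
          Nat.beq ((Wd.c w).mul ((Wd.c P2).mul (.c w))).val (Wd.c P2).val))))) = true) w h3
  rw [Bool.and_eq_true, Bool.and_eq_true, Bool.and_eq_true _ (_ && (_ && _))] at h5
  have b1 := E24.pow w 11 h5.2.1
  have b2 : E24.l w ≠ 1 := E24.ne_one _ h5.2.2.1
  have b3 : E24.l P2 * E24.l w * (E24.l P2)⁻¹ = (E24.l w)⁻¹ := E24.inv _ _ h5.2.2.2
  rw [E24_l] at b1 b2
  rw [E24_l, E24_l, ← hk] at b3
  obtain ⟨z, hz⟩ : ∃ z, E12.ψ z = k⁻¹ * el w * k := ⟨⟨_, (k⁻¹ * el w * k).2, MulAction.mem_stabilizer_iff.2 (by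
    change (k⁻¹ * el w * k) • Spor.squareDodecad = _
    rw [mul_smul, mul_smul, ← a5, el_smul_fin h5.1, Nat.eq_of_beq_eq_true h4, a5, inv_smul_smul])⟩, rfl⟩
  refine ⟨z, E12.inj ?_, fun e => b2 ?_, E12.inj ?_⟩
  · rw [map_pow, hz, map_one, ← inv_inv k, inv_inv k⁻¹, conj_pow, b1]
    group
  · rw [e, map_one] at hz
    exact conj_eq_one_iff.1 (by simpa only [inv_inv] using hz.symm : k⁻¹ * el w * k⁻¹⁻¹ = 1)
  · rw [a1, map_inv, hz, mul_inv_rev, mul_inv_rev, ← b3]
    group

theorem key {Y : Type} [Group Y] [Finite Y] {V : Type} [AddCommGroup V] [Module (ZMod 2) V] [Finite V]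
    {K : Subgroup Y} {ρ : Representation (ZMod 2) Y V} {π : K →* Spor.M12} {φ : Y →* MulAut Spor.M12}
    (H : Sit 2 K ρ π φ) {A : Subgroup Y} (hA : Off 2 ρ A) (hK : ¬ A ≤ K) : ∃ B ≤ K, Off 2 ρ B := by
  have h0 : Function.Injective π := (MonoidHom.ker_eq_bot_iff π).1
    (H.ker_π.trans (card_eq_one.1 (Nat.dvd_one.1 (center_dvd H (j := 1) (m := 1) S2035.result))))
  let E : Emb K g12 := ⟨E12.ψ.comp π, E12.inj.comp h0, fun c h1 h2 => by
    obtain ⟨x, hx⟩ := E12.ex c h1 h2
    obtain ⟨y, rfl⟩ := H.surj x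
    exact ⟨y, hx⟩⟩
  obtain ⟨h3, h4, -⟩ := res_facts H.toStp
  have hf := H.faithful.comp K.subtype_injective
  rcases cases_eleven (ρ := ρ.comp K.subtype) hf (x11 E) (x1 E) with hc | hc
  · obtain ⟨B, hB⟩ := small_case E (fun x => (π x).2) hf h3 h4 hc
    exact off_res hB
  obtain ⟨a, ha, haK⟩ := SetLike.not_le_iff_exists.1 hK
  obtain ⟨w, w1, w2, w3⟩ := exists_inv (α := φ a) (by rw [← map_pow, hA.1.2 a ha, map_one])
    fun h => haK (H.toFrm.mem_inn_iff.1 h)
  obtain ⟨w, rfl⟩ := H.surj w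
  have w4 : w ^ 11 = 1 := h0 (by rw [map_pow, w1, map_one])
  rw [cod_eq_of_order (hp := ⟨by norm_num⟩) (E.not_dvd (by norm_num)) (x11 E) (x1 E) w4
    (fun e => w2 (by rw [e, map_one])), cod_res] at hc
  have h5 := cod_le_of_inv (ρ := ρ) (t := a) (y := (w : Y)) (s := 11) (by norm_num) (by norm_num) (congrArg Subtype.val w4)
    (congrArg Subtype.val (h0 (((H.conj a w ⟨_, H.normal.conj_mem _ w.2 a⟩ rfl).symm.trans w3).trans (map_inv π w).symm)))
  have h6 := XL.cod_le_of_mem (ρ := ρ) ha
  obtain ⟨r, -, g1, g2⟩ := hA.exists_card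
  have g3 := card_of_index (index_two H S2061.result hK) hK
  have g4 := card_map_π H (elemAb_of_le hA.1 (inf_le_left (b := K))) inf_le_right
  have g5 := rank_twelve g4.1
  have g6 := Nat.pow_le_pow_right (show 0 < 2 by norm_num) (show 5 ≤ r by omega)
  omega

end Cfsg.Agent.TwoF.SpA.M12

namespace Cfsg.Agent.TwoF.SpA

theorem rowM12 (p : ℕ) [Fact p.Prime] : Row p Spor.M12 := by
  by_cases h : p = 2
  · subst h
    exact row_of_key fun Y _ _ V _ _ _ K ρ π φ H => ⟨fun A hA hK => M12.key H hA hK, fun B h hB =>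
      hB.cub ((card_map_π H hB.1 h).2 ▸ rank_twelve (card_map_π H hB.1 h).1)⟩
  · exact row_odd24 h _ M12.E12.inj S2061.result.dvd

end Cfsg.Agent.TwoF.SpA

private theorem dce_e1096858f4e1 : _root_.True := by
  try have : _root_.True := by simp only [_root_.Cfsg.Agent.H866.InvolType.fx.eq_1]
  try have : _root_.True := by simp only [_root_.Cfsg.Agent.TwoF.SpA.M12.gH.eq_1]
  try have : _root_.True := by simp only [_root_.Cfsg.Agent.TwoF.SpA.M12.gE.eq_1]
  exact _root_.True.intro
end

-- part: TwoF/SpD/HN/Row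
section
set_option linter.all false
open scoped Cfsg.Agent.FastGrp

/-!
# TwoF SP-D: the row of the Harada-Norton group (helper29)
-/

set_option autoImplicit false

namespace Cfsg.Agent.TwoF.SpD.HN

open Cfsg Module Subgroup Cfsg.Agent.TwoF.Gen
open Cfsg.Agent.H839.Rad.HN (ext hW)
open Cfsg.Agent.H981.InvHN (card_HN)
open Cfsg.Agent.HN.XWords (W0)
open Cfsg.Agent.UGT.End.HN (EE sq_EE isConj_EE card_EE)

theorem fin : Finite Spor.HN := Nat.finite_of_card_ne_zero (by rw [card_HN]; norm_num)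

theorem lb {p : ℕ} [Fact p.Prime] (h5 : 5 ≠ p) (h : orderOf (p : ZMod 5) = 4) : LB p Spor.HN 100 :=
  lb_of_faithful S2056.result fun V _ _ _ ρ hf => by
    have := fin
    have h1 := cod_extra hf (k := 2) Nat.prime_five h5 hW ext.le_card ext.w_mem ext.comm_w ext.commutator_mem
      fun t ht => ext.center ht
    have h2 := cod_add (ρ := ρ) (zpowers H839.Rad.HN.W)
    rw [h] at h1
    omega

theorem noOff {p : ℕ} [Fact p.Prime] (h5 : 5 ≠ p) (h : orderOf (p : ZMod 5) = 4) : NoOff p Spor.HN :=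
  have := fin
  XE.noOff_of_lb' (lb h5 h) S2056.result one_ne_zero card_HN.le S2082.result.le
    (lt_of_lt_of_le (by norm_num) (Nat.pow_le_pow_left (Fact.out : p.Prime).two_le 100))

theorem cor : Cor 5 Spor.HN := by
  intro V _ _ _ ρ hf _ A hA hc
  have := fin
  obtain ⟨r, h0, h1, h2⟩ := hA.exists_card
  have h3 := SB.SporD.HN.F5.card_ab (elemAb_isPGroup hA.1) fun x hx y hy => elemAb_comm hA.1 hx hy
  rw [h1, show 125 = 5 ^ 3 from rfl, Nat.pow_le_pow_iff_right (by norm_num)] at h3
  obtain ⟨x, hx, h4⟩ := exists_elt h0 h1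
  obtain ⟨f, h5⟩ := H285.Gen.HN.k3_five x h4
  have h6 : ⨆ i ∈ (Finset.univ : Finset (Fin 3)), A.map (MulAut.conj (f i)).toMonoidHom = ⊤ := by
    by_contra h6
    have h7 := H285.Gen.HN.orders H529.S8.base _ (h5.trans (card_dvd_of_le ((closure_le _).2 (by
      rintro _ ⟨i, rfl⟩
      exact le_iSup₂_of_le (f := fun i (_ : i ∈ (Finset.univ : Finset (Fin 3))) =>
        A.map (MulAut.conj (f i)).toMonoidHom) i (Finset.mem_univ i) le_rfl ⟨x, hx, rfl⟩)))) h6
    have h8 := card_dvd_of_le (le_iSup₂_of_le (f := fun i (_ : i ∈ (Finset.univ : Finset (Fin 3))) =>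
      A.map (MulAut.conj (f i)).toMonoidHom) 0 (Finset.mem_univ _) le_rfl)
    rw [card_map_conj] at h8
    exact (by decide : ∀ n ∈ H285.Gen.HN.os, ¬ 5 ^ (1 + 1) ∣ n) _ h7 ((hA.pow_dvd_of_not_cub hc).trans h8)
  have h7 := cod_biSup_le (ρ := ρ) (Finset.univ : Finset (Fin 3)) fun i => A.map (MulAut.conj (f i)).toMonoidHom
  simp only [h6, cod_conj, Finset.sum_const, Finset.card_univ, Fintype.card_fin, smul_eq_mul] at h7
  have h8 := cod_large hf (by norm_num) KFacts.HN.large (k := 4) KFacts.HN.card_RS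
  have h9 := cod_pure (ρ := ρ) (by norm_num) (fun g hg => sq_EE hg) card_EE (c := 2 ^ 4) fun g hg h => by
    obtain ⟨u, rfl⟩ := isConj_iff.1 (isConj_EE hg h)
    rwa [cod_zpowers_conj]
  have h10 := cod_mono (ρ := ρ) (le_top (a := EE))
  omega

/-- **the row of `HN`** -/
theorem row (p : ℕ) [hp : Fact p.Prime] : Row p Spor.HN := by
  have := fin
  by_cases h2 : p = 2
  · subst h2
    exact (noOff (by norm_num) ((orderOf_eq_iff (by norm_num)).2 (by decide))).row
  by_cases h3 : p = 3
  · subst h3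
    exact (noOff (by norm_num) ((orderOf_eq_iff (by norm_num)).2 (by decide))).row
  have ho : ¬ p ∣ Nat.card (Out Spor.HN) := fun e =>
    h2 ((Nat.prime_dvd_prime_iff_eq hp.out Nat.prime_two).1 (S2082.result ▸ e))
  by_cases h5 : p = 5
  · subst h5
    exact row_of_cor ho S2056.result (fun d h _ => Nat.dvd_one.1 h) cor
  refine row_sq ho S2056.result fun h1 => ?_
  rw [card_HN, show 273030912000000 = 2 ^ 14 * 3 ^ 6 * 5 ^ 6 * (7 * 11 * 19) by norm_num] at h1
  have h4 : ∀ {q : ℕ}, q.Prime → p ≠ q → ∀ n, Nat.Coprime (p ^ 2) (q ^ n) := fun hq h n =>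
    ((Nat.coprime_primes hp.out hq).2 h).pow _ _
  have h6 := (((h4 Nat.prime_two h2 14).mul_right (h4 Nat.prime_three h3 6)).mul_right
    (h4 Nat.prime_five h5 6)).dvd_of_dvd_mul_left h1
  have h7 : Squarefree (7 * 11 * 19) := by
    simp only [Nat.squarefree_mul_iff]
    refine ⟨by norm_num, ⟨by norm_num, ?_, ?_⟩, ?_⟩ <;> exact (Nat.Prime.prime (by norm_num)).squarefree
  exact hp.out.one_lt.ne' (Nat.isUnit_iff.1 (h7 p (by rwa [← pow_two])))

end Cfsg.Agent.TwoF.SpD.HN
end

-- part: TwoF/XL/UP2/Main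
section
prune_inst 0x80100000400000000004000060001d8392000000000800000000000004888c0000000020a00000020000000400310028140810242000000000000000011c00800000000020000000000000000000000000000000000000000000000000000000000000000
set_option linter.all false
open scoped Cfsg.Agent.FastGrp

-- part: TwoF/XL/UP2/Heis
section
/-!
# TwoF / XL / UP2: Heisenberg bounds for the representations of `SU_n(q)` with central kernel (helper33)
-/

set_option autoImplicit false

namespace Cfsg.Agent.TwoF.XL.UP2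

open Cfsg.Agent.TwoF.Gen Module Subgroup
open scoped commutatorElement

section abs

variable {k : Type*} [Field k] {Y : Type*} [Group Y] {V : Type*} [AddCommGroup V] [Module k V]
  {ρ : Representation k Y V}

/-- the group generated by `Z` and an element that centralises it -/
def adj (Z : Subgroup Y) (g : Y) (h : ∀ z ∈ Z, Commute g z) : Subgroup Y where
  carrier := {x | ∃ i : ℤ, ∃ z ∈ Z, x = g ^ i * z}
  mul_mem' := by
    rintro _ _ ⟨i, z, hz, rfl⟩ ⟨j, w, hw, rfl⟩
    refine ⟨i + j, z * w, mul_mem hz hw, ?_⟩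
    rw [zpow_add, mul_assoc, mul_assoc, ← mul_assoc z, ← ((h z hz).zpow_left j).eq, mul_assoc]
  one_mem' := ⟨0, 1, one_mem _, by rw [zpow_zero, one_mul]⟩
  inv_mem' := by
    rintro _ ⟨i, z, hz, rfl⟩
    refine ⟨-i, z⁻¹, inv_mem hz, ?_⟩
    rw [mul_inv_rev, ← zpow_neg, ((h _ (inv_mem hz)).zpow_left (-i)).eq]

/-- **non-central elements of a Heisenberg group** -/
theorem cod_elt [FiniteDimensional k V] [Finite Y] {Z Q : Subgroup Y} {r : ℕ} (hr : r.Prime) (hk : (r : k) ≠ 0)
    (hZQ : Z ≤ Q) (hc : ∀ a ∈ Q, ∀ b ∈ Z, a * b = b * a) (he : ∀ g ∈ Q, g ^ r = 1)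
    (hfull : ∀ t ∈ Q, t ∉ Z → ∀ z ∈ Z, ∃ y ∈ Q, ⁅t, y⁆ = z) {g : Y} (hg : g ∈ Q) (hgZ : g ∉ Z) :
    (r - 1) * cod ρ Z ≤ r * cod ρ (zpowers g) := by
  have h0 : ∀ z ∈ Z, Commute g z := hc g hg
  refine XS.avg_coset (R := adj Z g h0) hr hk ?_ ?_ ?_ ?_
  · refine lt_of_le_of_ne (fun z hz => ⟨0, z, hz, by rw [zpow_zero, one_mul]⟩) fun e => hgZ ?_
    rw [e]
    exact ⟨1, 1, one_mem _, by rw [zpow_one, mul_one]⟩
  · rintro _ ⟨i, z, hz, rfl⟩ _ ⟨j, w, hw, rfl⟩
    have h1 : Commute z w := hc z (hZQ hz) w hw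
    exact (((Commute.refl g).zpow_zpow i j).mul_right ((h0 w hw).zpow_left i)).mul_left
      (((h0 z hz).zpow_left j).symm.mul_right h1)
  · rintro _ ⟨i, z, hz, rfl⟩
    exact he _ (mul_mem (zpow_mem hg i) (hZQ hz))
  · rintro _ ⟨i, z, hz, rfl⟩ h1
    obtain ⟨y, -, hy⟩ := hfull _ (zpow_mem hg i) (fun e => h1 (mul_mem e hz)) _ (inv_mem hz)
    have h2 : g ^ i * z = y * g ^ i * y⁻¹ := by
      rw [((h0 z hz).zpow_left i).eq, ← inv_inv z, ← hy, commutatorElement_def]
      group
    rw [h2, cod_zpowers_conj]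
    exact cod_le_of_mem (zpow_mem (mem_zpowers g) i)

end abs

open Cfsg.Agent.LieClassical.HermBasic Cfsg.Agent.LieClassical.HermSiegel Cfsg.Agent.LieClassical.HermGen
  Cfsg.Agent.ClassicalGeometry.PSUAutBasic Cfsg.Agent.ClassicalGeometry.PSUAutSylow Cfsg.Agent.H934.IdxPSU
  Cfsg.Agent.H175.BdSU

variable {F : Type} [Field F] [Fintype F] {q n : ℕ} (hF : Fintype.card F = q ^ 2)
include hF

theorem cast_pow (j : ℕ) : (j : F) ^ q = j := map_natCast (conj hF) j

theorem siegel_pow {u w : Fin n → F} {μ : F} (h : IsSiegel q u w μ) (j : ℕ) :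
    ∃ h' : IsSiegel q u ((j : F) • w) (j * μ - (j.choose 2 : ℕ) * hermForm n F q w w),
      siegel hF u w μ h ^ j = siegel hF u _ _ h' := by
  induction j with
  | zero =>
    have h0 : IsSiegel q u (((0 : ℕ) : F) • w) ((0 : ℕ) * μ - ((0 : ℕ).choose 2 : ℕ) * hermForm n F q w w) := by
      simpa only [_root_.Nat.cast_zero, _root_.zero_smul, _root_.MulZeroClass.zero_mul, _root_.Nat.choose_zero_succ, _root_.sub_self] using IsSiegel.zero hF h.iso
    exact ⟨h0, by
      rw [pow_zero, ← siegel_zero hF (IsSiegel.zero hF h.iso)]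
      exact siegel_congr hF _ _ rfl (by simp) (by simp)⟩
  | succ j ih =>
    obtain ⟨h', e⟩ := ih
    have e1 : (j : F) • w + w = ((j + 1 : ℕ) : F) • w := by rw [Nat.cast_succ, add_smul, one_smul]
    have e2 : j * μ - (j.choose 2 : ℕ) * hermForm n F q w w + μ - hermForm n F q w ((j : F) • w) =
        (j + 1 : ℕ) * μ - ((j + 1).choose 2 : ℕ) * hermForm n F q w w := by
      rw [herm_smul_right, cast_pow hF, Nat.choose_succ_succ', Nat.choose_one_right]
      push_cast
      ring
    have h1 := h'.mul hF h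
    rw [e1, e2] at h1
    exact ⟨h1, by rw [pow_succ, e, siegel_mul]; exact siegel_congr hF _ _ rfl e1 e2⟩

variable {r : ℕ} [Fact r.Prime] [CharP F r]

theorem exp_siegG (hr : r ≠ 2) {u : Fin n → F} (hu : hermForm n F q u u = 0) : ∀ g ∈ siegG hF u hu, g ^ r = 1 := by
  rintro _ ⟨w, μ, h, rfl⟩
  obtain ⟨h', e⟩ := siegel_pow hF h r
  have h2 : 2 < r := lt_of_le_of_ne (Fact.out : r.Prime).two_le hr.symm
  have h3 : ((r.choose 2 : ℕ) : F) = 0 :=
    (CharP.cast_eq_zero_iff F r _).2 ((Fact.out : r.Prime).dvd_choose_self two_ne_zero h2)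
  rw [e, ← siegel_zero hF (IsSiegel.zero hF hu)]
  exact siegel_congr hF _ _ rfl (by rw [CharP.cast_eq_zero, zero_smul])
    (by rw [CharP.cast_eq_zero, h3, zero_mul, zero_mul, sub_zero])

omit [Fact r.Prime] [CharP F r] in
theorem comm_Q {u : Fin n → F} (hu : hermForm n F q u u = 0) :
    ∀ a ∈ siegG hF u hu, ∀ b ∈ transvG hF u hu, a * b = b * a := by
  rintro _ ⟨w, μ, h, rfl⟩ _ ⟨ν, hν, rfl⟩
  exact transv_comm hF h hν

omit [Fact r.Prime] [CharP F r] in
theorem full_Q {u : Fin n → F} (h0 : u ≠ 0) (hu : hermForm n F q u u = 0) :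
    ∀ t ∈ siegG hF u hu, t ∉ transvG hF u hu → ∀ z ∈ transvG hF u hu, ∃ y ∈ siegG hF u hu, ⁅t, y⁆ = z := by
  intro t ht h1 z hz
  obtain ⟨y, -, hy⟩ := (hyp hF h0 hu).special ⟨t, ht⟩ (mem_top _) h1 ⟨z, transvG_le_siegG hF hu hz⟩ hz
  exact ⟨y, y.2, congrArg Subtype.val hy⟩

omit [Fact r.Prime] [CharP F r] in
theorem tr_Z (hn : 3 ≤ n) {u : Fin n → F} (h0 : u ≠ 0) (hu : hermForm n F q u u = 0) : Tr (transvG hF u hu) := by
  rintro _ ⟨μ, hμ, rfl⟩ h1 _ ⟨ν, hν, rfl⟩ h2
  have hμ0 : μ ≠ 0 := fun e => h1 (transv_eq_one hF hu hμ e)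
  have hν0 : ν ≠ 0 := fun e => h2 (transv_eq_one hF hu hν e)
  have hl : (ν / μ) ^ q = ν / μ := by
    rw [div_pow, show ν ^ q = -ν by linear_combination hν, show μ ^ q = -μ by linear_combination hμ, neg_div_neg_eq]
  obtain ⟨g, hg⟩ := exists_torus hF hn h0 hu hl (div_ne_zero hν0 hμ0)
  have h3 : ∀ x : F, x + x ^ q = 0 → ν / μ * x + (ν / μ * x) ^ q = 0 := fun x hx => by
    rw [mul_pow, hl]
    linear_combination ν / μ * hx
  refine ⟨g⁻¹, inv_mem (H934.Heis.mem_norm ?_), ?_⟩
  · rintro _ ⟨x, hx, rfl⟩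
    exact ⟨_, _, hg x hx (h3 x hx)⟩
  · rw [inv_inv, hg μ hμ (h3 μ hμ)]
    exact siegel_congr hF _ _ rfl rfl (div_mul_cancel₀ ν hμ0)

omit [Fact r.Prime] [CharP F r] in
theorem card_Z {u : Fin n → F} (h0 : u ≠ 0) (hu : hermForm n F q u u = 0) : Nat.card (transvG hF u hu) = q :=
  le_antisymm (card_transvG_le hF hu) (card_transvG hF h0 hu)

omit [Fact r.Prime] [CharP F r] in
theorem card_Q (hn : 3 ≤ n) {u : Fin n → F} (h0 : u ≠ 0) (hu : hermForm n F q u u = 0) :
    (q ^ 2) ^ (n - 2) * q ≤ Nat.card (siegG hF u hu) := by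
  obtain ⟨e, f, H⟩ := exists_frame (F := F) (n := n) hF (by omega)
  have he0 : e ≠ 0 := by
    rintro rfl
    have := H.ef
    rw [herm_zero_left] at this
    exact zero_ne_one this
  obtain ⟨g, -, hg⟩ := exists_map_iso hF hn le_rfl (mem_coordSub_top e) (mem_coordSub_top u) he0 h0 H.ee hu
  subst hg
  refine (card_siegG hF H).trans (Nat.card_le_card_of_injective
    (fun x : siegG hF e H.ee => (⟨g * x * g⁻¹, ?_⟩ : siegG hF (act g e) hu)) fun x y h => Subtype.ext ?_)
  · obtain ⟨_, w, μ, h, rfl⟩ := x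
    exact ⟨_, _, _, conj_siegel hF h g⟩
  · exact mul_left_cancel (mul_right_cancel (congrArg Subtype.val h))

omit [Fact r.Prime] [CharP F r] in
theorem le_relIndex (hn : 3 ≤ n) {u : Fin n → F} (h0 : u ≠ 0) (hu : hermForm n F q u u = 0) :
    (q ^ (n - 2)) ^ 2 ≤ (transvG hF u hu).relIndex (siegG hF u hu) := by
  have h1 := card_Q hF hn h0 hu
  rw [← H934.Heis.card_mul_rel (transvG_le_siegG hF hu), card_Z hF h0 hu, mul_comm] at h1
  rw [← pow_mul, mul_comm, pow_mul]
  exact Nat.le_of_mul_le_mul_left h1 (q_pos hF)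

variable {k : Type*} [Field k] {V : Type*} [AddCommGroup V] [Module k V] [FiniteDimensional k V]
  {σ : Representation k (SU n F q) V}

/-- **the transvection groups** -/
theorem cod_Z (hr : r ≠ 2) (hk : (r : k) ≠ 0) (hn : 3 ≤ n) (hσ : ∀ g, σ g = 1 → g ∈ center (SU n F q))
    {u : Fin n → F} (h0 : u ≠ 0) (hu : hermForm n F q u u = 0) :
    (q - 1) * q ^ (n - 2) ≤ cod σ (transvG hF u hu) := by
  have he := fun g hg => exp_siegG hF hr hu g (transvG_le_siegG hF hu hg)
  have := heis_lb (ρ := σ) (Fact.out : r.Prime) hk (transvG_le_siegG hF hu) (comm_Q hF hu) he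
    (fun a ha b hb => (hyp hF h0 hu).comm_mem ⟨a, ha⟩ (mem_top _) ⟨b, hb⟩ (mem_top _)) (full_Q hF h0 hu)
    (tr_Z hF hn h0 hu) ?_ (le_relIndex hF hn h0 hu)
  · rwa [card_Z hF h0 hu] at this
  · obtain ⟨c, hc0, hc⟩ := exists_trace_zero_ne hF
    have hm : transv hF u hu c hc ∈ transvG hF u hu := ⟨_, _, rfl⟩
    refine ⟨_, hm, fun e => hc0 ?_⟩
    have h1 := eq_one_of_center_of_pow hF hn (p := r) (hσ _ e) (k := 1) (by rw [pow_one]; exact he _ hm)
    exact transv_inj hF h0 hu (h1.trans (transv_zero hF hu (by rw [zero_pow_q hF, add_zero])).symm)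

omit [Fact r.Prime] [CharP F r] in
theorem siegel_notMem {u w : Fin n → F} {μ : F} (h0 : u ≠ 0) (h : IsSiegel q u w μ) (hw : ∀ a : F, w ≠ a • u) :
    siegel hF u w μ h ∉ transvG hF u h.iso := by
  rintro ⟨ν, hν, e⟩
  obtain ⟨f, -, -, hfu⟩ := exists_partner hF h0 h.iso
  have h1 := congrArg (fun g => act g f) e
  simp only [act_siegel, act_transv, hfu, one_smul, mul_one] at h1
  refine hw (ν - (μ - hermForm n F q f w)) ?_
  rw [sub_smul]
  linear_combination (exp := 1) h1

/-- **Siegel elements** -/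
theorem cod_siegel (hr : r ≠ 2) (hk : (r : k) ≠ 0) (hn : 3 ≤ n) (hσ : ∀ g, σ g = 1 → g ∈ center (SU n F q))
    {u w : Fin n → F} {μ : F} (h0 : u ≠ 0) (h : IsSiegel q u w μ) (hw : ∀ a : F, w ≠ a • u) :
    (r - 1) * ((q - 1) * q ^ (n - 2)) ≤ r * cod σ (zpowers (siegel hF u w μ h)) :=
  (Nat.mul_le_mul_left _ (cod_Z hF hr hk hn hσ h0 h.iso)).trans
    (cod_elt (Fact.out : r.Prime) hk (transvG_le_siegG hF h.iso) (comm_Q hF h.iso) (exp_siegG hF hr h.iso)
      (full_Q hF h0 h.iso) ⟨_, _, _, rfl⟩ (siegel_notMem hF h0 h hw))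

end Cfsg.Agent.TwoF.XL.UP2
end

-- part: TwoF/XL/U33/Code
section
/-!
# TwoF, `U₃(3)` in characteristic 2 (helper76): codes for the matrices of `SU₃(3)`

A matrix over `K9` is coded by a natural number with 18 digits in base 3.  `mulc`, `barc`: product and entrywise
conjugation on codes.  `Rp g c`: the element `g` of `SU₃(3)` has the code `c`.
-/

set_option autoImplicit false

namespace Cfsg.Agent.TwoF.XL.U33

open Cfsg.Agent.Classification.RTwo.UThreeThree

/-- the group -/
abbrev G : Type := Cfsg.SU 3 K9 3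

/-- digits to a number -/
def enc : List ℕ → ℕ
  | [] => 0
  | r :: l => Nat.add (Nat.mod r 3) (Nat.mul 3 (enc l))

theorem cast_enc (k : ℕ) : ∀ l : List ℕ, ((enc l / 3 ^ k : ℕ) : ZMod 3) = ((l.getD k 0 : ℕ) : ZMod 3) := by
  induction k with
  | zero =>
    intro l
    cases l with
    | nil => rfl
    | cons r l =>
      show (((r % 3 + 3 * enc l) / 3 ^ 0 : ℕ) : ZMod 3) = (r : ZMod 3)
      rw [pow_zero, Nat.div_one, Nat.cast_add, Nat.cast_mul, ZMod.natCast_mod, ZMod.natCast_self, zero_mul, add_zero]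
  | succ k ih =>
    intro l
    cases l with
    | nil =>
      show ((0 / 3 ^ (k + 1) : ℕ) : ZMod 3) = ((0 : ℕ) : ZMod 3)
      rw [Nat.zero_div]
    | cons r l =>
      show (((r % 3 + 3 * enc l) / 3 ^ (k + 1) : ℕ) : ZMod 3) = ((l.getD k 0 : ℕ) : ZMod 3)
      have h : (r % 3 + 3 * enc l) / 3 = enc l := by omega
      rw [pow_succ', ← Nat.div_div_eq_div_mul, h, ih]

/-- real part of an entry (modulo 3) -/
def re (n i j : ℕ) : ℕ := Nat.div n (Nat.pow 3 (Nat.add (Nat.mul 6 i) (Nat.mul 2 j)))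
/-- imaginary part of an entry (modulo 3) -/
def im (n i j : ℕ) : ℕ := Nat.div n (Nat.pow 3 (Nat.add (Nat.add (Nat.mul 6 i) (Nat.mul 2 j)) 1))

/-- the matrix with a given code -/
def dec (n : ℕ) : Matrix (Fin 3) (Fin 3) K9 := Matrix.of fun i j => ⟨(re n i j : ℕ), (im n i j : ℕ)⟩

theorem dec_apply (n : ℕ) (i j : Fin 3) : dec n i j = ⟨(re n i j : ℕ), (im n i j : ℕ)⟩ := rfl

/-- the code of a matrix given by real and imaginary parts -/
def encM (f g : ℕ → ℕ → ℕ) : ℕ :=
  enc [f 0 0, g 0 0, f 0 1, g 0 1, f 0 2, g 0 2, f 1 0, g 1 0, f 1 1, g 1 1, f 1 2, g 1 2,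
    f 2 0, g 2 0, f 2 1, g 2 1, f 2 2, g 2 2]

theorem dec_encM (f g : ℕ → ℕ → ℕ) (i j : Fin 3) : dec (encM f g) i j = ⟨(f i j : ℕ), (g i j : ℕ)⟩ := by
  refine QuadraticAlgebra.ext ((cast_enc (6 * i + 2 * j) _).trans ?_) ((cast_enc (6 * i + 2 * j + 1) _).trans ?_) <;>
    fin_cases i <;> fin_cases j <;> rfl

/-- one term of the real part -/
def tR (a b i j k : ℕ) : ℕ :=
  Nat.add (Nat.mul (re a i k) (re b k j)) (Nat.mul 2 (Nat.mul (im a i k) (im b k j)))
/-- one term of the imaginary part -/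
def tI (a b i j k : ℕ) : ℕ := Nat.add (Nat.mul (re a i k) (im b k j)) (Nat.mul (im a i k) (re b k j))

/-- product of codes -/
def mulc (a b : ℕ) : ℕ :=
  encM (fun i j => Nat.add (Nat.add (tR a b i j 0) (tR a b i j 1)) (tR a b i j 2))
    (fun i j => Nat.add (Nat.add (tI a b i j 0) (tI a b i j 1)) (tI a b i j 2))

/-- entrywise conjugation of codes -/
def barc (a : ℕ) : ℕ := encM (fun i j => re a i j) (fun i j => Nat.mul 2 (im a i j))

theorem term_eq (a b : ℕ) (i j k : Fin 3) : dec a i k * dec b k j = ⟨(tR a b i j k : ℕ), (tI a b i j k : ℕ)⟩ := by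
  have h2 : (2 : ZMod 3) = -1 := by decide
  refine QuadraticAlgebra.ext ?_ ?_
  · show (re a i k : ZMod 3) * (re b k j : ZMod 3) + -1 * (im a i k : ZMod 3) * (im b k j : ZMod 3) =
      ((re a i k * re b k j + 2 * (im a i k * im b k j) : ℕ) : ZMod 3)
    push_cast
    rw [h2]
    ring
  · show (re a i k : ZMod 3) * (im b k j : ZMod 3) + (im a i k : ZMod 3) * (re b k j : ZMod 3) +
      0 * (im a i k : ZMod 3) * (im b k j : ZMod 3) = ((re a i k * im b k j + im a i k * re b k j : ℕ) : ZMod 3)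
    push_cast
    ring

theorem dec_mulc (a b : ℕ) : dec (mulc a b) = dec a * dec b := by
  refine Matrix.ext fun i j => ?_
  rw [Matrix.mul_apply, Fin.sum_univ_three, term_eq, term_eq, term_eq]
  refine (dec_encM _ _ i j).trans (QuadraticAlgebra.ext ?_ ?_)
  · show ((tR a b i j 0 + tR a b i j 1 + tR a b i j 2 : ℕ) : ZMod 3) =
      (tR a b i j 0 : ZMod 3) + (tR a b i j 1 : ZMod 3) + (tR a b i j 2 : ZMod 3)
    rw [Nat.cast_add, Nat.cast_add]
  · show ((tI a b i j 0 + tI a b i j 1 + tI a b i j 2 : ℕ) : ZMod 3) =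
      (tI a b i j 0 : ZMod 3) + (tI a b i j 1 : ZMod 3) + (tI a b i j 2 : ZMod 3)
    rw [Nat.cast_add, Nat.cast_add]

theorem dec_barc (a : ℕ) (i j : Fin 3) : dec (barc a) i j = star (dec a i j) := by
  have h2 : (2 : ZMod 3) = -1 := by decide
  refine (dec_encM _ _ i j).trans (QuadraticAlgebra.ext ?_ ?_)
  · show (re a i j : ZMod 3) = (re a i j : ZMod 3) + 0 * (im a i j : ZMod 3)
    rw [zero_mul, add_zero]
  · show ((2 * im a i j : ℕ) : ZMod 3) = -(im a i j : ZMod 3)
    push_cast
    rw [h2, neg_one_mul]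

/-- `3 ^ 18` -/
def NN : ℕ := 387420489

theorem mod_eq_of_digits {a b : ℕ} (n : ℕ) (h : ∀ k < n, a / 3 ^ k % 3 = b / 3 ^ k % 3) : a % 3 ^ n = b % 3 ^ n := by
  induction n with
  | zero => rw [pow_zero, Nat.mod_one, Nat.mod_one]
  | succ n ih =>
    rw [Nat.mod_pow_succ, Nat.mod_pow_succ, ih fun k hk => h k (Nat.lt_succ_of_lt hk), h n (Nat.lt_succ_self n)]

theorem mod_eq_of_dec {a b : ℕ} (h : dec a = dec b) : Nat.mod a NN = Nat.mod b NN := by
  refine mod_eq_of_digits 18 fun k hk => ?_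
  have hi : k / 6 < 3 := by omega
  have hj : k % 6 / 2 < 3 := by omega
  have h1 := congrFun (congrFun h ⟨_, hi⟩) ⟨_, hj⟩
  refine (ZMod.natCast_eq_natCast_iff' _ _ 3).1 ?_
  rcases Nat.mod_two_eq_zero_or_one k with e | e
  · have e1 : k = 6 * (k / 6) + 2 * (k % 6 / 2) := by omega
    rw [e1]
    exact congrArg QuadraticAlgebra.re h1
  · have e1 : k = 6 * (k / 6) + 2 * (k % 6 / 2) + 1 := by omega
    rw [e1]
    exact congrArg QuadraticAlgebra.im h1

/-- `g` has the code `c` -/
def Rp (g : G) (c : ℕ) : Prop := _root_.Cfsg.Agent.Classification.RTwo.UThreeThree.mt g = dec c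

/-- the code of `1` -/
def c1 : ℕ := 43053283

theorem rp_one : Rp 1 c1 := by
  show (1 : Matrix (Fin 3) (Fin 3) K9) = dec c1
  decide +kernel

theorem Rp.mul {g h : G} {a b : ℕ} (hg : Rp g a) (hh : Rp h b) : Rp (g * h) (mulc a b) := by
  show _root_.Cfsg.Agent.Classification.RTwo.UThreeThree.mt g * _root_.Cfsg.Agent.Classification.RTwo.UThreeThree.mt h = _
  rw [dec_mulc, hg, hh]

theorem Rp.eq {g h : G} {a b : ℕ} (hg : Rp g a) (hh : Rp h b) (e : a = b) : g = h :=
  su_ext (hg.trans (e ▸ hh.symm))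

theorem Rp.mod {g h : G} {a b : ℕ} (hg : Rp g a) (hh : Rp h b) (e : g = h) : Nat.mod a NN = Nat.mod b NN :=
  mod_eq_of_dec (hg.symm.trans (e ▸ hh))

theorem Rp.ne {g h : G} {a b : ℕ} (hg : Rp g a) (hh : Rp h b) (e : Nat.mod a NN ≠ Nat.mod b NN) : g ≠ h :=
  fun e' => e (hg.mod hh e')

/-- the element with a given code -/
noncomputable def el (c : ℕ) : G := if h : IsGood (dec c) then h.su else 1

theorem rp_el {c : ℕ} (h : IsGood (dec c)) : Rp (el c) c := by
  show _root_.Cfsg.Agent.Classification.RTwo.UThreeThree.mt (if h : IsGood (dec c) then h.su else 1) = dec c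
  rw [dif_pos h]
  rfl

/-- the field automorphism -/
noncomputable def σ : MulAut G := LieClassical.FieldTransfer.suCongr 3 3 (starRingAut : K9 ≃+* K9)

theorem mt_σ (g : G) (i j : Fin 3) : _root_.Cfsg.Agent.Classification.RTwo.UThreeThree.mt (σ g) i j = star (_root_.Cfsg.Agent.Classification.RTwo.UThreeThree.mt g i j) := rfl

theorem Rp.bar {g : G} {a : ℕ} (hg : Rp g a) : Rp (σ g) (barc a) :=
  Matrix.ext fun i j => by rw [mt_σ, dec_barc, hg]

theorem σ_σ (g : G) : σ (σ g) = g := su_ext (Matrix.ext fun i j => by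
  show _root_.Cfsg.Agent.Classification.RTwo.UThreeThree.mt (σ (σ g)) i j = _root_.Cfsg.Agent.Classification.RTwo.UThreeThree.mt g i j
  rw [mt_σ, mt_σ, star_star])

/-- the value of a word in two letters -/
def wd {M : Type} (mul : M → M → M) (one a b : M) : List Bool → M
  | [] => one
  | x :: l => mul (cond x a b) (wd mul one a b l)

theorem rp_wd {g h : G} {a b : ℕ} (hg : Rp g a) (hh : Rp h b) :
    ∀ l : List Bool, Rp (wd (· * ·) 1 g h l) (wd mulc c1 a b l)
  | [] => rp_one
  | true :: l => hg.mul (rp_wd hg hh l)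
  | false :: l => hh.mul (rp_wd hg hh l)

theorem wd_mem {g h : G} {B : Subgroup G} (hg : g ∈ B) (hh : h ∈ B) : ∀ l : List Bool, wd (· * ·) 1 g h l ∈ B
  | [] => one_mem B
  | true :: l => mul_mem hg (wd_mem hg hh l)
  | false :: l => mul_mem hh (wd_mem hg hh l)

end Cfsg.Agent.TwoF.XL.U33
end

-- part: TwoF/XL/U33/Grp
section
/-!
# TwoF, `U₃(3)` in characteristic 2 (helper76): the Sylow 2-subgroup `H` and the elements used
-/

set_option autoImplicit false

namespace Cfsg.Agent.TwoF.XL.U33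

open Cfsg.Agent.Classification.RTwo.UThreeThree

/-! ### the subgroup `H` of order 32 -/

/-- the codes of the 32 monomial matrices which fix the third axis -/
def LH : List ℕ :=
  [86094180, 43048188, 129142359, 258284709, 43047468, 86094918, 258282531, 129144555, 129140919, 258281811, 43048935,
    86097843, 258281109, 129141675, 86095683, 43051149, 43053283, 86106565, 258300010, 129179530, 86100005, 43059845,
    129159848, 258319694, 258286890, 129153288, 86113128, 43086090, 129146730, 258293454, 43066410, 86132814]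

/-- square of a code -/
def sqc (a : ℕ) : ℕ := mulc a a

/-- real part of a product of three entries -/
def p4tr (c i j k : ℕ) : ℕ :=
  Nat.add (Nat.mul (Nat.add (Nat.mul (re c 0 i) (re c 1 j)) (Nat.mul 2 (Nat.mul (im c 0 i) (im c 1 j)))) (re c 2 k))
    (Nat.mul 2 (Nat.mul (Nat.add (Nat.mul (re c 0 i) (im c 1 j)) (Nat.mul (im c 0 i) (re c 1 j))) (im c 2 k)))
/-- imaginary part of a product of three entries -/
def p4ti (c i j k : ℕ) : ℕ :=
  Nat.add (Nat.mul (Nat.add (Nat.mul (re c 0 i) (re c 1 j)) (Nat.mul 2 (Nat.mul (im c 0 i) (im c 1 j)))) (im c 2 k))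
    (Nat.mul (Nat.add (Nat.mul (re c 0 i) (im c 1 j)) (Nat.mul (im c 0 i) (re c 1 j))) (re c 2 k))
/-- the signed sum of the determinant -/
def p4dt (f : ℕ → ℕ → ℕ → ℕ) : ℕ :=
  Nat.add (Nat.add (Nat.add (f 0 1 2) (f 1 2 0)) (f 2 0 1)) (Nat.mul 2 (Nat.add (Nat.add (f 0 2 1) (f 1 0 2)) (f 2 1 0)))
/-- the Hermitian product of two columns -/
def p4gr (c i j : ℕ) : ℕ :=
  Nat.add (Nat.add (Nat.add (Nat.mul (re c 0 i) (re c 0 j)) (Nat.mul (im c 0 i) (im c 0 j)))
    (Nat.add (Nat.mul (re c 1 i) (re c 1 j)) (Nat.mul (im c 1 i) (im c 1 j))))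
    (Nat.add (Nat.mul (re c 2 i) (re c 2 j)) (Nat.mul (im c 2 i) (im c 2 j)))
/-- the Hermitian product of two columns -/
def p4gi (c i j : ℕ) : ℕ :=
  Nat.add (Nat.add (Nat.add (Nat.mul (im c 0 i) (re c 0 j)) (Nat.mul (im c 1 i) (re c 1 j))) (Nat.mul (im c 2 i) (re c 2 j)))
    (Nat.mul 2 (Nat.add (Nat.add (Nat.mul (re c 0 i) (im c 0 j)) (Nat.mul (re c 1 i) (im c 1 j)))
      (Nat.mul (re c 2 i) (im c 2 j))))
/-- test of one entry of the Gram matrix -/
def p4e (c i j d : ℕ) : Bool := and (Nat.beq (Nat.mod (p4gr c i j) 3) d) (Nat.beq (Nat.mod (p4gi c i j) 3) 0)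
/-- test for `IsGood` on codes -/
def p4good (c : ℕ) : Bool :=
  and (and (Nat.beq (Nat.mod (p4dt (p4tr c)) 3) 1) (Nat.beq (Nat.mod (p4dt (p4ti c)) 3) 0))
    (and (and (and (p4e c 0 0 1) (p4e c 0 1 0)) (and (p4e c 0 2 0) (p4e c 1 0 0)))
      (and (and (p4e c 1 1 1) (p4e c 1 2 0)) (and (p4e c 2 0 0) (and (p4e c 2 1 0) (p4e c 2 2 1)))))

theorem p4cast {x d : ℕ} (h : Nat.beq (Nat.mod x 3) d = true) : (x : ZMod 3) = (d : ZMod 3) := by
  rw [← Nat.eq_of_beq_eq_true h]
  exact (ZMod.natCast_mod x 3).symm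

theorem p4cube : ∀ x : K9, x * x * x = ⟨x.re, -x.im⟩ := by
  rintro ⟨a, b⟩
  revert a b
  decide +kernel

theorem p4e_spec {c : ℕ} {i j : Fin 3} {d : ℕ} (h : p4e c i j d = true) :
    dec c 0 i * (dec c 0 j * dec c 0 j * dec c 0 j) + dec c 1 i * (dec c 1 j * dec c 1 j * dec c 1 j)
      + dec c 2 i * (dec c 2 j * dec c 2 j * dec c 2 j) = ⟨(d : ZMod 3), 0⟩ := by
  have h2 : (2 : ZMod 3) = -1 := by decide
  obtain ⟨h3, h4⟩ := Bool.and_eq_true_iff.1 h
  have h5 := p4cast h3
  have h6 := p4cast h4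
  simp only [p4gr, p4gi, Nat.add_eq, Nat.mul_eq, Nat.cast_add, Nat.cast_mul, Nat.cast_ofNat, h2, Nat.cast_zero] at h5 h6
  rw [p4cube, p4cube, p4cube]
  refine QuadraticAlgebra.ext ?_ ?_
  · simp only [QuadraticAlgebra.re_add, QuadraticAlgebra.re_mul, dec_apply, Fin.val_zero, Fin.val_one, Fin.val_two]
    linear_combination h5
  · simp only [QuadraticAlgebra.im_add, QuadraticAlgebra.im_mul, dec_apply, Fin.val_zero, Fin.val_one, Fin.val_two]
    linear_combination h6

theorem p4good_spec {c : ℕ} (h : p4good c = true) : IsGood (dec c) := by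
  have h2 : (2 : ZMod 3) = -1 := by decide
  simp only [p4good, Bool.and_eq_true] at h
  obtain ⟨⟨h3, h4⟩, ⟨⟨e00, e01⟩, e02, e10⟩, ⟨e11, e12⟩, e20, e21, e22⟩ := h
  refine ⟨?_, fun i j => ?_⟩
  · have h5 := p4cast h3
    have h6 := p4cast h4
    simp only [p4dt, p4tr, p4ti, Nat.add_eq, Nat.mul_eq, Nat.cast_add, Nat.cast_mul, Nat.cast_ofNat, h2, Nat.cast_zero,
      Nat.cast_one] at h5 h6
    refine QuadraticAlgebra.ext ?_ ?_
    · simp only [QuadraticAlgebra.re_add, QuadraticAlgebra.re_sub, QuadraticAlgebra.re_mul, QuadraticAlgebra.im_mul,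
        QuadraticAlgebra.re_one, dec_apply, Fin.val_zero, Fin.val_one, Fin.val_two]
      linear_combination h5
    · simp only [QuadraticAlgebra.im_add, QuadraticAlgebra.im_sub, QuadraticAlgebra.re_mul, QuadraticAlgebra.im_mul,
        QuadraticAlgebra.im_one, dec_apply, Fin.val_zero, Fin.val_one, Fin.val_two]
      linear_combination h6
  · match i, j with
    | 0, 0 => exact p4e_spec (i := 0) (j := 0) e00
    | 0, 1 => exact p4e_spec (i := 0) (j := 1) e01
    | 0, 2 => exact p4e_spec (i := 0) (j := 2) e02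
    | 1, 0 => exact p4e_spec (i := 1) (j := 0) e10
    | 1, 1 => exact p4e_spec (i := 1) (j := 1) e11
    | 1, 2 => exact p4e_spec (i := 1) (j := 2) e12
    | 2, 0 => exact p4e_spec (i := 2) (j := 0) e20
    | 2, 1 => exact p4e_spec (i := 2) (j := 1) e21
    | 2, 2 => exact p4e_spec (i := 2) (j := 2) e22

theorem p4good_list {l : List ℕ} (h : l.all p4good = true) : ∀ c ∈ l, IsGood (dec c) :=
  fun c hc => p4good_spec (List.all_eq_true.1 h c hc)

theorem LH_good : ∀ c ∈ LH, IsGood (dec c) := p4good_list (by decide +kernel)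
theorem LH_mul : ∀ a ∈ LH, ∀ b ∈ LH, mulc a b ∈ LH := by (set_option synthInstance.maxSize 100000 in exact Cfsg.Agent.Lib.Refl.of (by decide +kernel))
theorem LH_bar : ∀ a ∈ LH, barc a ∈ LH := by decide +kernel
theorem LH_pow : ∀ a ∈ LH, sqc (sqc (sqc a)) = c1 := by decide +kernel
theorem LH_one : c1 ∈ LH := by decide +kernel
theorem LH_mod : ∀ a ∈ LH, Nat.mod a NN = a := by decide +kernel
theorem LH_nodup : LH.Nodup := by decide +kernel

theorem pow_eight {g : G} {c : ℕ} (hc : c ∈ LH) (h : Rp g c) : g ^ 8 = 1 := by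
  have h2 := h.mul h
  have h4 := h2.mul h2
  have h8 := (h4.mul h4).eq rp_one (LH_pow c hc)
  rw [← h8]
  simp only [pow_succ, pow_zero, one_mul, mul_assoc]

/-- `H` as a submonoid -/
def HM : Submonoid G where
  carrier := {g | ∃ c ∈ LH, Rp g c}
  mul_mem' := fun ⟨a, ha, h⟩ ⟨b, hb, h'⟩ => ⟨_, LH_mul a ha b hb, h.mul h'⟩
  one_mem' := ⟨c1, LH_one, rp_one⟩

/-- a Sylow 2-subgroup -/
def H : Subgroup G where
  toSubmonoid := HM
  inv_mem' := fun {g} hg => by
    obtain ⟨c, hc, h⟩ := id hg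
    have h8 := pow_eight hc h
    rw [pow_succ] at h8
    rw [← eq_inv_of_mul_eq_one_left (h8 :)]
    exact pow_mem (S := HM) hg 7

theorem el_mem_H {c : ℕ} (hc : c ∈ LH) : el c ∈ H := ⟨c, hc, rp_el (LH_good c hc)⟩

theorem H_pow {g : G} (hg : g ∈ H) : g ^ 8 = 1 := by
  obtain ⟨c, hc, h⟩ := hg
  exact pow_eight hc h

theorem H_bar {g : G} (hg : g ∈ H) : σ g ∈ H := by
  obtain ⟨c, hc, h⟩ := hg
  exact ⟨_, LH_bar c hc, h.bar⟩

theorem isPGroup_H : IsPGroup 2 H := fun g => ⟨3, Subtype.ext (H_pow g.2)⟩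

theorem le_card_H [Finite G] : 32 ≤ Nat.card H := by
  have h1 : Nat.card {c // c ∈ LH.toFinset} = 32 := by
    rw [Nat.card_eq_fintype_card, Fintype.card_coe, List.toFinset_card_of_nodup LH_nodup]
    rfl
  rw [← h1]
  refine Nat.card_le_card_of_injective (fun c => ⟨el c.1, el_mem_H (List.mem_toFinset.1 c.2)⟩) fun a b e => ?_
  have ha := List.mem_toFinset.1 a.2
  have hb := List.mem_toFinset.1 b.2
  have h2 := (rp_el (LH_good _ ha)).mod (rp_el (LH_good _ hb)) (congrArg Subtype.val e)
  rw [LH_mod _ ha, LH_mod _ hb] at h2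
  exact Subtype.ext h2

/-! ### involutions -/

/-- `diag(-1, -1, 1)` -/
def cT : ℕ := 43059845
/-- `diag(1, -1, -1)` -/
def cT' : ℕ := 86106565

theorem rp_T : Rp (el cT) cT := rp_el (by decide +kernel)
theorem rp_T' : Rp (el cT') cT' := rp_el (by decide +kernel)

/-- conjugating elements for the outer involutions -/
def LD : List ℕ :=
  [2113083, 3458088, 971469, 1411056, 1069524, 1614087, 36167229, 40426047, 1601127, 551367, 40418919, 27671625,
    248715477, 210453183, 2093319, 977949, 210451815, 325244529, 1030527, 3635244]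

/-- conjugating elements for the inner involutions -/
def LE : List ℕ := [129195607, 258309562, 43095613, 86129230, 43053283, 86094180]

theorem LD_good : ∀ c ∈ LD, IsGood (dec c) := p4good_list (by decide +kernel)
theorem LE_good : ∀ c ∈ LE, IsGood (dec c) := p4good_list (by decide +kernel)

theorem LD_chk : ∀ c ∈ LH, Nat.mod (mulc c (barc c)) NN = Nat.mod c1 NN → ∃ d ∈ LD, mulc c (barc d) = d := by
  decide +kernel

theorem LE_chk : ∀ c ∈ LH, Nat.mod (mulc c c) NN = Nat.mod c1 NN → c = c1 ∨ c = cT ∨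
    ((∃ d ∈ LE, mulc d cT = mulc cT d ∧ mulc d c = mulc cT' d) ∧
      ∀ e ∈ LH, Nat.mod (mulc e e) NN = Nat.mod c1 NN → Nat.mod (mulc e c) NN = Nat.mod (mulc c e) NN →
        e = c1 ∨ e = cT ∨ e = c ∨ e = mulc cT c) := by
  decide +kernel

/-- the outer involutions are conjugate -/
theorem exists_outer {h : G} (hh : h ∈ H) (h1 : h * σ h = 1) : ∃ d : G, h * σ d = d := by
  obtain ⟨c, hc, r⟩ := hh
  obtain ⟨d, hd, e⟩ := LD_chk c hc ((r.mul r.bar).mod rp_one h1)
  have rd := rp_el (LD_good d hd)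
  exact ⟨el d, (r.mul rd.bar).eq rd e⟩

/-- the four-groups of `H` -/
theorem exists_inner {h : G} (hh : h ∈ H) (h2 : h * h = 1) (h1 : h ≠ 1) (ht : h ≠ el cT) :
    (∃ d : G, d * el cT = el cT * d ∧ d * h = el cT' * d) ∧
      ∀ e ∈ H, e * e = 1 → e * h = h * e → e = 1 ∨ e = el cT ∨ e = h ∨ e = el cT * h := by
  obtain ⟨c, hc, r⟩ := hh
  rcases LE_chk c hc ((r.mul r).mod rp_one h2) with e | e | ⟨⟨d, hd, e1, e2⟩, e3⟩
  · exact (h1 (r.eq rp_one e)).elim
  · exact (ht (r.eq rp_T e)).elim
  have rd := rp_el (LE_good d hd)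
  refine ⟨⟨el d, (rd.mul rp_T).eq (rp_T.mul rd) e1, (rd.mul r).eq (rp_T'.mul rd) e2⟩, ?_⟩
  rintro e ⟨a, ha, ra⟩ a2 ac
  rcases e3 a ha ((ra.mul ra).mod rp_one a2) ((ra.mul r).mod (r.mul ra) ac) with e4 | e4 | e4 | e4
  · exact Or.inl (ra.eq rp_one e4)
  · exact Or.inr (Or.inl (ra.eq rp_T e4))
  · exact Or.inr (Or.inr (Or.inl (ra.eq r e4)))
  · exact Or.inr (Or.inr (Or.inr (ra.eq (rp_T.mul r) e4)))

/-- `σ` is not inner -/
theorem σ_ne_conj (g : G) : σ ≠ MulAut.conj g := fun e => by
  have r : Rp (el 86113128) 86113128 := rp_el (by decide +kernel)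
  have h1 : σ (el 86113128) = g * el 86113128 * g⁻¹ := by rw [e, MulAut.conj_apply]
  have h2 : (_root_.Cfsg.Agent.Classification.RTwo.UThreeThree.mt (σ (el 86113128))).trace = (_root_.Cfsg.Agent.Classification.RTwo.UThreeThree.mt (el 86113128)).trace := by
    rw [h1, mt_mul, Matrix.trace_mul_comm, ← mt_mul, inv_mul_cancel_left]
  rw [r.bar, r] at h2
  revert h2
  decide +kernel

/-! ### elements of order 3 and 8 -/

/-- class 3A -/
def cZ : ℕ := 188335966
/-- class 3B -/
def cY : ℕ := 143119431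
/-- class 3B -/
def cQ : ℕ := 4783779
/-- class 3B -/
def cY' : ℕ := 126252901
/-- order 8 -/
def cW : ℕ := 162469674
/-- conjugates `y` to `y q` -/
def cG1 : ℕ := 125286607
/-- conjugates `y` to `y q²` -/
def cG2 : ℕ := 148049902
/-- conjugates `y` to `q` -/
def cG3 : ℕ := 2060865
/-- conjugates `y` to `y'` -/
def cG4 : ℕ := 334810629

theorem rp_Z : Rp (el cZ) cZ := rp_el (by decide +kernel)
theorem rp_Y : Rp (el cY) cY := rp_el (by decide +kernel)
theorem rp_Q : Rp (el cQ) cQ := rp_el (by decide +kernel)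
theorem rp_Y' : Rp (el cY') cY' := rp_el (by decide +kernel)
theorem rp_W : Rp (el cW) cW := rp_el (by decide +kernel)
theorem rp_G1 : Rp (el cG1) cG1 := rp_el (by decide +kernel)
theorem rp_G2 : Rp (el cG2) cG2 := rp_el (by decide +kernel)
theorem rp_G3 : Rp (el cG3) cG3 := rp_el (by decide +kernel)
theorem rp_G4 : Rp (el cG4) cG4 := rp_el (by decide +kernel)

theorem Rp.cube {g : G} {a : ℕ} (h : Rp g a) (e : mulc (mulc a a) a = c1) : g ^ 3 = 1 := by
  rw [pow_succ, pow_two]
  exact ((h.mul h).mul h).eq rp_one e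

theorem Z_cube : el cZ ^ 3 = 1 := rp_Z.cube (by decide +kernel)
theorem Y_cube : el cY ^ 3 = 1 := rp_Y.cube (by decide +kernel)
theorem Q_cube : el cQ ^ 3 = 1 := rp_Q.cube (by decide +kernel)
theorem Y'_cube : el cY' ^ 3 = 1 := rp_Y'.cube (by decide +kernel)
theorem Z_ne : el cZ ≠ 1 := rp_Z.ne rp_one (by decide +kernel)
theorem YZ : el cY * el cZ = el cZ * el cY := (rp_Y.mul rp_Z).eq (rp_Z.mul rp_Y) (by decide +kernel)
theorem QZ : el cQ * el cZ = el cZ * el cQ := (rp_Q.mul rp_Z).eq (rp_Z.mul rp_Q) (by decide +kernel)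
theorem QY : el cQ * el cY = el cY * el cZ * el cQ :=
  (rp_Q.mul rp_Y).eq ((rp_Y.mul rp_Z).mul rp_Q) (by decide +kernel)
theorem G1Z : el cG1 * el cZ = el cZ * el cZ * el cG1 :=
  (rp_G1.mul rp_Z).eq ((rp_Z.mul rp_Z).mul rp_G1) (by decide +kernel)
theorem G2Z : el cG2 * el cZ = el cZ * el cZ * el cG2 :=
  (rp_G2.mul rp_Z).eq ((rp_Z.mul rp_Z).mul rp_G2) (by decide +kernel)
theorem G3Z : el cG3 * el cZ = el cZ * el cG3 := (rp_G3.mul rp_Z).eq (rp_Z.mul rp_G3) (by decide +kernel)
theorem G1Y : el cG1 * el cY = el cY * el cQ * el cG1 :=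
  (rp_G1.mul rp_Y).eq ((rp_Y.mul rp_Q).mul rp_G1) (by decide +kernel)
theorem G2Y : el cG2 * el cY = el cY * (el cQ * el cQ) * el cG2 :=
  (rp_G2.mul rp_Y).eq ((rp_Y.mul (rp_Q.mul rp_Q)).mul rp_G2) (by decide +kernel)
theorem G3Y : el cG3 * el cY = el cQ * el cG3 := (rp_G3.mul rp_Y).eq (rp_Q.mul rp_G3) (by decide +kernel)
theorem G4Y : el cG4 * el cY = el cY' * el cG4 := (rp_G4.mul rp_Y).eq (rp_Y'.mul rp_G4) (by decide +kernel)
theorem WZ : el cW * el cZ = el cZ * el cZ * el cW :=
  (rp_W.mul rp_Z).eq ((rp_Z.mul rp_Z).mul rp_W) (by decide +kernel)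
theorem σZ : σ (el cZ) * el cZ = 1 := (rp_Z.bar.mul rp_Z).eq rp_one (by decide +kernel)
theorem σY : σ (el cY) * el cY = 1 := (rp_Y.bar.mul rp_Y).eq rp_one (by decide +kernel)

theorem rp_W4 : Rp (el cW ^ 4) (sqc (sqc cW)) := by
  have h : el cW ^ 4 = el cW * el cW * (el cW * el cW) := by simp only [pow_succ, pow_zero, one_mul, mul_assoc]
  rw [h]
  exact (rp_W.mul rp_W).mul (rp_W.mul rp_W)

theorem W4_ne : el cW ^ 4 ≠ 1 := rp_W4.ne rp_one (by decide +kernel)
theorem W4_sq : el cW ^ 4 * el cW ^ 4 = 1 := (rp_W4.mul rp_W4).eq rp_one (by decide +kernel)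
theorem W4Z : el cW ^ 4 * el cZ = el cZ * el cW ^ 4 := (rp_W4.mul rp_Z).eq (rp_Z.mul rp_W4) (by decide +kernel)

/-! ### generation -/

theorem eq_top_of_mem {B : Subgroup G} (h1 : el cY ∈ B) (h2 : el cY' ∈ B) : B = ⊤ := by
  have rU : Rp H277.U33.gU.su 40418919 := by
    show H277.U33.mU = dec 40418919
    decide +kernel
  have rY : Rp H277.U33.gY.su 149535975 := by
    show H277.U33.mY = dec 149535975
    decide +kernel
  have rX : Rp H277.U33.gX.su 330957439 := by
    show H277.U33.mX = dec 330957439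
    decide +kernel
  have mU : H277.U33.gU.su ∈ B := by
    rw [rU.eq (rp_wd rp_Y rp_Y' [false, true, false, true, false, false]) (by decide +kernel)]
    exact wd_mem h1 h2 _
  have mY : H277.U33.gY.su ∈ B := by
    rw [rY.eq (rp_wd rp_Y rp_Y' [false, false, true, false, false, true, false, true, true, false])
      (by decide +kernel)]
    exact wd_mem h1 h2 _
  have mX : H277.U33.gX.su ∈ B := by
    rw [rX.eq (rp_wd rp_Y rp_Y' [true, false, true, true, false, true, true, false, true, false, true, false, false])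
      (by decide +kernel)]
    exact wd_mem h1 h2 _
  have h3 : (⊤ : Subgroup (PSU 3 K9 3)) ≤ B.map H277.U33.pj := by
    rw [← H277.U33.closure_top, Subgroup.closure_le]
    rintro x (rfl | rfl | rfl)
    · exact ⟨_, mU, rfl⟩
    · exact ⟨_, mY, rfl⟩
    · exact ⟨_, mX, rfl⟩
  refine eq_top_iff.2 fun g _ => ?_
  obtain ⟨b, hb, e⟩ := h3 (Subgroup.mem_top (H277.U33.pj g))
  have h4 : b⁻¹ * g ∈ Subgroup.center G := QuotientGroup.eq.1 e
  rw [center_SU card_k9, Subgroup.mem_bot, inv_mul_eq_one] at h4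
  exact h4 ▸ hb

end Cfsg.Agent.TwoF.XL.U33
end

-- part: TwoF/XL/U33/Span
section
/-!
# TwoF, `U₃(3)` in characteristic 2 (helper76): an irreducible module with a quadratic four-group has dimension `≤ 10`

The orbit of a vector fixed by `H` has at most 189 points; the quadratic relations express all of them by ten.
-/

set_option autoImplicit false

namespace Cfsg.Agent.TwoF.XL.U33

open Cfsg.Agent.Classification.RTwo.UThreeThree Cfsg.Agent.TwoF.Gen Module

/-- the codes of 189 coset representatives of `H` -/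
def RN : ℕ :=
  0x291990d07b35e57159a2bda14e6de7b1525f0b116592fce1308e86312559b041294ad3a13c7ec570167818f01a693c50d7963290c0b798208ed12fb0b39205412a5f85f04abbc010718391e0a7e8133107d6f970d51356d166e8a5806c68515156aefbe124c893711b991fb14b0ea630398477e099782c503477a1e0cf7c6450fd3330f123cfc3105b31092088bc9610d2afec70b27838a0a0716a90c2b7ef612729bcb0435b2930629733a0a6d61b51149f67f0d84901b157c29d0073c8c9d164ee3d0129aebb3109f8c6714c207fb04870b7c08caf9f70322881a0d1ae911103e6aab1219d77f05d800b008208fdf0ebbf23b0abfe54e0957639d0ae8ee4f13be2e6a03cb605c059046af0a6712c5101b385e0db8d21414dd954f0776368c1536ac3012eb1c23117fe67714cdbe3f036a528f0843d2a0047636aa0cfe13a0106c5e0512314458063a365409a880b90dc992550af3409e09cd6bc70a9a8a8f12da391404e564ac05fb7eed0a8a36330ff646fc0e9cc6c8152bf86d065c319a1503503e13dd7b671109ddab14aa9a2f02ff19af0868c36003a9ae7e0d0f31da115b22a51220257c0706bdde08b9bb7704115ea80d76e20411c2d2cf06a881af0b3738f510a349be05a7014a04812c7301ad8eb7166e09c704c289470a2c32f81247d43c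072e6c9e08e16a37062784430351328c022b5db508222d4f1061dbd4026d076c09abcf52103b00f7016b3a24050af3340ebb3f5b1196ac25077fd9250ae6213a10e50f9e061ed6c60300703f026d790314d8946403bff17f09bf2cc612ea02bf066017200938cfef05f7c2f50489d94e016b72c708b8a53d10257d48022b40ea0837b05c1155054701ad0004098c404e09af172a0992286909a32d530346a10f036977eb034c892a035d8e1415aaba6a058e772505b14e0105945f4005a5642a1063c84210869f1e1069b05d107ab5470c8b42bf1362d33e0ed318d5003510ba00156dfe000eec1d001ff1070d0400af0cfafe150d19a0870d109ded0290f0e3000902a3021fdbed0227de3d001051d4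

/-- permutation of the cosets -/
def PY : ℕ :=
  0x22502e00b33db93b35022643345e25590b899c5c150f75a27a30326a8e128c4f3a48a8499919673e97442728709f413f20956e232f6518ae7b910a611460a3542d240e5a932b732c7c1f886b0c9b3c4e864d4caca747460d8d668037389d096d39824221513357b01a927713295f5d71a1bcb5986f9663b2783179a0b7648b408a4aaaa97f81b4365556a5b17e722a74a652babb8353458584ab4bad9e76061b1e037d946c04109a62588f170768a48790695baf01161c08111db805b6

/-- the elements of `H` needed to check it -/
def SY : ℕ :=
  0xe111119110e1e0b04110b04061b0a0408000e0a0e0901051e1c1f0f0b0f1100081514170b0b0f0d1405191a1b1112100a0e0a0f031e0c0004050d01040004110008030b0f1514170505010e020a0f031e191a1b1e1f1c060a0e1112100f070b0a1b060d14050501010400000a1a180800040e060a050d141f1f1d031e0f1300101516150008110013100f0b031615150d05140e0a060f1f1d1a1a180e010c13150e050f081d140a00040b12010d0702060c09030a0007091a0d101912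

/-- permutation of the cosets -/
def PY' : ℕ :=
  0x57513a5f43651d1561554c0e621c8f3b95932f2e2d5d8a1890914d84868588521f9744981356ad63a20f9a581646a7a59d9c3db04faf343335a8aaa9090a003f404129276f39424b38367e1a20022321691017015b5c5a5eb9ac8959bc64b78e070804b4a3609b53bbb38c54b89e7d944749777576b2ae7b925048453c4ebaa67c963e4a0b030ca1a09f287071828183377f80120614226a6b1b051e318b6d11876e30b58d25a41979997ab624ab0db173742b2a68673226662c786c72

/-- the elements of `H` needed to check it -/
def SY' : ℕ :=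
  0x131a070a170319090a13170909010d061a19101010090d01191a061313130d09011a06190602060206060602061f1f1d1f1d1f1f1f1d121212121212131a1f131313161415040404161415131a051416151a130e1111110b1f070c000800120c040c131f070b070b0f080c00090d011a0e02121212090d011a0e020c0c0c160d011a0e021c18171010101417141313131417141c1c1714141717181c180d1f0e0d12161d0d16040e12041f0718040e1d121f181603001c181318000b1f

/-- permutation of the cosets -/
def PT : ℕ :=
  0xbcbbb7b8b9bab3b4b5b6b2b19897969594939291908f8e8d8c8b8a898887868584838281b0afaeadacabaaa9a8a7a6a5a4a3a2a1a09f9e9d9c9b9a996867666564636261605f5e5d5c5b5a595857565554535251807f7e7d7c7b7a797877767574737271706f6e6d6c6b6a694a443e49473b504d484c413d4f403a46433f4e453c4b4239322c26312f233835303429253728222e2b27362d24332a2113121110171615140f1c1b1a19201f1e1d180d0e0c0b0a09050607080403020100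

/-- the elements of `H` needed to check it -/
def ST : ℕ :=
  0x1515151515151515151505051515151515151515151515151515151515151515151515151515151515151515151515151515151515151515151515151515151515151515151515151515151515151515151515151515151515151515151515151515151515151515151515150505050505050505050505050505050505050505050505050505050505050505050505050505050505050505050505051111111111111111111111111111111111111111111111111515151515110e0511

/-- permutation of the cosets -/
def PT' : ℕ :=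
  0xbcbbbab9b8b7b6b5b4b3b2b1a3a4a2a6a7a5a0a19facadabafb0aea9aaa89a9b999d9e9c8b8c8a8e8f8d88898794959397989691929082838185868473747276777570716f7c7d7b7f807e797a786a6b696d6e6c5b5c5a5e5f5d58595764656367686661626052535155565443444246474540413f4c4d4b4f504e494a483a3b393d3e3c2b2c2a2e2f2d28292734353337383631323022232125262412131011161714150f1b1c191a1f201d1e180d0e090a0b0c080706050403020100

/-- the elements of `H` needed to check it -/
def ST' : ℕ :=
  0x101010101010101010101010101010101010101010101010101010101010101010101010101010101010101010101010101010101010101010101010101010101010101010101010101010101010101010101010101010101010101010101010101010101010101010101010101010101010101010101010101010101010101010101010101010101010101010101010101010101010101010101010101010101010101010101010141414141114151515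

/-- the points to start with -/
def start : List ℕ := [4, 132, 147, 57, 185, 137, 96, 2, 18, 65]

/-- the steps -/
def steps : List (List Bool × ℕ) :=
  [([false, false, true, false], 166), ([true, false, false, true, true], 28), ([false, true, false, true, false,
    true, false, false], 30), ([false, true, false, true, false, true, false, false], 143), ([true, false, false],
    16), ([false, true, false, true, true, false], 26), ([true, true, false, false, true, false], 123), ([false, true,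
    true, false, false, true, true], 31), ([false, true, false, false, true, true, false], 109), ([true, true, false,
    true, true, false, false], 119), ([true, false, true, false, true, false, false], 25), ([true, false, true, false,
    true, false, false], 89), ([true, false, true, true, false, false, true, false], 121), ([false, false, true,
    false, true, false, true, false, false], 94), ([true], 16), ([true], 116), ([true, false], 30), ([true, false],
    85), ([false, false], 46), ([true, false, true, true], 28), ([true, false, true, true], 141), ([false, false,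
    true, true], 115), ([true, true, false, false], 73), ([true, true, false, false], 170), ([false, true, false,
    false], 28), ([false, true, false, false], 97), ([false, true, false, false], 141), ([true, false, false, true,
    true], 162), ([false, false, true, true, false], 54), ([false, false, true, true, false], 108), ([false, false,
    true, true, false], 128), ([false, false, true, true, false], 165), ([true, false, true, false, false], 166),
    ([false, false, true, false, false], 142), ([true, false, true, false, true, true], 26), ([true, false, true,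
    false, true, true], 86), ([true, false, true, false, true, true], 114), ([true, true, false, false, true, true],
    28), ([true, true, false, false, true, true], 88), ([true, true, false, false, true, true], 141), ([false, true,
    false, false, true, true], 34), ([false, true, false, false, true, true], 91), ([false, true, false, false, true,
    true], 105), ([true, true, false, true, true, false], 21), ([true, true, false, true, true, false], 90), ([false,
    true, false, true, true, false], 114), ([true, false, false, true, true, false], 31), ([true, false, false, true,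
    true, false], 67), ([true, false, false, true, true, false], 135), ([true, false, false, true, true, false], 164),
    ([true, true, false, false, true, false], 38), ([false, false, true, true, false, false], 37), ([true, true,
    false, true, false, false], 49), ([true, true, false, true, false, false], 101), ([true, true, false, true, false,
    false], 122), ([false, true, false, true, false, false], 22), ([false, true, false, true, false, false], 69),
    ([false, true, false, true, false, false], 89), ([false, true, false, true, false, false], 133), ([false, true,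
    false, true, false, false], 134), ([false, true, false, true, false, false], 141), ([false, true, false, true,
    false, false], 167), ([false, true, true, false, false, true, true], 67), ([false, true, true, false, false, true,
    true], 133), ([false, true, true, false, false, true, true], 135), ([false, true, true, false, false, true, true],
    164), ([false, true, true, false, false, true, true], 174), ([true, false, true, false, false, true, true], 66),
    ([true, false, true, false, false, true, true], 129), ([true, false, true, false, false, true, true], 163),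
    ([false, false, true, false, false, true, true], 61), ([false, false, true, false, false, true, true], 143),
    ([false, false, true, false, false, true, true], 158), ([false, true, true, false, true, true, false], 54),
    ([false, true, true, false, true, true, false], 66), ([false, true, true, false, true, true, false], 67), ([false,
    true, true, false, true, true, false], 84), ([false, true, true, false, true, true, false], 128), ([false, true,
    true, false, true, true, false], 129), ([false, true, true, false, true, true, false], 135), ([false, true, true,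
    false, true, true, false], 163), ([false, true, true, false, true, true, false], 164), ([true, true, false, false,
    true, true, false], 67), ([true, true, false, false, true, true, false], 135), ([true, true, false, false, true,
    true, false], 164), ([false, true, false, false, true, true, false], 65), ([false, true, false, false, true, true,
    false], 128), ([false, true, false, false, true, true, false], 142), ([false, true, false, false, true, true,
    false], 160), ([false, true, true, false, false, true, false], 62), ([false, true, true, false, false, true,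
    false], 65), ([false, true, true, false, false, true, false], 142), ([false, true, true, false, false, true,
    false], 152), ([false, true, true, false, false, true, false], 156), ([false, true, true, false, false, true,
    false], 160), ([false, true, false, true, true, false, false], 65), ([false, true, false, true, true, false,
    false], 142), ([false, true, false, true, true, false, false], 160), ([true, false, false, true, true, false,
    false], 38), ([true, false, false, true, true, false, false], 56), ([true, false, false, true, true, false,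
    false], 80), ([true, false, false, true, true, false, false], 96), ([true, false, false, true, true, false,
    false], 104), ([true, false, false, true, true, false, false], 108), ([true, false, false, true, true, false,
    false], 127), ([true, false, false, true, true, false, false], 144), ([true, false, false, true, true, false,
    false], 175), ([false, true, true, false, true, false, false], 40), ([false, true, true, false, true, false,
    false], 45), ([false, true, true, false, true, false, false], 75), ([false, true, true, false, true, false,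
    false], 86), ([false, true, true, false, true, false, false], 92), ([false, true, true, false, true, false,
    false], 111), ([false, true, true, false, true, false, false], 119), ([false, true, true, false, true, false,
    false], 130), ([false, true, true, false, true, false, false], 172), ([true, false, true, false, true, false,
    false], 38), ([true, false, true, false, true, false, false], 43), ([true, false, true, false, true, false,
    false], 45), ([true, false, true, false, true, false, false], 53), ([true, false, true, false, true, false,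
    false], 59), ([true, false, true, false, true, false, false], 70), ([true, false, true, false, true, false,
    false], 86), ([true, false, true, false, true, false, false], 87), ([true, false, true, false, true, false,
    false], 98), ([true, false, true, false, true, false, false], 104), ([true, false, true, false, true, false,
    false], 108), ([true, false, true, false, true, false, false], 116), ([true, false, true, false, true, false,
    false], 119), ([true, false, true, false, true, false, false], 125), ([true, false, true, false, true, false,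
    false], 136), ([true, false, true, false, true, false, false], 148), ([true, false, true, false, true, false,
    false], 154), ([true, false, true, false, true, false, false], 166), ([false, false, true, false, true, false,
    false], 37), ([false, false, true, false, true, false, false], 40), ([false, false, true, false, true, false,
    false], 42), ([false, false, true, false, true, false, false], 75), ([false, false, true, false, true, false,
    false], 78), ([false, false, true, false, true, false, false], 81), ([false, false, true, false, true, false,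
    false], 92), ([false, false, true, false, true, false, false], 95), ([false, false, true, false, true, false,
    false], 110), ([false, false, true, false, true, false, false], 111), ([false, false, true, false, true, false,
    false], 115), ([false, false, true, false, true, false, false], 130), ([false, false, true, false, true, false,
    false], 132), ([false, false, true, false, true, false, false], 172), ([false, false, true, false, true, false,
    false], 176), ([false, true, false, false, true, false, false], 41), ([false, true, false, false, true, false,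
    false], 54), ([false, true, false, false, true, false, false], 67), ([false, true, false, false, true, false,
    false], 84), ([false, true, false, false, true, false, false], 94), ([false, true, false, false, true, false,
    false], 112), ([false, true, false, false, true, false, false], 128), ([false, true, false, false, true, false,
    false], 135), ([false, true, false, false, true, false, false], 164), ([true, false, true, true, false, false,
    true, true], 59), ([true, false, true, true, false, false, true, true], 148), ([true, false, true, true, false,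
    false, true, true], 154), ([true, false, true, true, false, false, true, false], 40), ([true, false, true, true,
    false, false, true, false], 61), ([true, false, true, true, false, false, true, false], 77), ([true, false, true,
    true, false, false, true, false], 78), ([true, false, true, true, false, false, true, false], 92), ([true, false,
    true, true, false, false, true, false], 111), ([true, false, true, true, false, false, true, false], 132), ([true,
    false, true, true, false, false, true, false], 143), ([true, false, true, true, false, false, true, false], 146),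
    ([true, false, true, true, false, false, true, false], 158), ([true, false, true, true, false, false, true,
    false], 173), ([true, false, true, true, false, false, true, false], 176), ([false, false, true, true, false,
    false, true, false], 46), ([false, false, true, true, false, false, true, false], 74), ([false, false, true, true,
    false, false, true, false], 88), ([false, false, true, true, false, false, true, false], 118), ([false, false,
    true, true, false, false, true, false], 151), ([false, false, true, true, false, false, true, false], 168)]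

/-- the code of the `i`-th representative -/
def rep (i : ℕ) : ℕ := Nat.mod (Nat.shiftRight RN (Nat.mul 32 i)) 4294967296

/-- table look-up -/
def tb (T i : ℕ) : ℕ := Nat.mod (Nat.shiftRight T (Nat.mul 8 i)) 256

/-- `T` is the permutation of the cosets induced by `c` -/
abbrev Tab (c T Q : ℕ) : Prop :=
  ∀ i < 189, tb T i < 189 ∧ mulc c (rep i) = mulc (rep (tb T i)) (LH.getD (tb Q i) c1)

theorem rep_good : ∀ i < 189, IsGood (dec (rep i)) := fun i hi =>
  p4good_list (l := (List.range 189).map rep) (by decide +kernel) _ (List.mem_map_of_mem (List.mem_range.2 hi))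
theorem tab_Y : Tab cY PY SY := by decide +kernel
theorem tab_Y' : Tab cY' PY' SY' := by decide +kernel
theorem tab_T : Tab cT PT ST := by decide +kernel
theorem tab_T' : Tab cT' PT' ST' := by decide +kernel

/-- action of a word on the cosets -/
def ap : List Bool → ℕ → ℕ
  | [], p => p
  | b :: w, p => tb (cond b PY PY') (ap w p)

/-- the closure procedure -/
def run : List (List Bool × ℕ) → ℕ → ℕ
  | [], m => m
  | s :: l, m => run l (cond (Nat.blt s.2 189 && m.testBit (ap s.1 (tb PT s.2)) && m.testBit (ap s.1 (tb PT' s.2)) &&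
      m.testBit (ap s.1 (tb PT (tb PT' s.2)))) (Nat.lor m (Nat.pow 2 (ap s.1 s.2))) m)

/-- a list as a bit mask -/
def msk : List ℕ → ℕ
  | [] => 0
  | i :: l => Nat.lor (msk l) (Nat.pow 2 i)

theorem run_steps : run steps (msk start) = 2 ^ 189 - 1 := by decide +kernel

theorem testBit_lor_pow {m i j : ℕ} (h : (Nat.lor m (Nat.pow 2 j)).testBit i = true) : m.testBit i = true ∨ i = j := by
  have h1 : (m ||| 2 ^ j).testBit i = true := h
  rw [Nat.testBit_or, Bool.or_eq_true, Nat.testBit_two_pow, decide_eq_true_eq] at h1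
  exact h1.imp id Eq.symm

theorem mem_of_msk {i : ℕ} : ∀ {l : List ℕ}, (msk l).testBit i = true → i ∈ l
  | [], h => by
    have h1 : (0 : ℕ).testBit i = true := h
    rw [Nat.zero_testBit] at h1
    exact absurd h1 Bool.false_ne_true
  | _ :: _, h => (testBit_lor_pow h).elim (fun h1 => List.mem_cons_of_mem _ (mem_of_msk h1))
      fun h1 => h1 ▸ List.mem_cons_self

theorem getD_mem {l : List ℕ} {d : ℕ} (hd : d ∈ l) (k : ℕ) : l.getD k d ∈ l := by
  rw [List.getD_eq_getElem?_getD]
  cases h : l[k]? with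
  | none => exact hd
  | some a => exact List.mem_of_getElem? h

variable {V : Type} [AddCommGroup V] [Module (ZMod 2) V] {ρ : Representation (ZMod 2) G V} {v : V}

/-- the points of the orbit -/
noncomputable def pt (ρ : Representation (ZMod 2) G V) (v : V) (i : ℕ) : V := ρ (el (rep i)) v

theorem act (hv : v ∈ fx ρ H) {g : G} {c T Q : ℕ} (r : Rp g c) (h : Tab c T Q) {i : ℕ} (hi : i < 189) :
    ρ g (pt ρ v i) = pt ρ v (tb T i) := by
  obtain ⟨h1, h2⟩ := h i hi
  have hm := getD_mem LH_one (tb Q i)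
  have e := (r.mul (rp_el (rep_good i hi))).eq ((rp_el (rep_good _ h1)).mul (rp_el (LH_good _ hm))) h2
  show ρ g (ρ (el (rep i)) v) = ρ (el (rep (tb T i))) v
  rw [← rho_mul, e, rho_mul, hv _ (el_mem_H hm)]

theorem act_wd (hv : v ∈ fx ρ H) {p : ℕ} (hp : p < 189) : ∀ w : List Bool,
    ap w p < 189 ∧ ρ (wd (· * ·) 1 (el cY) (el cY') w) (pt ρ v p) = pt ρ v (ap w p)
  | [] => ⟨hp, rho_one ρ _⟩
  | true :: w => ⟨(tab_Y _ (act_wd hv hp w).1).1, (rho_mul ρ _ _ _).trans
      ((congrArg _ (act_wd hv hp w).2).trans (act hv rp_Y tab_Y (act_wd hv hp w).1))⟩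
  | false :: w => ⟨(tab_Y' _ (act_wd hv hp w).1).1, (rho_mul ρ _ _ _).trans
      ((congrArg _ (act_wd hv hp w).2).trans (act hv rp_Y' tab_Y' (act_wd hv hp w).1))⟩

theorem rel (hv : v ∈ fx ρ H) (hq : ∀ u, ρ (el cT) (ρ (el cT') u - u) = ρ (el cT') u - u) {p : ℕ} (hp : p < 189)
    (w : List Bool) : pt ρ v (ap w p) =
      pt ρ v (ap w (tb PT p)) + pt ρ v (ap w (tb PT' p)) - pt ρ v (ap w (tb PT (tb PT' p))) := by
  have h1 := (tab_T p hp).1
  have h2 := (tab_T' p hp).1
  have h3 := (tab_T _ h2).1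
  have h4 := hq (pt ρ v p)
  rw [act hv rp_T' tab_T' hp, map_sub, act hv rp_T tab_T hp, act hv rp_T tab_T h2] at h4
  have h5 : pt ρ v p = pt ρ v (tb PT p) + pt ρ v (tb PT' p) - pt ρ v (tb PT (tb PT' p)) := by
    rw [← sub_eq_zero] at h4 ⊢
    rw [← h4]
    abel
  rw [← (act_wd hv hp w).2, ← (act_wd hv h1 w).2, ← (act_wd hv h2 w).2, ← (act_wd hv h3 w).2, ← map_add, ← map_sub,
    ← h5]

theorem run_mem (hv : v ∈ fx ρ H) (hq : ∀ u, ρ (el cT) (ρ (el cT') u - u) = ρ (el cT') u - u)
    {S : Submodule (ZMod 2) V} : ∀ (l : List (List Bool × ℕ)) (m : ℕ), (∀ i, m.testBit i = true → pt ρ v i ∈ S) →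
      ∀ i, (run l m).testBit i = true → pt ρ v i ∈ S
  | [], _, h => h
  | s :: l, m, h => by
    refine run_mem hv hq l _ fun i hi => ?_
    cases hb : (Nat.blt s.2 189 && m.testBit (ap s.1 (tb PT s.2)) && m.testBit (ap s.1 (tb PT' s.2)) &&
      m.testBit (ap s.1 (tb PT (tb PT' s.2)))) with
    | false =>
      rw [hb] at hi
      exact h i hi
    | true =>
      rw [hb] at hi
      rcases testBit_lor_pow hi with h1 | h1
      · exact h i h1
      · simp only [Bool.and_eq_true, Nat.blt_eq] at hb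
        rw [h1, rel hv hq hb.1.1.1]
        exact S.sub_mem (S.add_mem (h _ hb.1.1.2) (h _ hb.1.2)) (h _ hb.2)

/-- the bound -/
theorem finrank_le_ten [Finite G] [FiniteDimensional (ZMod 2) V] (hi : Irr ρ ⊤)
    (hq : ∀ u, ρ (el cT) (ρ (el cT') u - u) = ρ (el cT') u - u) : finrank (ZMod 2) V ≤ 10 := by
  classical
  by_cases h0 : (⊤ : Submodule (ZMod 2) V) = ⊥
  · rw [← finrank_top, h0, finrank_bot]
    exact Nat.zero_le _
  obtain ⟨v, hv, v0⟩ := (Submodule.ne_bot_iff _).1 (inf_fx_ne_bot (ρ := ρ) isPGroup_H (inv_top H) h0)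
  have hv' : v ∈ fx ρ H := hv.2
  let S : Submodule (ZMod 2) V := Submodule.span (ZMod 2) ((start.map (pt ρ v)).toFinset : Set V)
  have h1 : ∀ i < 189, pt ρ v i ∈ S := fun i h => by
    refine run_mem hv' hq steps (msk start) (fun j hj => Submodule.subset_span ?_) i ?_
    · exact Finset.mem_coe.2 (List.mem_toFinset.2 (List.mem_map_of_mem (mem_of_msk hj)))
    · rw [run_steps, Nat.testBit_two_pow_sub_one, decide_eq_true_eq]
      exact h
  have h2 : ∀ {g : G} {c T Q : ℕ}, Rp g c → Tab c T Q → ∀ u ∈ S, ρ g u ∈ S := fun {g c T Q} r t u hu => by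
    refine (Submodule.span_le (p := S.comap (ρ g))).2 (fun x hx => ?_) hu
    obtain ⟨i, hi, rfl⟩ := List.mem_map.1 (List.mem_toFinset.1 (Finset.mem_coe.1 hx))
    have h3 : i < 189 := (by decide : ∀ i ∈ start, i < 189) i hi
    show ρ g (pt ρ v i) ∈ S
    rw [act hv' r t h3]
    exact h1 _ (t i h3).1
  have h3 : ∀ {g : G}, g ^ 3 = 1 → (∀ u ∈ S, ρ g u ∈ S) → g ∈ nrm ρ S := fun {g} g3 h => by
    refine le_nrm_iff.2 (_root_.Cfsg.Agent.TwoF.Gen.inv_closure (S := {g}) ?_) (Subgroup.subset_closure rfl)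
    rintro _ rfl u hu
    refine ⟨h u hu, ?_⟩
    rw [pow_succ, pow_two] at g3
    rw [← eq_inv_of_mul_eq_one_left (g3 :), rho_mul]
    exact h _ (h u hu)
  have h4 : nrm ρ S = ⊤ := eq_top_of_mem (h3 Y_cube (h2 rp_Y tab_Y)) (h3 Y'_cube (h2 rp_Y' tab_Y'))
  rcases hi S (le_nrm_iff.1 h4.ge) with h5 | h5
  · have h6 := h1 0 (by norm_num)
    rw [h5, Submodule.mem_bot] at h6
    exact (v0 (rho_injective ρ _ (h6.trans (map_zero _).symm))).elim
  · rw [← finrank_top, ← h5]
    exact (finrank_span_finset_le_card _).trans ((List.toFinset_card_le _).trans (by rw [List.length_map]; decide))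

end Cfsg.Agent.TwoF.XL.U33
end

-- part: TwoF/XL/U33/Num
section
/-!
# TwoF, `U₃(3)` in characteristic 2 (helper76): the numbers from the extraspecial group of order 27
-/

set_option autoImplicit false

namespace Cfsg.Agent.TwoF.XL.U33

open Cfsg.Agent.TwoF.Gen Module Subgroup

variable {Y : Type} [Group Y] [Finite Y] {V : Type} [AddCommGroup V] [Module (ZMod 2) V] [Finite V]
  {ρ : Representation (ZMod 2) Y V}

omit [Finite Y] in
theorem isPGroup_zpowers {p n : ℕ} {a : Y} (ha : a ^ p ^ n = 1) : IsPGroup p (zpowers a) := by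
  rintro ⟨_, k, rfl⟩
  refine ⟨n, Subtype.ext ?_⟩
  show (a ^ k) ^ p ^ n = 1
  rw [← zpow_natCast, ← zpow_mul, mul_comm, zpow_mul, zpow_natCast, ha, one_zpow]

theorem mem_normalizer_zpowers {g z : Y} (h : g * z * g⁻¹ ∈ zpowers z) : g ∈ normalizer (zpowers z : Set Y) := by
  refine mem_normalizer_fintype ?_
  rintro _ ⟨k, rfl⟩
  show g * z ^ k * g⁻¹ ∈ zpowers z
  rw [← conj_zpow]
  exact zpow_mem h k

theorem even_of_modEq {c : ℕ} (h : 2 ^ c ≡ 1 [MOD 3]) : c % 2 = 0 := by
  rcases Nat.mod_two_eq_zero_or_one c with e | e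
  · exact e
  have h1 : c = 2 * (c / 2) + 1 := by omega
  have h2 : (2 ^ 2) ^ (c / 2) ≡ 1 ^ (c / 2) [MOD 3] := Nat.ModEq.pow _ (by decide)
  rw [h1, pow_succ, pow_mul] at h
  have h3 := (h2.mul_right 2).symm.trans h
  rw [one_pow] at h3
  exact absurd h3 (by decide)

omit [Finite Y] in
theorem even_codOn {X : Subgroup Y} (hX : IsPGroup 3 X) {U : Submodule (ZMod 2) V} (hU : Inv ρ X U) :
    codOn ρ U X % 2 = 0 := by
  have : Fact (Nat.Prime 3) := ⟨Nat.prime_three⟩
  have h := pow_cod_modEq (ρ := resOn ρ hU) (s := 3) (by rw [Nat.card_zmod]; decide) (hX.to_subgroup (X.subgroupOf X))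
  rw [cod_resOn_subgroupOf hU le_rfl, Nat.card_zmod] at h
  exact even_of_modEq h

/-- on the fixed space of `z` the four subgroups of `Q / Z` have the same codimension `e`; so `3 ∣ e` -/
theorem three_dvd_codOn {z y q g1 g2 g3 : Y} (y3 : y ^ 3 = 1) (q3 : q ^ 3 = 1) (yz : y * z = z * y)
    (qz : q * z = z * q) (qy : q * y = y * z * q) (n1 : g1 * z * g1⁻¹ ∈ zpowers z) (n2 : g2 * z * g2⁻¹ ∈ zpowers z)
    (n3 : g3 * z * g3⁻¹ ∈ zpowers z) (e1 : g1 * y = y * q * g1) (e2 : g2 * y = y * (q * q) * g2)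
    (e3 : g3 * y = q * g3) : 3 ∣ codOn ρ (fx ρ (zpowers z)) (zpowers y) := by
  have hN : Inv ρ (normalizer (zpowers z : Set Y)) (fx ρ (zpowers z)) := inv_fx le_rfl
  let y' : normalizer (zpowers z : Set Y) := ⟨y, mem_normalizer_zpowers_of_comm yz⟩
  let q' : normalizer (zpowers z : Set Y) := ⟨q, mem_normalizer_zpowers_of_comm qz⟩
  let f := (resOn ρ hN).toHomUnits
  let τ : Representation (ZMod 2) (Module.End (ZMod 2) (fx ρ (zpowers z)))ˣ (fx ρ (zpowers z)) := Units.coeHom _
  have : Finite (Module.End (ZMod 2) (fx ρ (zpowers z))) := DFunLike.finite _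
  have hc : ∀ x : normalizer (zpowers z : Set Y), cod τ (zpowers (f x)) = cod (resOn ρ hN) (zpowers x) := fun x => by
    rw [← MonoidHom.map_zpowers, ← cod_comp]
    rfl
  have hg : ∀ g x : normalizer (zpowers z : Set Y), (g : Y) * y = x * g →
      cod τ (zpowers (f x)) = codOn ρ (fx ρ (zpowers z)) (zpowers y) := fun g x e => by
    have h1 : x = g * y' * g⁻¹ := Subtype.ext (eq_mul_inv_of_mul_eq e.symm)
    rw [hc, h1, cod_zpowers_conj, cod_resOn, MonoidHom.map_zpowers]
    rfl
  have hyq : f y' * f q' = f q' * f y' := by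
    refine Units.ext (LinearMap.ext fun v => Subtype.ext ?_)
    show ρ y (ρ q v) = ρ q (ρ y v)
    rw [← rho_mul ρ q, qy, mul_assoc, ← qz, rho_mul, rho_mul, mem_fx_zpowers.1 v.2]
  have h := sum_cod_rank_two (ρ := τ) hyq Nat.prime_three (by decide)
    (by rw [← map_pow, show y' ^ 3 = 1 from Subtype.ext y3, map_one])
    (by rw [← map_pow, show q' ^ 3 = 1 from Subtype.ext q3, map_one])
  rw [Finset.sum_range_succ, Finset.sum_range_succ, Finset.sum_range_one, pow_zero, mul_one, pow_one, pow_two,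
    ← map_mul, ← map_mul, ← map_mul, hg 1 y' (by simp [y']), hg ⟨g1, mem_normalizer_zpowers n1⟩ (y' * q') e1,
    hg ⟨g2, mem_normalizer_zpowers n2⟩ (y' * (q' * q')) e2, hg ⟨g3, mem_normalizer_zpowers n3⟩ q' e3] at h
  omega

/-- the dichotomy -/
theorem nums (hf : Function.Injective ρ) {z y q g1 g2 g3 : Y} (z1 : z ≠ 1) (z3 : z ^ 3 = 1) (y3 : y ^ 3 = 1)
    (q3 : q ^ 3 = 1) (yz : y * z = z * y) (qz : q * z = z * q) (qy : q * y = y * z * q)
    (n1 : g1 * z * g1⁻¹ ∈ zpowers z) (n2 : g2 * z * g2⁻¹ ∈ zpowers z) (n3 : g3 * z * g3⁻¹ ∈ zpowers z)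
    (e1 : g1 * y = y * q * g1) (e2 : g2 * y = y * (q * q) * g2) (e3 : g3 * y = q * g3) :
    (cod ρ (zpowers z) = 6 ∧ cod ρ (zpowers y) = 4) ∨ 12 ≤ cod ρ (zpowers z ⊔ zpowers y) := by
  have h1 := heis_cod_eq (ρ := ρ) yz qz (mul_inv_eq_of_eq_mul qy) Nat.prime_three (by decide) y3 z3
  have h2 := cod_sup_eq (ρ := ρ) (zpowers z) (zpowers y)
  have h3 := three_dvd_codOn (ρ := ρ) y3 q3 yz qz qy n1 n2 n3 e1 e2 e3
  have h4 := even_codOn (ρ := ρ) (isPGroup_zpowers (n := 1) y3)
    (inv_fx (zpowers_le.2 (mem_normalizer_zpowers_of_comm yz)))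
  have h5 := even_codOn (ρ := ρ) (isPGroup_zpowers (n := 1) z3) (inv_top _)
  have h6 := cod_pos hf (zpowers_ne_bot.2 z1)
  rw [codOn_top] at h5
  (clear * - h1 h2 h3 h4 h5 h6; solve | lia | omega)

omit [Finite Y] [Finite V] in
/-- an involution acts quadratically -/
theorem sub_mem_fx {b : Y} (hb : b * b = 1) (u : V) : ρ b u - u ∈ fx ρ (zpowers b) := by
  have h2 : ∀ x : V, -x = x := fun x => by
    rw [← neg_one_smul (ZMod 2) x, show (-1 : ZMod 2) = 1 from rfl, one_smul]
  rw [mem_fx_zpowers, map_sub, ← rho_mul, hb, rho_one, ← neg_sub, h2]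

theorem pow_four_of_cube {R : Type} [Ring R] (h2 : (1 + 1 : R) = 0) {a : R} (h3 : (a - 1) * (a - 1) * (a - 1) = 0) :
    a * a * a * a = 1 := by
  obtain ⟨b, rfl⟩ : ∃ b, a = b + 1 := ⟨a - 1, (sub_add_cancel a 1).symm⟩
  rw [add_sub_cancel_right] at h3
  have h4 : (b + 1) * (b + 1) = b * b + 1 + (1 + 1) * b := by noncomm_ring
  have h5 : (b * b + 1) * (b * b + 1) = b * b * b * b + 1 + (1 + 1) * (b * b) := by noncomm_ring
  rw [mul_assoc, h4, h2, zero_mul, add_zero, h5, h2, h3, zero_mul, zero_mul, zero_add, add_zero]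

/-- the small case -/
theorem cod_le_two {z w : Y} (z3 : z ^ 3 = 1) (w8 : w ^ 4 * w ^ 4 = 1) (hn : w * z * w⁻¹ ∈ zpowers z)
    (hc : w ^ 4 * z = z * w ^ 4) (cz : cod ρ (zpowers z) ≤ 6) (hd : finrank (ZMod 2) (fx ρ (zpowers z)) ≤ 2) :
    cod ρ (zpowers (w ^ 4)) ≤ 2 := by
  have hW : Inv ρ (zpowers w) (fx ρ (zpowers z)) := inv_fx (zpowers_le.2 (mem_normalizer_zpowers hn))
  have hP : IsPGroup 2 (zpowers w) := isPGroup_zpowers (n := 3) (by rw [← w8, ← pow_add]; rfl)
  have hcub : Cub (resOn ρ hW) ⊤ := cub_of_cod_le_two (hP.to_subgroup ⊤) ((cod_le_finrank _).trans hd)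
  have h1 : fx ρ (zpowers z) ≤ fx ρ (zpowers (w ^ 4)) := fun v hv => by
    let w' : zpowers w := ⟨w, mem_zpowers w⟩
    have h3 := hcub w' trivial w' trivial w' trivial
    have h2 : (1 + 1 : Module.End (ZMod 2) (fx ρ (zpowers z))) = 0 :=
      (two_smul (ZMod 2) _).symm.trans (zero_smul (ZMod 2) _)
    have h4 := pow_four_of_cube h2 h3
    have h5 := congrArg Subtype.val (LinearMap.congr_fun h4 ⟨v, hv⟩)
    rw [mem_fx_zpowers, pow_succ, pow_succ, pow_two, rho_mul, rho_mul, rho_mul]
    exact h5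
  have hL : LinearMap.range (ρ (w ^ 4) - 1) ≤ fx ρ (zpowers (w ^ 4)) := by
    rintro _ ⟨u, rfl⟩
    exact sub_mem_fx w8 u
  have hz : ∀ u, ρ z ((ρ (w ^ 4) - 1) u) = (ρ (w ^ 4) - 1) (ρ z u) := fun u => by
    show ρ z (ρ (w ^ 4) u - u) = ρ (w ^ 4) (ρ z u) - ρ z u
    rw [map_sub, ← rho_mul, ← rho_mul, hc]
  have hI : Inv ρ (zpowers z) (LinearMap.range (ρ (w ^ 4) - 1)) := by
    rw [← cm_zpowers]
    exact inv_cm (zpowers_le.2 (mem_normalizer_zpowers_of_comm hc.symm)) (inv_top _)
  have h0 : LinearMap.range (ρ (w ^ 4) - 1) ⊓ fx ρ (zpowers z) = ⊥ := by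
    refine eq_bot_iff.2 ?_
    rintro _ ⟨⟨u, rfl⟩, hu⟩
    have h2 := mem_fx_zpowers.1 hu
    have h3 : u + ρ z u + ρ z (ρ z u) ∈ fx ρ (zpowers z) := by
      rw [pow_succ, pow_two] at z3
      rw [mem_fx_zpowers, map_add, map_add, ← rho_mul ρ z z (ρ z u), ← rho_mul ρ (z * z), z3, rho_one]
      abel
    have h4 : (ρ (w ^ 4) - 1) (u + ρ z u + ρ z (ρ z u)) = 0 := sub_eq_zero.2 (mem_fx_zpowers.1 (h1 h3))
    rw [map_add, map_add, ← hz, ← hz, ← hz, h2, h2, ← two_smul (ZMod 2), show (2 : ZMod 2) = 0 from rfl, zero_smul,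
      zero_add] at h4
    exact h4
  have h2 := finrank_le_codOn hL h0
  have h3 := cod_sup_eq (ρ := ρ) (zpowers (w ^ 4)) (zpowers z)
  have h4 : cod ρ (zpowers (w ^ 4) ⊔ zpowers z) = cod ρ (zpowers z) := by
    delta cod
    rw [fx_sup, inf_eq_right.2 h1]
  have h5 := even_codOn (isPGroup_zpowers (n := 1) z3) hI
  rw [codOn_of_inf_eq_bot h0] at h5
  have h6 := cod_zpowers (ρ := ρ) (w ^ 4)
  omega

/-- an involution which inverts `z` and `y` -/
theorem cod_le_of_inverts_two {z y s : Y} (z3 : z ^ 3 = 1) (y3 : y ^ 3 = 1) (yz : y * z = z * y) (s2 : s * s = 1)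
    (sz : s * z * s⁻¹ = z⁻¹) (sy : s * y * s⁻¹ = y⁻¹) :
    cod ρ (zpowers z ⊔ zpowers y) ≤ 2 * cod ρ (zpowers s) := by
  have hz : z ∈ zpowers z ⊔ zpowers y := mem_sup_left (mem_zpowers z)
  have hy : y ∈ zpowers z ⊔ zpowers y := mem_sup_right (mem_zpowers y)
  have hi : ∀ x : Y, x ^ 3 = 1 → x⁻¹ * x⁻¹ = x := fun x hx => by
    rw [pow_succ, pow_two] at hx
    rw [← mul_inv_rev, inv_eq_iff_mul_eq_one, hx]
  have h := cod_comm_le (ρ := ρ) (B := zpowers z ⊔ zpowers y) (comm_sup_zpowers yz)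
    (card_ne_zero_of_exp Nat.prime_three (by decide) (exp_sup_zpowers yz y3 z3)) (a := s) (s := 2) (n := 1)
    (by rw [pow_one, pow_two, s2]) (fun x hx => ?_) fun B hB => ?_
  · omega
  · have h1 : zpowers z ⊔ zpowers y ≤ (zpowers z ⊔ zpowers y).comap (MulAut.conj s).toMonoidHom := by
      refine sup_le (zpowers_le.2 ?_) (zpowers_le.2 ?_)
      · show s * z * s⁻¹ ∈ zpowers z ⊔ zpowers y
        rw [sz]
        exact inv_mem hz
      · show s * y * s⁻¹ ∈ zpowers z ⊔ zpowers y
        rw [sy]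
        exact inv_mem hy
    exact h1 hx
  · have h1 := hB z hz
    have h2 := hB y hy
    rw [sz, hi z z3] at h1
    rw [sy, hi y y3] at h2
    exact sup_le (zpowers_le.2 h1) (zpowers_le.2 h2)

end Cfsg.Agent.TwoF.XL.U33
end

-- part: TwoF/XL/U33/Frame
section
/-!
# TwoF, `U₃(3)` in characteristic 2 (helper76): the group `Y` is `U₃(3) : 2`
-/

set_option autoImplicit false

namespace Cfsg.Agent.TwoF.XL.U33

open Cfsg.Agent.Classification.RTwo.UThreeThree Subgroup

theorem card_G : Nat.card G = 6048 := H597.HT6.card_su33 card_k9'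

theorem finite_G : Finite G := Nat.finite_of_card_ne_zero (by rw [card_G]; norm_num)

theorem card_aut_G : Nat.card (MulAut G) = 12096 := by
  rw [← H597.HT6.card_aut33 card_k9']
  exact Nat.card_congr (MulAut.congr (psuEquiv card_k9)).symm.toEquiv

variable {Y : Type} [Group Y]

/-- `K = ι(G)`, and `s` induces the field automorphism -/
structure Fr (K : Subgroup Y) (ι : G →* Y) (s : Y) : Prop where
  inj : Function.Injective ι
  range : ι.range = K
  sq : s * s = 1
  notMem : s ∉ K
  conj : ∀ g, s * ι g * s⁻¹ = ι (σ g)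
  card : Nat.card Y = 12096

theorem exists_fr {F : Type} [Field F] [Fintype F] (hF : Fintype.card F = 3 ^ 2) [Finite Y] {V : Type}
    [AddCommGroup V] [Module (ZMod 2) V] {K : Subgroup Y} {ρ : Representation (ZMod 2) Y V} (h : Stp 2 K ρ)
    (e : Nonempty (K ⧸ center K ≃* PSU 3 F 3)) (hK : K ≠ ⊤) : ∃ ι s, Fr K ι s := by
  obtain ⟨π₀, φ₀, F₀⟩ := h.exists_frm e
  have h1 := F₀.card_center_dvd' h.perfect (S2089.result 3 3 hF le_rfl (by norm_num) (by simp))
  have hz : center K = ⊥ := card_eq_one.1 (Nat.dvd_one.1 h1)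
  obtain ⟨π, φ, F₁⟩ := h.exists_frm (S := G) (e.map fun f => f.trans ((psuEquiv hF).trans
    (LieClassical.FieldTransfer.suCongr 3 3 (FiniteField.ringEquivOfCardEq (hF.trans card_k9'.symm)))))
  have hπ : Function.Injective π := (MonoidHom.ker_eq_bot_iff _).1 (F₁.ker_π.trans hz)
  have hφ : Function.Injective φ := by
    rw [← MonoidHom.ker_eq_bot_iff, F₁.ker_φ, h.centralizer_eq, hz, Subgroup.map_bot]
  let ε : K ≃* G := MulEquiv.ofBijective π ⟨hπ, F₁.surj⟩
  have fa : Finite (MulAut G) := Nat.finite_of_card_ne_zero (by rw [card_aut_G]; norm_num)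
  have c1 : Nat.card Y ≤ 12096 := card_aut_G ▸ Nat.card_le_card_of_injective φ hφ
  have c2 : Nat.card K = 6048 := (Nat.card_congr ε.toEquiv).trans card_G
  have c3 := K.card_mul_index
  have c4 : K.index ≠ 1 := fun e => hK (index_eq_one.1 e)
  have c5 : K.index ≠ 0 := index_ne_zero_of_finite
  have c6 : Nat.card Y = 12096 := by
    rw [c2] at c3
    omega
  obtain ⟨s, hs⟩ := ((Nat.bijective_iff_injective_and_card φ).2 ⟨hφ, c6.trans card_aut_G.symm⟩).2 σ
  refine ⟨K.subtype.comp ε.symm.toMonoidHom, s, K.subtype_injective.comp ε.symm.injective, ?_, hφ ?_, fun hm => ?_,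
    fun g => ?_, c6⟩
  · rw [MonoidHom.range_comp, MonoidHom.range_eq_top.2 ε.symm.surjective, ← MonoidHom.range_eq_map, range_subtype]
  · rw [map_mul, hs, map_one]
    exact MulEquiv.ext σ_σ
  · exact σ_ne_conj _ (hs.symm.trans (F₁.φ_coe ⟨s, hm⟩))
  · have h2 := F₁.conj s (ε.symm g) ⟨_, h.normal.conj_mem _ (ε.symm g).2 s⟩ rfl
    rw [hs, show π (ε.symm g) = g from ε.apply_symm_apply g] at h2
    show _ = ((ε.symm (σ g) : K) : Y)
    rw [h2, show ∀ x, ε.symm (π x) = x from ε.symm_apply_apply]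
    rfl

namespace Fr

variable {K : Subgroup Y} {ι : G →* Y} {s : Y} (f : Fr K ι s)
include f

theorem mem (g : G) : ι g ∈ K := f.range ▸ ⟨g, rfl⟩

theorem comm (g : G) : s * ι g = ι (σ g) * s := by rw [← f.conj, inv_mul_cancel_right]

theorem outer_mul (g h : G) : ι g * s * (ι h * s) = ι (g * σ h) := by
  rw [map_mul, mul_assoc, ← mul_assoc s, f.comm, mul_assoc, f.sq, mul_one]

theorem outer_notMem (g : G) : ι g * s ∉ K := fun h => f.notMem ((K.mul_mem_cancel_left (f.mem g)).1 h)

theorem index [Finite Y] : K.index = 2 := by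
  have c2 : Nat.card K = 6048 := by
    rw [← f.range, ← card_G]
    exact (Nat.card_congr (MonoidHom.ofInjective f.inj).toEquiv).symm
  have c3 := K.card_mul_index
  rw [c2, f.card] at c3
  omega

/-- a Sylow 2-subgroup of `Y` -/
def U : Subgroup Y where
  carrier := {u | ∃ h ∈ H, u = ι h ∨ u = ι h * s}
  mul_mem' := by
    rintro _ _ ⟨a, ha, rfl | rfl⟩ ⟨b, hb, rfl | rfl⟩
    · exact ⟨_, mul_mem ha hb, Or.inl (map_mul ι a b).symm⟩
    · exact ⟨_, mul_mem ha hb, Or.inr (by rw [map_mul, mul_assoc])⟩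
    · exact ⟨_, mul_mem ha (H_bar hb), Or.inr (by rw [map_mul, mul_assoc, mul_assoc, f.comm])⟩
    · exact ⟨_, mul_mem ha (H_bar hb), Or.inl (f.outer_mul a b)⟩
  one_mem' := ⟨1, one_mem H, Or.inl (map_one ι).symm⟩
  inv_mem' := by
    rintro _ ⟨a, ha, rfl | rfl⟩
    · exact ⟨_, inv_mem ha, Or.inl (map_inv ι a).symm⟩
    · refine ⟨_, H_bar (inv_mem ha), Or.inr (inv_eq_of_mul_eq_one_right ?_)⟩
      rw [f.outer_mul, σ_σ, mul_inv_cancel, map_one]

theorem isPGroup_U : IsPGroup 2 f.U := by
  rintro ⟨_, a, ha, rfl | rfl⟩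
  · exact ⟨3, Subtype.ext (by
      show ι a ^ 8 = 1
      rw [← map_pow, H_pow ha, map_one])⟩
  · exact ⟨4, Subtype.ext (by
      show (ι a * s) ^ (2 * 8) = 1
      rw [pow_mul, pow_two, f.outer_mul, ← map_pow, H_pow (mul_mem ha (H_bar ha)), map_one])⟩

theorem exists_conj [Finite Y] {A : Subgroup Y} (hA : IsPGroup 2 A) :
    ∃ g : Y, A.map (MulAut.conj g).toMonoidHom ≤ f.U := by
  have := finite_G
  obtain ⟨P, hP⟩ := f.isPGroup_U.exists_le_sylow
  obtain ⟨Q, hQ⟩ := hA.exists_le_sylow
  have c1 : Nat.card P = 64 := by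
    rw [P.card_eq_multiplicity, f.card, show (12096 : ℕ) = 2 ^ 6 * 189 by norm_num,
      Nat.factorization_mul (by norm_num) (by norm_num), Nat.Prime.factorization_pow Nat.prime_two, Finsupp.add_apply,
      Finsupp.single_eq_same, Nat.factorization_eq_zero_of_not_dvd (by norm_num)]
    rfl
  have h1 : H.map ι < f.U := by
    refine lt_of_le_of_ne ?_ fun e => ?_
    · rintro _ ⟨a, ha, rfl⟩
      exact ⟨a, ha, Or.inl rfl⟩
    · have h2 : ι 1 * s ∈ H.map ι := e ▸ ⟨1, one_mem H, Or.inr rfl⟩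
      obtain ⟨a, -, h3⟩ := h2
      exact f.outer_notMem 1 (h3 ▸ f.mem a)
  have c2 : Nat.card (H.map ι) < Nat.card f.U :=
    lt_of_not_ge fun h => h1.ne (eq_of_le_of_card_ge h1.le h)
  rw [card_map_of_injective f.inj] at c2
  obtain ⟨n, hn⟩ := IsPGroup.iff_card.1 f.isPGroup_U
  have c3 : 2 ^ 5 < 2 ^ n := hn ▸ lt_of_le_of_lt le_card_H c2
  have c4 : 2 ^ 6 ≤ 2 ^ n := Nat.pow_le_pow_right (by norm_num) ((Nat.pow_lt_pow_iff_right (by norm_num)).1 c3)
  have h2 : f.U = P := eq_of_le_of_card_ge hP (by rw [hn]; exact c1.le.trans c4)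
  obtain ⟨g, hg⟩ := MulAction.exists_smul_eq Y Q P
  refine ⟨g, ?_⟩
  rw [h2, ← hg]
  exact map_mono hQ

end Fr

end Cfsg.Agent.TwoF.XL.U33
end

-- part: TwoF/XL/U33/Main
section
/-!
# TwoF, `U₃(3)` in characteristic 2 (helper76): the row of S3089
-/

set_option autoImplicit false

namespace Cfsg.Agent.TwoF.XL.U33

open Cfsg.Agent.TwoF.Gen Module Subgroup

section inner

variable {V : Type} [AddCommGroup V] [Module (ZMod 2) V] [Finite V] {ρ : Representation (ZMod 2) G V}

theorem conj_mem_sq {g z : G} (h : g * z = z * z * g) : g * z * g⁻¹ ∈ zpowers z := by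
  rw [mul_inv_eq_of_eq_mul h]
  exact mul_mem (mem_zpowers z) (mem_zpowers z)

theorem conj_mem_self {g z : G} (h : g * z = z * g) : g * z * g⁻¹ ∈ zpowers z := by
  rw [mul_inv_eq_of_eq_mul h]
  exact mem_zpowers z

/-- an involution of `K` is an offender, or the group `R` of order 9 has codimension at least 12 -/
theorem dich (hf : Function.Injective ρ) (h0 : fx ρ ⊤ = ⊥) :
    cod ρ (zpowers (el cW ^ 4)) ≤ 2 ∨ 12 ≤ cod ρ (zpowers (el cZ) ⊔ zpowers (el cY)) := by
  have := finite_G
  refine (nums hf Z_ne Z_cube Y_cube Q_cube YZ QZ QY ((conj_mem_sq G1Z :)) ((conj_mem_sq G2Z :))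
    ((conj_mem_self G3Z :)) G1Y G2Y G3Y).imp_left fun ⟨h1, h2⟩ => ?_
  have h3 : zpowers (el cY) ⊔ zpowers (el cY') = ⊤ :=
    eq_top_of_mem (mem_sup_left (mem_zpowers _)) (mem_sup_right (mem_zpowers _))
  have h4 := cod_sup_le (ρ := ρ) (zpowers (el cY)) (zpowers (el cY'))
  rw [h3, cod_of_fx_eq_bot h0, ← mul_inv_eq_of_eq_mul G4Y, cod_zpowers_conj] at h4
  have h5 := cod_add (ρ := ρ) (zpowers (el cZ))
  exact cod_le_two Z_cube W4_sq (conj_mem_sq WZ) W4Z h1.le (by omega)

end inner

variable {Y : Type} [Group Y] [Finite Y] {V : Type} [AddCommGroup V] [Module (ZMod 2) V] [Finite V]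
  {ρ : Representation (ZMod 2) Y V} {K : Subgroup Y} {ι : G →* Y} {s : Y}

/-- outer involutions have codimension at least 6 -/
theorem Fr.six_le (f : Fr K ι s) (h12 : 12 ≤ cod ρ (zpowers (ι (el cZ)) ⊔ zpowers (ι (el cY)))) {b : Y}
    (hb : b ∈ f.U) (hK : b ∉ K) (h2 : b * b = 1) : 6 ≤ cod ρ (zpowers b) := by
  obtain ⟨h, hh, rfl | rfl⟩ := hb
  · exact (hK (f.mem h)).elim
  rw [f.outer_mul, ← map_one ι] at h2
  obtain ⟨d, hd⟩ := exists_outer hh (f.inj h2)
  have h3 : ι d * s * (ι d)⁻¹ = ι h * s := by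
    rw [mul_inv_eq_iff_eq_mul, mul_assoc, f.comm, ← mul_assoc, ← map_mul, hd]
  have h4 := cod_le_of_inverts_two (ρ := ρ) (z := ι (el cZ)) (y := ι (el cY)) (s := s)
    (by rw [← map_pow, Z_cube, map_one]) (by rw [← map_pow, Y_cube, map_one]) (by rw [← map_mul, YZ, map_mul]) f.sq
    (by rw [f.conj, eq_inv_of_mul_eq_one_left (σZ :), map_inv]) (by rw [f.conj, eq_inv_of_mul_eq_one_left σY, map_inv])
  rw [← h3, cod_zpowers_conj]
  omega

/-- an elementary abelian subgroup of `U` of order at least 8, not inside `K` -/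
theorem Fr.struct (f : Fr K ι s) {A : Subgroup Y} (hA : IsElementaryAbelian 2 A) (hU : A ≤ f.U) (hK : ¬ A ≤ K)
    (h8 : 8 ≤ Nat.card A) : Nat.card A ≤ 8 ∧ ∃ h d : G, ι (el cT) ∈ A ∧ ι h ∈ A ∧ d * el cT = el cT * d ∧
      d * h = el cT' * d := by
  have := finite_G
  have : K.Normal := normal_of_index_eq_two f.index
  have c1 : K.relIndex A = 2 := by
    have h1 : K.relIndex A ∣ 2 := f.index ▸ relIndex_dvd_index_of_normal K A
    exact ((Nat.dvd_prime Nat.prime_two).1 h1).resolve_left fun e => hK (relIndex_eq_one.1 e)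
  have c2 : Nat.card (A.comap ι) * 2 = Nat.card A := by
    have h1 : Nat.card (A.comap ι) = Nat.card (K.subgroupOf A) := by
      rw [← card_map_of_injective f.inj, map_comap_eq, f.range, ← subgroupOf_map_subtype,
        card_map_of_injective A.subtype_injective]
    rw [h1, ← c1]
    exact card_mul_index _
  have hH : ∀ e ∈ A.comap ι, e ∈ H := fun e he => by
    obtain ⟨h, hh, e1 | e1⟩ := hU he
    · exact f.inj e1 ▸ hh
    · exact (f.outer_notMem h (e1 ▸ f.mem e)).elim
  have hs : ∀ e ∈ A.comap ι, e * e = 1 := fun e he => f.inj (by rw [map_mul, map_one, ← pow_two]; exact hA.2 _ he)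
  have c3 : Nat.card (A.comap ι) = (A.comap ι : Set G).ncard := rfl
  obtain ⟨h, hh, hn⟩ : ∃ h ∈ (A.comap ι : Set G), h ∉ ({1, el cT} : Set G) := by
    by_contra hc
    push Not at hc
    have h1 := (Set.ncard_le_ncard hc).trans ((Set.ncard_insert_le _ _).trans (by rw [Set.ncard_singleton]))
    omega
  obtain ⟨⟨d, d1, d2⟩, h4⟩ := exists_inner (hH h hh) (hs h hh) (fun e => hn (Or.inl e)) fun e => hn (Or.inr e)
  have h5 : (A.comap ι : Set G) ⊆ {1, el cT, h, el cT * h} := fun e he =>
    h4 e (hH e he) (hs e he) (f.inj (by rw [map_mul, map_mul]; exact elemAb_comm hA he hh))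
  have h6 : ({1, el cT, h, el cT * h} : Set G).ncard ≤ 4 :=
    (Set.ncard_insert_le _ _).trans (Nat.succ_le_succ ((Set.ncard_insert_le _ _).trans (Nat.succ_le_succ
      ((Set.ncard_insert_le _ _).trans (by rw [Set.ncard_singleton])))))
  have h7 := (Set.ncard_le_ncard h5).trans h6
  have h9 := Set.eq_of_subset_of_ncard_le h5 (by omega)
  have h10 : el cT ∈ (A.comap ι : Set G) := by
    rw [h9]
    exact Or.inr (Or.inl rfl)
  exact ⟨by omega, h, d, h10, hh, d1, d2⟩

/-- the large case does not occur -/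
theorem Fr.large (f : Fr K ι s) (hi : Irr ρ K) (h12 : 12 ≤ cod ρ (zpowers (ι (el cZ)) ⊔ zpowers (ι (el cY))))
    {A : Subgroup Y} (hA : Off 2 ρ A) (hU : A ≤ f.U) (hK : ¬ A ≤ K) : False := by
  have := finite_G
  have hs : ∀ b ∈ A, b * b = 1 := fun b hb => (pow_two b).symm.trans (hA.1.2 b hb)
  have h6 : ∀ b ∈ A, b ∉ K → 6 ≤ cod ρ (zpowers b) := fun b hb hn => f.six_le h12 (hU hb) hn (hs b hb)
  obtain ⟨b₀, hb₀, hn₀⟩ := SetLike.not_le_iff_exists.1 hK
  obtain ⟨r, -, c1, c2⟩ := hA.exists_card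
  have c3 : 3 ≤ r := by
    have h1 := (h6 b₀ hb₀ hn₀).trans (cod_mono (zpowers_le.2 hb₀))
    omega
  obtain ⟨c4, h, d, ht, hh, d1, d2⟩ := f.struct hA.1 hU hK (c1 ▸ Nat.pow_le_pow_right (n := 2) (by norm_num) c3)
  have c5 : r ≤ 3 := (Nat.pow_le_pow_iff_right (a := 2) (by norm_num)).1 (c1 ▸ c4)
  have h1 : ∀ b ∈ A, b ∉ K → ∀ u, ρ b u - u ∈ fx ρ A := fun b hb hn u => by
    rw [fx_eq_of_cod_le (zpowers_le.2 hb) (by have := h6 b hb hn; omega)]
    exact sub_mem_fx (hs b hb) u
  have h2 : ∀ u, ρ (ι h) u - u ∈ fx ρ A := fun u => by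
    have h3 := add_mem (h1 _ (mul_mem hh hb₀) (fun e => hn₀ ((K.mul_mem_cancel_left (f.mem h)).1 e)) (ρ b₀ u))
      (h1 b₀ hb₀ hn₀ u)
    rwa [← rho_mul, mul_assoc, hs b₀ hb₀, mul_one, sub_add_sub_cancel] at h3
  have h3 := finrank_le_ten (ρ := ρ.comp ι) (fun U hU => hi U (by
    rintro b hb
    rw [← f.range] at hb
    obtain ⟨g, rfl⟩ := hb
    exact hU g trivial)) fun u => by
      obtain ⟨w, rfl⟩ : ∃ w, u = ρ (ι d) w := ⟨_, (rho_apply_inv ρ (ι d) u).symm⟩
      show ρ (ι (el cT)) (ρ (ι (el cT')) (ρ (ι d) w) - ρ (ι d) w) = ρ (ι (el cT')) (ρ (ι d) w) - ρ (ι d) w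
      rw [← rho_mul ρ (ι (el cT')), ← map_mul, ← d2, map_mul, rho_mul, ← map_sub, ← rho_mul ρ (ι (el cT)), ← map_mul,
        ← d1, map_mul, rho_mul, h2 w _ ht]
  have h4 := cod_le_finrank (ρ := ρ) (zpowers (ι (el cZ)) ⊔ zpowers (ι (el cY)))
  omega

/-- **the row of S3089 for `U₃(3)` in characteristic 2** -/
theorem row89_U33 {F : Type} [Field F] [Fintype F] (hF : Fintype.card F = 3 ^ 2) : Row89 2 (PSU 3 F 3) := by
  intro Y _ _ V _ _ _ K ρ h e A hA hi _ _ hK
  obtain ⟨ι, s, f⟩ := exists_fr hF h e fun e => hK (e ▸ le_top)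
  rcases dich (ρ := ρ.comp ι) (h.faithful.comp f.inj)
    (by rw [fx_comp, ← MonoidHom.range_eq_map, f.range, h.fx_K]) with h1 | h1
  · rw [cod_comp, MonoidHom.map_zpowers] at h1
    refine ⟨_, zpowers_le.2 (f.mem _), off_zpowers (orderOf_eq_prime ?_ ?_) h1⟩
    · rw [pow_two, ← map_mul, W4_sq, map_one]
    · exact fun e => W4_ne (f.inj (e.trans (map_one ι).symm))
  · rw [cod_comp, Subgroup.map_sup, MonoidHom.map_zpowers, MonoidHom.map_zpowers] at h1
    obtain ⟨g, hg⟩ := f.exists_conj (elemAb_isPGroup hA.1)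
    refine (f.large hi h1 (hA.conj g) hg fun h2 => hK fun a ha => ?_).elim
    have h3 := h.normal.conj_mem _ (h2 ⟨a, ha, rfl⟩) g⁻¹
    have h4 : g⁻¹ * (g * a * g⁻¹) * g⁻¹⁻¹ = a := by group
    exact h4 ▸ h3

end Cfsg.Agent.TwoF.XL.U33
end

-- part: TwoF/XL/UP2/Main
section
/-!
# TwoF / XL / UP2: the rows of `U₃(3)`, `U₃(5)`, `U₃(7)`, `U₅(3)`, `p = 2` (helper33)
-/

set_option autoImplicit false

namespace Cfsg.Agent.TwoF.XL.UP2

open Cfsg.Agent.TwoF.Gen Module Subgroup XE Matrix
open Cfsg.Agent.LieClassical.HermBasic Cfsg.Agent.LieClassical.HermSiegel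
open Cfsg.Agent.ClassicalGeometry.PSUAutCount (gm toAut gm_mul gm_one herm_gm gm_mulVec_inv eq_of_toAut_eq semiConj
  toAut_pr toAut_sc_mul gm_sc_mul gm_inj sc)
open Cfsg.Agent.ClassicalGeometry.UnitAutBasic (pr pr_surjective hL)
open Cfsg.Agent.Schreier.PSU (f₁ act_semiConj_one mapGU)
open Cfsg.Agent.Omega.TwoF

variable {F : Type} [Field F] [Fintype F] {q n : ℕ} (hF : Fintype.card F = q ^ 2)
include hF

/-- isotropic vectors in planes -/
theorem exists_iso {U : Submodule F (Fin n → F)} (h : 2 ≤ finrank F U) :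
    ∃ u ∈ U, u ≠ 0 ∧ hermForm n F q u u = 0 := by
  obtain ⟨v, hv, hv0⟩ := (Submodule.ne_bot_iff U).1 fun e => by
    rw [e, finrank_bot] at h
    omega
  by_cases h1 : hermForm n F q v v = 0
  · exact ⟨v, hv, hv0, h1⟩
  obtain ⟨x, hx, hx0⟩ := (Submodule.ne_bot_iff _).1 (LinearMap.ker_ne_bot_of_finrank_lt
    (f := (hL n q v).comp U.subtype) (by rw [finrank_self]; omega))
  have h2 : hermForm n F q x v = 0 := hx
  have h3 : hermForm n F q v x = 0 := by rw [herm_swap hF, h2, zero_pow_q hF]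
  obtain ⟨c, hc⟩ := _root_.Cfsg.Agent.LieClassical.HermBasic.exists_norm_eq hF (c := -hermForm n F q x x / hermForm n F q v v) (by
    rw [div_pow, neg_pow_q hF, ← herm_swap hF, ← herm_swap hF])
  refine ⟨c • v + x, add_mem (U.smul_mem c hv) x.2, fun e => hx0 (Subtype.ext ?_), ?_⟩
  · have h4 := congrArg (fun y => hermForm n F q y v) e
    simp only [herm_add_left, herm_smul_left, herm_zero_left, h2, add_zero] at h4
    rwa [(mul_eq_zero.1 h4).resolve_right h1, zero_smul, zero_add] at e
  · rw [herm_add_left, herm_add_right hF, herm_add_right hF, herm_smul_left, herm_smul_left, herm_smul_right,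
      herm_smul_right, h2, h3, ← mul_assoc, hc]
    field_simp
    ring

/-- eigenvectors of a matrix whose square is a scalar -/
theorem exists_pair (hn : 3 ≤ n) (h2 : (2 : F) ≠ 0) {D : Matrix (Fin n) (Fin n) F} {a : F} (ha : a ≠ 0)
    (hD : ∀ v, D *ᵥ (D *ᵥ v) = (a * a) • v) (hs : ∀ c : F, c = a ∨ c = -a → ¬ ∀ v, D *ᵥ v = c • v) :
    ∃ (s : F) (u w : Fin n → F), (s = a ∨ s = -a) ∧ u ≠ 0 ∧ hermForm n F q u u = 0 ∧ w ≠ 0 ∧
      D *ᵥ u = s • u ∧ D *ᵥ w = -s • w := by
  let E : F → Submodule F (Fin n → F) := fun s => LinearMap.ker (Matrix.toLin' D - s • LinearMap.id)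
  have hE : ∀ s v, v ∈ E s ↔ D *ᵥ v = s • v := fun s v => by
    rw [LinearMap.mem_ker, LinearMap.sub_apply, sub_eq_zero, Matrix.toLin'_apply]
    rfl
  have h3 : ∀ s v, s * s = a * a → s • v + D *ᵥ v ∈ E s := fun s v e => by
    rw [hE, mulVec_add, mulVec_smul, hD, ← e]
    module
  have h4 : ∀ s, s = a ∨ s = -a → ∃ w, w ≠ 0 ∧ D *ᵥ w = -s • w := fun s e => by
    by_contra h5
    push Not at h5
    refine hs s e fun v => ?_
    have h6 := h3 (-s) v (by rcases e with rfl | rfl <;> ring)
    by_contra h7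
    refine h5 _ (fun e => h7 ?_) ((hE _ _).1 h6)
    linear_combination (norm := module) e
  have h5 : E a ⊔ E (-a) = ⊤ := eq_top_iff.2 fun v _ => by
    have e : v = (2 * a)⁻¹ • ((a • v + D *ᵥ v) - (-a • v + D *ᵥ v)) := by
      have : (a • v + D *ᵥ v) - (-a • v + D *ᵥ v) = (2 * a) • v := by module
      rw [this, smul_smul, inv_mul_cancel₀ (mul_ne_zero h2 ha), one_smul]
    rw [e]
    exact Submodule.smul_mem _ _ (sub_mem (Submodule.mem_sup_left (h3 a v rfl))
      (Submodule.mem_sup_right (h3 (-a) v (neg_mul_neg a a))))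
  have h6 := Submodule.finrank_sup_add_finrank_inf_eq (E a) (E (-a))
  rw [h5, finrank_top, finrank_fin_fun] at h6
  obtain ⟨s, e, h7⟩ : ∃ s, (s = a ∨ s = -a) ∧ 2 ≤ finrank F (E s) := by
    by_cases h7 : 2 ≤ finrank F (E a)
    · exact ⟨a, Or.inl rfl, h7⟩
    · exact ⟨-a, Or.inr rfl, by omega⟩
  obtain ⟨u, hu, hu0, huu⟩ := exists_iso hF h7
  obtain ⟨w, hw0, hw⟩ := h4 s e
  exact ⟨s, u, w, e, hu0, huu, hw0, (hE _ _).1 hu, hw⟩

/-- linear involutions in odd dimension -/
theorem exists_eig (hn : 3 ≤ n) (ho : Odd n) (h2 : (2 : F) ≠ 0) {C : GU n F q}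
    (h1 : (toAut C 1 : MulAut (PSU n F q)) ≠ 1) (hC : (toAut C 1 : MulAut (PSU n F q)) ^ 2 = 1) :
    ∃ (s : F) (u w : Fin n → F), s * s ^ q = 1 ∧ u ≠ 0 ∧ hermForm n F q u u = 0 ∧ w ≠ 0 ∧
      gm C *ᵥ u = s • u ∧ gm C *ᵥ w = -s • w := by
  obtain ⟨j, rfl⟩ := ho
  obtain ⟨-, c, hc, e⟩ := eq_of_toAut_eq hF hn (A := 1) (A' := C * C) (ρ := 1) (ρ' := 1) (by
    rw [RkPSU.toAut_one, RkPSU.toAut_one, map_one, map_mul, ← pow_two, ← RkPSU.toAut_one, hC])
  rw [gm_mul, gm_one] at e
  have hc0 : c ≠ 0 := left_ne_zero_of_mul_eq_one hc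
  have h3 := congrArg det e
  rw [det_mul, det_smul, det_one, mul_one, Fintype.card_fin] at h3
  have h4 := ClassicalGeometry.GUBasic.det_pow hF (herm_gm C)
  have h5 : (gm C).det / c ^ j * ((gm C).det / c ^ j) = c := by
    rw [div_mul_div_comm, h3]
    field_simp
    ring
  have h6 : (gm C).det / c ^ j * ((gm C).det / c ^ j) ^ q = 1 := by
    rw [div_pow, div_mul_div_comm, ← pow_succ', h4, ← pow_mul, mul_comm j q, pow_mul, ← mul_pow, hc, one_pow, div_one]
  have h7 : ∀ s : F, s = (gm C).det / c ^ j ∨ s = -((gm C).det / c ^ j) → s * s ^ q = 1 := by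
    rintro _ (rfl | rfl)
    · exact h6
    · rw [neg_pow_q hF, neg_mul_neg, h6]
  obtain ⟨s, u, w, h8, h9⟩ := exists_pair hF hn h2 (D := gm C) (left_ne_zero_of_mul_eq_one h6)
    (fun v => by rw [mulVec_mulVec, e, h5, smul_mulVec, one_mulVec]) fun s hs h => h1 (by
      have : C = sc _ ⟨s, h7 s hs⟩ * 1 := gm_inj (by
        rw [gm_sc_mul, gm_one]
        ext i l
        simpa [Matrix.one_apply, Pi.single_apply] using congrFun (h (Pi.single l 1)) i)
      rw [this, toAut_sc_mul, RkPSU.toAut_one, map_one])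
  exact ⟨s, u, w, h7 s h8, h9⟩

theorem conj_eig {C : GU n F q} {s μ : F} {u w : Fin n → F} (hs : s * s ^ q = 1) (hu : gm C *ᵥ u = s • u)
    (hw : gm C *ᵥ w = -s • w) (h : IsSiegel q u w μ) (h' : IsSiegel q u (-w) μ) :
    semiConj C 1 (siegel hF u w μ h) = siegel hF u (-w) μ h' := by
  refine ext_act fun y => ?_
  rw [← gm_mulVec_inv C y, act_semiConj_one]
  generalize gm C⁻¹ *ᵥ y = x
  have h1 : hermForm n F q (gm C *ᵥ x) u = s * hermForm n F q x u := by
    rw [← herm_gm C x u, hu, herm_smul_right, ← mul_assoc, hs, one_mul]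
  have h2 : hermForm n F q (gm C *ᵥ x) w = -s * hermForm n F q x w := by
    rw [← herm_gm C x w, hw, herm_smul_right, neg_pow_q hF, ← mul_assoc, neg_mul_neg, hs, one_mul]
  rw [act_siegel, act_siegel, herm_neg_right hF, h1, h2, mulVec_add, mulVec_add, mulVec_smul, mulVec_smul, hu, hw]
  module

variable (hn : 3 ≤ n) (h32 : ¬ (n = 3 ∧ q = 2)) (hexc : (n, q) ∉ ({(4, 2), (4, 3), (6, 2)} : Set (ℕ × ℕ)))
include hn h32 hexc

theorem exists_lift {p : ℕ} [Fact p.Prime] {Y : Type} [Group Y] [Finite Y] {V : Type} [AddCommGroup V]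
    [Module (ZMod p) V] {K : Subgroup Y} {ρ : Representation (ZMod p) Y V} {π : K →* PSU n F q}
    {φ : Y →* MulAut (PSU n F q)} (H : Sit p K ρ π φ) : ∃ ι : SU n F q →* Y, Cen ρ ι ∧
      ∀ (y : Y) (C : GU n F q) (τ : F ≃+* F), φ y = toAut C τ → ∀ g, y * ι g * y⁻¹ = ι (semiConj C τ g) := by
  have hp := LieClassical.HermPerfect.commutator_SU_eq_top hF hn h32
  have hk : (pr n F q).ker = center (SU n F q) := QuotientGroup.ker_mk' _
  have : NeZero (Nat.gcd n (q + 1)) := ⟨fun h => absurd (Nat.gcd_eq_zero_iff.1 h).1 (by omega)⟩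
  obtain ⟨ι, L⟩ := exists_lf H hp pr_surjective hk.le (S2089.result n q hF hn h32 hexc) (by
    rw [hk, S0279.result hF n hn, Nat.card_congr Multiplicative.toAdd, Nat.card_zmod])
  have := H.normal
  exact ⟨ι, L.cen H.faithful hk.le, fun y C τ hy => L.conj H.toFrm hp (α := (semiConj C τ).toMonoidHom)
    fun g => by rw [hy]; exact (toAut_pr C τ g).symm⟩

variable {r : ℕ} [Fact r.Prime] [CharP F r] (hr : r ≠ 2)
include hr

omit [Fintype F] hF hn h32 hexc in
theorem two_ne : (2 : F) ≠ 0 := fun h =>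
  hr ((Nat.prime_dvd_prime_iff_eq Fact.out Nat.prime_two).1 ((CharP.cast_eq_zero_iff F r 2).1 (by exact_mod_cast h)))

/-- **linear involutions** -/
theorem le_lin (ho : Odd n) {C : GU n F q} (h1 : (toAut C 1 : MulAut (PSU n F q)) ≠ 1)
    (hC : (toAut C 1 : MulAut (PSU n F q)) ^ 2 = 1) {c : ℕ}
    (hc : r * (2 * (c - 1)) < (r - 1) * ((q - 1) * q ^ (n - 2))) : Le 2 (toAut C 1 : MulAut (PSU n F q)) c := by
  have h2 : (2 : F) ≠ 0 := two_ne hr
  obtain ⟨s, u, w, hs, hu0, huu, hw0, hu, hw⟩ := exists_eig hF hn ho h2 h1 hC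
  have hwu : hermForm n F q w u = 0 := by
    have := herm_gm C w u
    rw [hu, hw, herm_smul_left, herm_smul_right, ← mul_assoc, neg_mul, hs] at this
    exact (mul_eq_zero.1 (by linear_combination -this : 2 * hermForm n F q w u = 0)).resolve_left h2
  obtain ⟨μ, hμ⟩ := exists_trace_eq hF (c := -hermForm n F q w w) (by rw [neg_pow_q hF, ← herm_swap hF])
  have h : IsSiegel q u w μ := ⟨huu, hwu, by linear_combination hμ⟩
  have h' : IsSiegel q u (-w) μ := ⟨huu, by rw [herm_neg_left, hwu, neg_zero], by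
    rw [herm_neg_left, herm_neg_right hF]; linear_combination hμ⟩
  have h3 : ∀ a : F, -w + -w ≠ a • u := fun a e => by
    have h4 := congrArg (gm C *ᵥ ·) e
    simp only [mulVec_add, mulVec_neg, mulVec_smul, hu, hw] at h4
    have h5 : (2 * 2 * s) • w = 0 := by linear_combination (norm := module) h4 - s • e
    exact hw0 ((smul_eq_zero.1 h5).resolve_left (mul_ne_zero (mul_ne_zero h2 h2) (left_ne_zero_of_mul_eq_one hs)))
  refine le_of_elt fun Y _ _ V _ _ _ K ρ π φ H y hy => ?_
  obtain ⟨ι, hι, hj⟩ := exists_lift hF hn h32 hexc H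
  have h4 := cod_zpowers_commutator_le (ρ := ρ) y (ι (siegel hF u w μ h))
  rw [hj y C 1 hy, conj_eig hF hs hu hw h h', ← map_inv, ← map_mul, siegel_inv, siegel_mul,
    ← MonoidHom.map_zpowers, ← cod_comp] at h4
  have h5 := cod_siegel hF (σ := ρ.comp ι) hr (cast_ne_zero Fact.out hr) hn hι hu0 (h'.mul hF (h.inv hF)) h3
  by_contra h6
  have h7 : r * (2 * cod ρ (zpowers y)) ≤ r * (2 * (c - 1)) := Nat.mul_le_mul_left _ (by omega)
  have h8 := Nat.mul_le_mul_left r h4
  omega

/-- all involutions -/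
theorem le_three (h42 : ¬ (n = 4 ∧ q = 2)) (hc : (n + 2) * 2 < (q - 1) * q ^ (n - 2)) {α : MulAut (PSU n F q)}
    (h1 : α ≠ 1) (h2 : α ^ 2 = 1) : Le 2 α 3 := by
  refine le_of_elt fun Y _ _ V _ _ _ K ρ π φ H y hy => ?_
  obtain ⟨ι, hι, -⟩ := exists_lift hF hn h32 hexc H
  obtain ⟨u, -, hu0, hu⟩ := exists_iso hF (U := (⊤ : Submodule F (Fin n → F)))
    (by rw [finrank_top, finrank_fin_fun]; omega)
  have h3 := (cod_Z hF (σ := ρ.comp ι) hr (cast_ne_zero Fact.out hr) hn hι hu0 hu).trans (cod_le_finrank _)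
  have h4 := finrank_le_of_reach H (a := y) (reach_U' hF hn h32 h42 (by
    rw [hy, orderOf_eq_prime h2 h1]; exact Nat.prime_two))
  by_contra h5
  have h6 : (n + 2) * cod ρ (zpowers y) ≤ (n + 2) * 2 := Nat.mul_le_mul_left _ (by omega)
  omega

omit hexc hr [Fact r.Prime] [CharP F r] in
theorem exists_lin {E : Subgroup (MulAut (PSU n F q))} (hE : ∀ α ∈ E, α ^ 2 = 1) (hc : 2 < Nat.card E) :
    ∃ C : GU n F q, toAut C 1 ∈ E ∧ (toAut C 1 : MulAut (PSU n F q)) ≠ 1 := by
  classical
  have key : ∀ s : Finset (MulAut (PSU n F q)), s.card ≤ 2 → ∃ a ∈ E, a ∉ s := fun s hs => by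
    by_contra h
    push Not at h
    have := Nat.card_le_card_of_injective (fun a : E => (⟨a, h a a.2⟩ : s))
      fun a b e => Subtype.ext (congrArg Subtype.val e :)
    rw [Nat.card_eq_fintype_card (α := s), Fintype.card_coe] at this
    omega
  obtain ⟨α, hα, h1⟩ := key {1} (by simp)
  obtain ⟨β, hβ, h2⟩ := key {1, α} Finset.card_le_two
  simp only [Finset.mem_insert, Finset.mem_singleton, not_or] at h1 h2
  obtain ⟨C, σ, rfl⟩ := ClassicalGeometry.PSUAutMain.exists_toAut hF hn h32 α
  obtain ⟨D, τ, rfl⟩ := ClassicalGeometry.PSUAutMain.exists_toAut hF hn h32 β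
  have hsq : ∀ (C : GU n F q) (σ : F ≃+* F), toAut C σ ∈ E → σ * σ = 1 := fun C σ h =>
    (eq_of_toAut_eq hF hn (A := 1) (ρ := 1) (by
      rw [RkPSU.toAut_one, map_one, ← RkPSU.toAut_mul C C, ← pow_two, hE _ h])).1
  by_cases h3 : σ = 1
  · subst h3
    exact ⟨C, hα, h1⟩
  by_cases h4 : τ = 1
  · subst h4
    exact ⟨D, hβ, h2.1⟩
  obtain rfl := RkPSL.field_inv_unique (hsq C σ hα) (hsq D τ hβ) h3 h4
  have h5 := RkPSU.toAut_mul C D σ σ
  rw [hsq C σ hα] at h5
  refine ⟨_, h5 ▸ mul_mem hα hβ, fun e => h2.2 ?_⟩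
  rw [← h5] at e
  exact mul_left_cancel (e.trans ((pow_two _).symm.trans (hE _ hα)).symm)

omit h32 hexc in
theorem card_le {E : Subgroup (MulAut (PSU n F q))} (hE : IsElementaryAbelian 2 E) :
    Nat.card E ≤ 2 ^ (RkLin.rk n + 1) :=
  RkPSU.rkAut hF (two_ne hr) hn E fun x hx => (pow_two x).symm.trans (hE.2 x hx)

/-- **the generic rows** -/
theorem noOff_gen (ho : Odd n) (hc : (n + 2) * 2 < (q - 1) * q ^ (n - 2))
    (hd : r * (2 * (2 * (RkLin.rk n + 1))) < (r - 1) * ((q - 1) * q ^ (n - 2))) : NoOff 2 (PSU n F q) := by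
  refine noOff_of_lo fun E hE j hj hcard => ?_
  have h1 := card_le hF hn hr hE
  rw [hcard, Nat.pow_le_pow_iff_right one_lt_two] at h1
  by_cases h2 : j = 1
  · obtain ⟨α, hα, h3⟩ := exists_ne_one hj hcard
    subst h2
    exact (le_three hF hn h32 hexc hr (fun h => by rw [h.1] at ho; exact absurd ho (by decide)) hc h3
      (hE.2 α hα)).lo hα
  · obtain ⟨C, hC, h3⟩ := exists_lin hF hn h32 hE.2 (by
      rw [hcard]
      exact lt_of_lt_of_le (by norm_num) (Nat.pow_le_pow_right two_pos (by omega : 2 ≤ j)))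
    exact ((le_lin hF hn h32 hexc hr ho h3 (hE.2 _ hC) (c := 2 * (RkLin.rk n + 1) + 1) hd).lo hC).le (by omega)

end Cfsg.Agent.TwoF.XL.UP2

namespace Cfsg.Agent.TwoF.XL

open Gen UP2

/-- **`p = 2`, small unitary groups in odd characteristic** -/
theorem up2 : UP2 := by
  intro F _ _ n q hF h
  have hq : q.Prime := by rcases h with ⟨-, rfl | rfl | rfl⟩ | ⟨-, rfl⟩ <;> norm_num
  have := Fact.mk hq
  have : CharP F q := by
    obtain ⟨p, k, hp, hc, e, -⟩ := LieClassical.HermBasic.exists_prime_pow hF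
    have := Fact.mk hp
    rwa [(Nat.prime_dvd_prime_iff_eq hp hq).1 (ClassicalGeometry.PSUAutSylow.prime_dvd_q p hF)] at hc
  rcases h with ⟨rfl, rfl | rfl | rfl⟩ | ⟨rfl, rfl⟩
  · exact ⟨row88_of_rank fun E hE => card_le hF le_rfl (r := 3) (by decide) hE, U33.row89_U33 hF⟩
  all_goals
    exact (noOff_gen hF (by omega) (by omega) (by simp) (by decide) (by decide) (by decide) (by decide)).row

end Cfsg.Agent.TwoF.XL
end
end
end
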